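import Cfsg.Agent.EqLemmas
/-!
# Fixity four: elementary facts (helper20)
-/

set_option autoImplicit false

namespace Cfsg.Agent.FixityFour

open MulAction
open scoped Pointwise

variable {G : Type*} [Group G] {Ω : Type*} [MulAction G Ω]

/-- No non-identity element fixes more than four points. -/
def FixLE (G : Type*) [Group G] (Ω : Type*) [MulAction G Ω] : Prop :=
  ∀ g : G, g ≠ 1 → Nat.card (fixedBy Ω g) ≤ 4

/-- An involution with exactly four fixed points. -/
def Four (Ω : Type*) {G : Type*} [Group G] [MulAction G Ω] (x : G) : Prop :=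
  orderOf x = 2 ∧ Nat.card (fixedBy Ω x) = 4

/-- Every involution fixes no point or exactly four. -/
def ZeroFour (G : Type*) [Group G] (Ω : Type*) [MulAction G Ω] : Prop :=
  ∀ x : G, orderOf x = 2 → Nat.card (fixedBy Ω x) = 0 ∨ Nat.card (fixedBy Ω x) = 4

theorem ZeroFour.four [Finite Ω] (h : ZeroFour G Ω) {x : G} (hx : orderOf x = 2) {b : Ω} (hb : x • b = b) :
    Four Ω x := by
  refine ⟨hx, (h x hx).resolve_left fun h0 => ?_⟩
  have : IsEmpty (fixedBy Ω x) := Finite.card_eq_zero_iff.mp h0
  exact this.elim ⟨b, hb⟩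

theorem fixedBy_conj (g x : G) : fixedBy Ω (g * x * g⁻¹) = g • fixedBy Ω x := (smul_fixedBy Ω x g).symm

theorem card_fixedBy_conj (g x : G) : Nat.card (fixedBy Ω (g * x * g⁻¹)) = Nat.card (fixedBy Ω x) := by
  rw [fixedBy_conj, Nat.card_coe_set_eq, Set.ncard_smul_set, Nat.card_coe_set_eq]

theorem orderOf_conj (g x : G) : orderOf (g * x * g⁻¹) = orderOf x := by
  rw [← MulAut.conj_apply, MulEquiv.orderOf_eq]

theorem Four.conj {x : G} (h : Four Ω x) (g : G) : Four Ω (g * x * g⁻¹) :=
  ⟨(orderOf_conj g x).trans h.1, (card_fixedBy_conj g x).trans h.2⟩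

theorem Four.ne_one {x : G} (h : Four Ω x) : x ≠ 1 := fun e => by
  have := h.1; rw [e, orderOf_one] at this; omega

theorem Four.mul_self {x : G} (h : Four Ω x) : x * x = 1 := by
  rw [← pow_two, ← h.1]; exact pow_orderOf_eq_one x

theorem inv_eq_of_mul_self {x : G} (h : x * x = 1) : x⁻¹ = x := inv_eq_of_mul_eq_one_right h

theorem orderOf_eq_two {x : G} (h : x * x = 1) (h1 : x ≠ 1) : orderOf x = 2 :=
  orderOf_eq_prime (by rwa [pow_two]) h1

theorem eq_one_of_five [Finite Ω] (h : FixLE G Ω) {g : G} {s : Set Ω} (hs : 5 ≤ s.ncard)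
    (hsub : s ⊆ fixedBy Ω g) : g = 1 := by
  by_contra hg
  have h1 := h g hg
  rw [Nat.card_coe_set_eq] at h1
  have := Set.ncard_le_ncard hsub (Set.toFinite _)
  omega

/-- Two distinct sets of four points have at least five points together. -/
theorem five_le_union [Finite Ω] {s t : Set Ω} (hs : s.ncard = 4) (ht : t.ncard = 4) (hne : s ≠ t) :
    5 ≤ (s ∪ t).ncard := by
  by_contra hlt
  refine hne ?_
  have h1 := Set.eq_of_subset_of_ncard_le (s := s) (t := s ∪ t) Set.subset_union_left (by omega) (Set.toFinite _)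
  have h2 := Set.eq_of_subset_of_ncard_le (s := t) (t := s ∪ t) Set.subset_union_right (by omega) (Set.toFinite _)
  exact h1.trans h2.symm

/-- An element fixing four given points pointwise, not the identity, fixes exactly these. -/
theorem fixedBy_eq_of_subset [Finite Ω] (h : FixLE G Ω) {g : G} (hg : g ≠ 1) {s : Set Ω} (hs : s.ncard = 4)
    (hsub : s ⊆ fixedBy Ω g) : fixedBy Ω g = s := by
  have h1 := h g hg
  rw [Nat.card_coe_set_eq] at h1
  exact (Set.eq_of_subset_of_ncard_le hsub (by omega) (Set.toFinite _)).symm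

theorem smul_mem_fixedBy_of_commute {g x : G} (hc : g * x = x * g) {b : Ω} (hb : x • b = b) :
    x • g • b = g • b := by rw [smul_smul, ← hc, mul_smul, hb]

/-- An element of order divisible by two has a power which is an involution. -/
theorem exists_involution_zpowers {d : G} (hd : 2 ∣ orderOf d) (hfin : IsOfFinOrder d) :
    ∃ y ∈ Subgroup.zpowers d, orderOf y = 2 := by
  refine ⟨d ^ (orderOf d / 2), pow_mem (Subgroup.mem_zpowers d) _, ?_⟩
  obtain ⟨k, hk⟩ := hd
  have h0 : orderOf d ≠ 0 := hfin.orderOf_pos.ne'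
  rw [orderOf_pow' d (by omega)]
  rw [hk, Nat.mul_div_cancel_left k two_pos, Nat.gcd_eq_right ⟨2, by ring⟩, Nat.mul_div_cancel _ (by omega)]

theorem smul_eq_of_mem_zpowers {d y : G} (hy : y ∈ Subgroup.zpowers d) {b : Ω} (hb : d • b = b) :
    y • b = b := by
  have : Subgroup.zpowers d ≤ stabilizer G b := Subgroup.zpowers_le.mpr hb
  exact this hy

end Cfsg.Agent.FixityFour
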