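import Cfsg.Agent.Lib.FixityFour.GoodBound
import Cfsg.Agent.Lib.Fixity.TwoGroup
import Cfsg.Agent.Lib.Sectional.DirectFour
/-!
# Fixity four: a central involution with four fixed points (helper20)
-/

set_option autoImplicit false

namespace Cfsg.Agent.FixityFour

open MulAction Subgroup
open scoped Pointwise

variable {P : Type*} [Group P] [Finite P] {Ω : Type*} [MulAction P Ω] [Finite Ω]

theorem Four.ncard {x : P} (h : Four Ω x) : (fixedBy Ω x).ncard = 4 := by
  rw [← Nat.card_coe_set_eq]; exact h.2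

/-- An involution in a subgroup of index two with elementary abelian complement data is central, or one
    outside such a subgroup leads to a central four-fixing involution with the same fixed points. -/
theorem outside_elementary (hP : IsPGroup 2 P) (hfix : FixLE P Ω) (hz : ZeroFour P Ω)
    (h64 : Nat.card P ≤ 64) {M : Subgroup P} (hM : Nat.card M = 32) (hM2 : ∀ m ∈ M, m ^ 2 = 1) {x : P}
    (hx : Four Ω x) (hxM : x ∉ M) : ∃ q : P, Four Ω q ∧ fixedBy Ω q = fixedBy Ω x ∧ ∀ s : P, s * q = q * s := by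
  have : Fact (Nat.Prime 2) := ⟨Nat.prime_two⟩
  have hcM : ∀ a ∈ M, ∀ b ∈ M, a * b = b * a := fun a ha b hb => by
    have h1 : a * b * (a * b) = 1 := by rw [← pow_two]; exact hM2 _ (mul_mem ha hb)
    have ha' := inv_eq_of_mul_self (show a * a = 1 by rw [← pow_two]; exact hM2 a ha)
    have hb' := inv_eq_of_mul_self (show b * b = 1 by rw [← pow_two]; exact hM2 b hb)
    rw [← inv_eq_of_mul_self h1, mul_inv_rev, ha', hb']
  have hidx : M.index = 2 := by
    have h1 := M.card_mul_index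
    rw [hM] at h1
    have h2 : M.index ≠ 1 := fun e => hxM (by rw [index_eq_one.mp e]; exact mem_top x)
    have h3 : M.index ≠ 0 := index_ne_zero_of_finite
    omega
  have hn : M.Normal := normal_of_index_eq_two hidx
  have hx2 := hx.mul_self
  have hxi := inv_eq_of_mul_self hx2
  set Q := M ⊓ centralizer ({x} : Set P)
  -- the commutator map into `Q`
  have himg : ∀ m ∈ M, x * m * x⁻¹ * m ∈ Q := by
    intro m hm
    have h1 : x * m * x⁻¹ ∈ M := hn.conj_mem m hm x
    refine Subgroup.mem_inf.mpr ⟨mul_mem h1 hm, mem_centralizer_singleton_iff.mpr ?_⟩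
    rw [hxi] at h1 ⊢
    calc x * m * x * m * x = x * m * x * (m * (x * x)) * x := by rw [hx2, mul_one]
      _ = x * m * x * (m * x) * (x * x) := by simp only [mul_assoc]
      _ = x * (m * (x * m * x)) := by rw [hx2, mul_one]; simp only [mul_assoc]
      _ = x * (x * m * x * m) := by rw [hcM _ hm _ h1]
  have hker : ∀ u ∈ M, ∀ v ∈ M, x * u * x⁻¹ * u = x * v * x⁻¹ * v → u⁻¹ * v ∈ Q := by
    intro u hu v hv e
    refine Subgroup.mem_inf.mpr ⟨mul_mem (inv_mem hu) hv, mem_centralizer_singleton_iff.mpr ?_⟩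
    have hui := inv_eq_of_mul_self (show u * u = 1 by rw [← pow_two]; exact hM2 u hu)
    have hvi := inv_eq_of_mul_self (show v * v = 1 by rw [← pow_two]; exact hM2 v hv)
    have h1 : x * u * x⁻¹ ∈ M := hn.conj_mem u hu x
    have h2 : x * v * x⁻¹ ∈ M := hn.conj_mem v hv x
    have e2 : x * (u⁻¹ * v) * x⁻¹ = u⁻¹ * v := by
      have e3 : x * v * x⁻¹ = x * u * x⁻¹ * u * v := by rw [e, mul_assoc _ v v, show v * v = 1 by rw [← pow_two]; exact hM2 v hv, mul_one]
      calc x * (u⁻¹ * v) * x⁻¹ = (x * u * x⁻¹)⁻¹ * (x * v * x⁻¹) := by group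
        _ = (x * u * x⁻¹)⁻¹ * (x * u * x⁻¹) * (u * v) := by rw [e3]; simp only [mul_assoc]
        _ = u⁻¹ * v := by rw [inv_mul_cancel, one_mul, hui]
    exact (mul_inv_eq_iff_eq_mul.mp e2).symm
  have h1 := card_le_mul_of_fibers M Q (Q : Set P) (Set.toFinite _) (fun m => x * m * x⁻¹ * m) himg hker
  rw [← Nat.card_coe_set_eq, hM] at h1
  simp only [SetLike.coe_sort_coe] at h1
  have hQ8 : 2 ^ 3 ≤ Nat.card Q := pow_two_ge hP Q (n := 2) (by nlinarith)
  -- `Q` is central
  have hQc : ∀ q ∈ Q, ∀ s : P, s * q = q * s := by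
    intro q hq s
    by_cases hs : s ∈ M
    · exact hcM s hs q hq.1
    · have hsx : s * x⁻¹ ∈ M := by
        rw [mul_mem_iff_of_index_two hidx, Subgroup.inv_mem_iff]; exact iff_of_false hs hxM
      calc s * q = s * x⁻¹ * (x * q) := by rw [← mul_assoc, inv_mul_cancel_right]
        _ = s * x⁻¹ * q * x := by rw [← mem_centralizer_singleton_iff.mp hq.2, ← mul_assoc]
        _ = q * (s * x⁻¹ * x) := by rw [hcM _ hsx q hq.1, mul_assoc]
        _ = q * s := by rw [inv_mul_cancel_right]
  have h4 := hx.ncard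
  have h5 := comm_four_points Q h4
    (fun q hq => fixedBy_invariant ((hQc q hq x).symm))
    (fun u hu v hv b _ => by rw [hQc v hv u])
  obtain ⟨q, hq, hq1⟩ : ∃ q ∈ Q ⊓ pointwise P (fixedBy Ω x), q ≠ 1 := by
    by_contra hn'
    push_neg at hn'
    rw [(Subgroup.eq_bot_iff_forall _).mpr hn', card_bot] at h5
    omega
  have hfx := fixedBy_eq_of_subset hfix hq1 h4 (fun b hb => mem_pointwise.mp hq.2 b hb)
  exact ⟨q, ⟨orderOf_eq_two (by rw [← pow_two]; exact hM2 q hq.1.1) hq1, by rw [hfx]; exact hx.2⟩, hfx, hQc q hq.1⟩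

/-- A cyclic subgroup of index two in a dihedral or quasidihedral group. -/
theorem exists_half {X : Type*} [Group X] [Finite X]
    (h : (∃ n : ℕ, Nonempty (X ≃* DihedralGroup n)) ∨ Cfsg.IsQuasiDihedral X) :
    ∃ c : X, Nat.card X ≤ 2 * orderOf c := by
  rcases h with ⟨n, ⟨e⟩⟩ | ⟨n, -, hn, x, -, hx, -, -⟩
  · have hc : Nat.card X = 2 * n := (Nat.card_congr e.toEquiv).trans DihedralGroup.nat_card
    refine ⟨e.symm (DihedralGroup.r 1), ?_⟩
    rw [MulEquiv.orderOf_eq, DihedralGroup.orderOf_r_one, hc]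
  · exact ⟨x, by rw [hn, hx, pow_succ]; omega⟩

/-- A central four-fixing involution: small sectional rank, or all four-fixing involutions share its
fixed points. -/
theorem central_case (hP : IsPGroup 2 P) (hfix : FixLE P Ω) (hz : ZeroFour P Ω) {z : P} (hz4 : Four Ω z)
    (hzc : ∀ s : P, s * z = z * s) :
    Cfsg.SectionalPRankLE 2 4 P ∨ ∀ s : P, Four Ω s → fixedBy Ω s = fixedBy Ω z := by
  by_contra hcon
  push_neg at hcon
  obtain ⟨hr, v₀, hv₀, hv₀Δ⟩ := hcon
  set Δ := fixedBy Ω z with hΔ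
  have hΔ4 : Δ.ncard = 4 := hz4.ncard
  have hinv : ∀ s : P, s • Δ = Δ := fun s => fixedBy_invariant (hzc s)
  set W := pointwise P Δ with hW
  have : W.Normal := pointwise_normal hinv
  have hP8 : Nat.card P ≤ 8 * Nat.card W := by
    have := two_group_four_points hP ⊤ hΔ4 (fun u _ => hinv u)
    rwa [card_top, top_inf_eq] at this
  have hsmall : Nat.card P ≤ 16 → False := fun h16 => hr (Sectional.sectionalPRankLE_of fun H N _ _ =>
    ((card_le_card_group H).trans h16).trans (Nat.le_mul_of_pos_right _ Nat.card_pos))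
  -- `W` acts semiregularly outside `Δ`
  have hWfree : ∀ w ∈ W, ∀ b : Ω, b ∉ Δ → w • b = b → w = 1 := fun w hw b hb hwb => by
    refine eq_one_of_five hfix (s := insert b Δ) (by rw [Set.ncard_insert_of_notMem hb, hΔ4]) ?_
    rintro e (rfl | he)
    · exact hwb
    · exact mem_pointwise.mp hw e he
  have houtside : ∀ v : P, Four Ω v → fixedBy Ω v ≠ Δ → ∃ b ∈ fixedBy Ω v, b ∉ Δ := fun v hv hne => by
    by_contra hn
    push_neg at hn
    exact hne (Set.eq_of_subset_of_ncard_le hn (by rw [hΔ4, hv.ncard]))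
  have hWv : ∀ v : P, Four Ω v → fixedBy Ω v ≠ Δ → ∀ T : Set Ω, fixedBy Ω v \ Δ ⊆ T →
      Nat.card (W ⊓ centralizer ({v} : Set P) : Subgroup P) ≤ T.ncard := by
    intro v hv hne T hT
    obtain ⟨b, hb, hbΔ⟩ := houtside v hv hne
    have h1 := card_le_orbit (W ⊓ centralizer ({v} : Set P)) b T fun u hu => hT
      ⟨smul_mem_fixedBy_of_commute (mem_centralizer_singleton_iff.mp hu.2) hb, fun hm => hbΔ (by
        have := mem_pointwise.mp (inv_mem hu.1) _ hm
        rw [inv_smul_smul] at this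
        rw [this]; exact hm)⟩
    rwa [show W ⊓ centralizer ({v} : Set P) ⊓ stabilizer P b = ⊥ from
      (Subgroup.eq_bot_iff_forall _).mpr fun u hu => hWfree u hu.1.1 b hbΔ hu.2, card_bot, mul_one] at h1
  -- the other involutions have no fixed point in `Δ`
  have hnofix : ∀ v : P, Four Ω v → fixedBy Ω v ≠ Δ → ∀ a ∈ Δ, v • a ≠ a := by
    intro v hv hne a ha hva
    have h2 : Nat.card (W ⊓ centralizer ({v} : Set P) : Subgroup P) ≤ 2 := by
      refine pow_two_le hP _ (n := 1) ?_
      have h1 := hWv v hv hne _ subset_rfl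
      have h3 : (fixedBy Ω v \ Δ).ncard ≤ 3 := by
        have := Set.ncard_le_ncard (show fixedBy Ω v \ Δ ⊆ fixedBy Ω v \ {a} from
          Set.sdiff_subset_sdiff_right (Set.singleton_subset_iff.mpr ha)) (Set.toFinite _)
        rw [Set.ncard_sdiff_singleton_of_mem (show a ∈ fixedBy Ω v from hva), hv.ncard] at this
        omega
      show _ < 4
      omega
    have hvW : v ∉ W := fun hm => hne (fixedBy_eq_of_subset hfix hv.ne_one hΔ4 fun b hb => mem_pointwise.mp hm b hb)
    have hv2 : v ^ 2 ∈ W := by rw [pow_two, hv.mul_self]; exact one_mem _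
    obtain ⟨hQcard, hQmem⟩ := card_sup_step hvW hv2
    set Q := W ⊔ zpowers v
    have hvQ : v ∈ Q := mem_sup_right (mem_zpowers v)
    by_cases hW2 : Nat.card W ≤ 2
    · exact hsmall (by omega)
    have hW4 : 2 ^ 2 ≤ Nat.card W := pow_two_ge hP W (n := 1) (by omega)
    have hC : Nat.card (centralizer ({(⟨v, hvQ⟩ : Q)} : Set Q)) ≤ 4 := by
      rw [← card_map_of_injective Q.subtype_injective]
      have h5 : Nat.card ((centralizer ({(⟨v, hvQ⟩ : Q)} : Set Q)).map Q.subtype) ≤
          ({true, false} : Set Bool).ncard * Nat.card (W ⊓ centralizer ({v} : Set P) : Subgroup P) := by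
        classical
        refine card_le_mul_of_fibers _ _ _ (Set.toFinite _) (fun s => decide (s ∈ W)) (fun s _ => by
          cases decide (s ∈ W) <;> simp) ?_
        rintro _ ⟨s, hs, rfl⟩ _ ⟨t, ht, rfl⟩ e
        have hs' : (s : P) * v = v * s := congrArg Subtype.val (mem_centralizer_singleton_iff.mp hs)
        have ht' : (t : P) * v = v * t := congrArg Subtype.val (mem_centralizer_singleton_iff.mp ht)
        refine Subgroup.mem_inf.mpr ⟨?_, mem_centralizer_singleton_iff.mpr ?_⟩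
        · replace e : (s : P) ∈ W ↔ (t : P) ∈ W := decide_eq_decide.mp e
          by_cases hsW : (s : P) ∈ W
          · exact mul_mem (inv_mem hsW) (e.mp hsW)
          · have htW : (t : P) ∉ W := fun hm => hsW (e.mpr hm)
            exact mem_of_double le_sup_left (by rw [hQcard]) s.2 hsW t.2 htW
        · show ((s : P)⁻¹ * (t : P)) * v = v * ((s : P)⁻¹ * (t : P))
          calc (s : P)⁻¹ * t * v = (s : P)⁻¹ * (v * t) := by rw [mul_assoc, ht']
            _ = (s : P)⁻¹ * v * s * ((s : P)⁻¹ * t) := by group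
            _ = v * ((s : P)⁻¹ * t) := by rw [mul_assoc (s : P)⁻¹ v s, ← hs', inv_mul_cancel_left]
      rw [Set.ncard_pair (by simp)] at h5
      omega
    obtain ⟨c, hc⟩ := exists_half (Fixity.dihedral_or_quasiDihedral (hP.to_subgroup Q) (u := ⟨v, hvQ⟩)
      (by omega) (by rw [← Subgroup.orderOf_coe]; exact hv.1) hC)
    exact hr (Sectional.sectional_of_cyclic_index (c : P) (by
      rw [Subgroup.orderOf_coe]; omega))
  -- point stabilisers outside `Δ` have order at most four
  have hstab : ∀ b : Ω, b ∉ Δ → Nat.card (stabilizer P b) ≤ 4 := by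
    intro b hb
    obtain ⟨a, ha⟩ := Set.nonempty_of_ncard_ne_zero (s := Δ) (by omega)
    have h1 := card_le_orbit (stabilizer P b) a Δ fun u _ => (hinv u) ▸ Set.smul_mem_smul_set ha
    rw [show stabilizer P b ⊓ stabilizer P a = ⊥ from (Subgroup.eq_bot_iff_forall _).mpr fun s hs => by
      by_contra hs1
      have hdiv : 2 ∣ orderOf s := by
        have : Fact (Nat.Prime 2) := ⟨Nat.prime_two⟩
        obtain ⟨k, hk⟩ := IsPGroup.iff_orderOf.mp hP s
        rw [hk]
        refine dvd_pow_self 2 fun h0 => ?_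
        rw [h0, pow_zero, orderOf_eq_one_iff] at hk
        exact hs1 hk
      obtain ⟨y, hy, hy2⟩ := exists_involution_zpowers hdiv (isOfFinOrder_of_finite s)
      have hyb : y • b = b := smul_eq_of_mem_zpowers hy hs.1
      have hya : y • a = a := smul_eq_of_mem_zpowers hy hs.2
      have hyF := hz.four hy2 hyb
      by_cases hyΔ : fixedBy Ω y = Δ
      · exact hb (hyΔ ▸ (hyb : b ∈ fixedBy Ω y))
      · exact hnofix y hyF hyΔ a ha hya,
      card_bot, mul_one, hΔ4] at h1
    exact h1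
  have hC16 : ∀ (v : P) (b : Ω), Four Ω v → v • b = b → b ∉ Δ → Nat.card (centralizer ({v} : Set P)) ≤ 16 := by
    intro v b hv hvb hb
    have h1 := card_le_orbit (centralizer ({v} : Set P)) b (fixedBy Ω v) fun s hs =>
      smul_mem_fixedBy_of_commute (mem_centralizer_singleton_iff.mp hs) hvb
    rw [hv.ncard] at h1
    have h2 := (card_le_of_le (inf_le_right : centralizer ({v} : Set P) ⊓ stabilizer P b ≤ stabilizer P b)).trans
      (hstab b hb)
    omega
  -- order at most `64`
  obtain ⟨V, hVn, hVc, hV2, hV⟩ : ∃ V : Subgroup P, V.Normal ∧ (∀ a ∈ V, ∀ b ∈ V, a * b = b * a) ∧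
      (∀ a ∈ V, a ^ 2 = 1) ∧ 4 < Nat.card V := by
    by_contra hn
    push_neg at hn
    exact hr (Sectional.sectionalPRankLE_of_no_normal_eight hP hn)
  obtain ⟨A, hAn, hAV, hA8⟩ := exists_normal_eight hP hVc hV2 hV
  have hA : NormalEight A := ⟨hAn, fun a ha b hb => hVc a (hAV ha) b (hAV hb), fun a ha => hV2 a (hAV ha), hA8⟩
  obtain ⟨b₀, hb₀, hb₀Δ⟩ := houtside v₀ hv₀ hv₀Δ
  obtain ⟨h64, v, hv, hvb⟩ : Nat.card P ≤ 64 ∧ ∃ v : P, Four Ω v ∧ v • b₀ = b₀ := by
    refine ⟨?_, v₀, hv₀, hb₀⟩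
    by_cases hfree : ∀ a ∈ A, a • b₀ = b₀ → a = 1
    · exact GoodPair.card_le hP hfix hz hA hr ⟨hv₀.1, hb₀, hfree⟩
    · push_neg at hfree
      obtain ⟨a, ha, hab, ha1⟩ := hfree
      have haF := hz.four (orderOf_eq_two (hA.mul_self ha) ha1) hab
      have h1 := card_le_four_centralizer hP (hA := hAn) hA8 ha ha1
      have h2 := hC16 a b₀ haF hab hb₀Δ
      omega
  have hC := hC16 v b₀ hv hvb hb₀Δ
  have hvΔ : fixedBy Ω v ≠ Δ := fun e => hb₀Δ (e ▸ (hvb : b₀ ∈ fixedBy Ω v))
  refine hr (sectional_small hP h64 (fun M hM hM2 => ?_) fun hcard N hN hsq => ?_)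
  · have hcomm : ∀ a ∈ M, ∀ b ∈ M, a * b = b * a := fun a ha b hb => by
      have h1 : a * b * (a * b) = 1 := by rw [← pow_two]; exact hM2 _ (mul_mem ha hb)
      rw [← inv_eq_of_mul_self h1, mul_inv_rev,
        inv_eq_of_mul_self (show a * a = 1 by rw [← pow_two]; exact hM2 a ha),
        inv_eq_of_mul_self (show b * b = 1 by rw [← pow_two]; exact hM2 b hb)]
    have hvM : v ∉ M := fun hm => by
      have := card_le_of_le (fun m hm' => mem_centralizer_singleton_iff.mpr (hcomm m hm' v hm) :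
        M ≤ centralizer ({v} : Set P))
      omega
    obtain ⟨q, hq, hqΔ, hqc⟩ := outside_elementary hP hfix hz h64 hM hM2 hv hvM
    have hq' : ∀ w ∈ W, w • b₀ ∈ fixedBy Ω v := fun w _ => by
      rw [← hqΔ]
      exact smul_mem_fixedBy_of_commute (hqc w) (hqΔ.symm.subset (hvb : b₀ ∈ fixedBy Ω v))
    have h1 := card_le_orbit W b₀ _ hq'
    rw [show W ⊓ stabilizer P b₀ = ⊥ from (Subgroup.eq_bot_iff_forall _).mpr fun u hu =>
      hWfree u hu.1 b₀ hb₀Δ hu.2, card_bot, mul_one, hv.ncard] at h1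
    have h32 : Nat.card P = 32 := by have := card_le_card_group M; omega
    exact hvM (by rw [(card_eq_iff_eq_top M).mp (hM.trans h32.symm)]; exact mem_top v)
  · have := centralizer_index_le N hN hsq v
    omega

end Cfsg.Agent.FixityFour
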