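import Cfsg.Agent.EqLemmas
/-!
# Small facts about permutations of four points (helper20)

Used for fixity four: a set of permutations of four points whose quotients all have order three or four,
inside a group without transpositions, has at most three members.
-/

set_option autoImplicit false

namespace Cfsg.Agent.FixityFour

set_option synthInstance.maxSize 2048
set_option synthInstance.maxHeartbeats 400000
set_option maxRecDepth 4000

/-- Order three or four (in degree four). -/
abbrev Good {β : Type*} (σ : Equiv.Perm β) : Prop := σ * σ ≠ 1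

/-- A transposition in degree four: an involution with a fixed point. -/
abbrev IsTransp {β : Type*} (σ : Equiv.Perm β) : Prop := σ ≠ 1 ∧ σ * σ = 1 ∧ ∃ i, σ i = i

/-- The two products which detect a transposition. -/
abbrev NoTransp {β : Type*} (a b : Equiv.Perm β) : Prop := ¬ IsTransp (a * b) ∧ ¬ IsTransp (a * a * b)

theorem clique_pair_fin : ∀ a : Equiv.Perm (Fin 4), Good a → ∀ b : Equiv.Perm (Fin 4), Good b → Good (a⁻¹ * b) →
    NoTransp a b → a * a * a = 1 ∨ b * b * b = 1 := by
  decide +kernel

theorem clique_triple_fin : ∀ a : Equiv.Perm (Fin 4), Good a → ∀ b : Equiv.Perm (Fin 4), Good b → Good (a⁻¹ * b) →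
    NoTransp a b → ∀ c : Equiv.Perm (Fin 4), Good c → Good (a⁻¹ * c) → Good (b⁻¹ * c) →
    NoTransp a c → NoTransp b c → False := by
  decide +kernel

theorem clique_centralizing_fin : ∀ u : Equiv.Perm (Fin 4), u ≠ 1 → u * u = 1 → (∀ i, u i ≠ i) →
    ∀ a : Equiv.Perm (Fin 4), u * a = a * u → Good a → ∀ b : Equiv.Perm (Fin 4), u * b = b * u →
    Good b → Good (a⁻¹ * b) → NoTransp a b → False := by
  decide +kernel

theorem four_group_fin : ∀ u : Equiv.Perm (Fin 4), u ≠ 1 → u * u = 1 → (∀ i, u i ≠ i) →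
    ∀ t : Equiv.Perm (Fin 4), t ≠ 1 → t * t * t = 1 →
    u * (t * u * t⁻¹) = t * (t * u * t⁻¹) * t⁻¹ := by
  decide +kernel

theorem centralizer_small_fin : ∀ a : Equiv.Perm (Fin 4), a ≠ 1 →
    (Finset.univ.filter fun b : Equiv.Perm (Fin 4) => a * b = b * a).card ≤ 4 ∨ (a * a = 1 ∧ ∀ i, a i ≠ i) := by
  decide +kernel

theorem double_transp_card_fin :
    (Finset.univ.filter fun a : Equiv.Perm (Fin 4) => a = 1 ∨ (a * a = 1 ∧ ∀ i, a i ≠ i)).card ≤ 4 := by
  decide +kernel

variable {β : Type*} [Finite β]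

/-- A commutative subgroup of the symmetric group on four points has order at most four. -/
theorem card_le_four_of_comm (h4 : Nat.card β = 4) (P : Subgroup (Equiv.Perm β))
    (hP : ∀ a ∈ P, ∀ b ∈ P, a * b = b * a) : Nat.card P ≤ 4 := by
  classical
  obtain ⟨e⟩ : Nonempty (β ≃ Fin 4) := ⟨(Finite.equivFin β).trans (finCongr h4)⟩
  set f : Equiv.Perm β ≃* Equiv.Perm (Fin 4) := e.permCongrHom
  set Q := P.map f.toMonoidHom
  have hQ : ∀ a ∈ Q, ∀ b ∈ Q, a * b = b * a := by
    rintro _ ⟨a, ha, rfl⟩ _ ⟨b, hb, rfl⟩; rw [← map_mul, ← map_mul, hP a ha b hb]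
  have hcard : Nat.card Q = Nat.card P := Subgroup.card_map_of_injective f.injective
  rw [← hcard, Nat.card_eq_fintype_card]
  by_cases h : ∀ a ∈ Q, a = 1 ∨ (a * a = 1 ∧ ∀ i, a i ≠ i)
  · refine le_trans ?_ double_transp_card_fin
    rw [Fintype.card_subtype]
    exact Finset.card_le_card fun a ha => by simpa using h a (by simpa using ha)
  · push_neg at h
    obtain ⟨a, ha, ha1, hh⟩ := h
    rcases centralizer_small_fin a ha1 with h' | ⟨h1, h2⟩
    · refine le_trans ?_ h'
      rw [Fintype.card_subtype]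
      exact Finset.card_le_card fun b hb => by simpa using hQ a ha b (by simpa using hb)
    · obtain ⟨i, hi⟩ := hh h1
      exact absurd hi (h2 i)

end Cfsg.Agent.FixityFour
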