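import Cfsg.Agent.Lib.Sectional.MacWilliams
import Cfsg.Agent.Lib.Sectional.Harada
/-!
# Fixity four: lemmas on finite 2-groups (helper20)
-/

set_option autoImplicit false

namespace Cfsg.Agent.FixityFour

open Subgroup

variable {P : Type*} [Group P] [Finite P]

theorem IsPGroup.pow_two_dvd {k : ℕ} (hP : IsPGroup 2 P) (h : 2 ^ k ≤ Nat.card P) : 2 ^ k ∣ Nat.card P := by
  have : Fact (Nat.Prime 2) := ⟨Nat.prime_two⟩
  obtain ⟨n, hn⟩ := hP.exists_card_eq
  rw [hn] at h ⊢
  exact pow_dvd_pow 2 ((Nat.pow_le_pow_iff_right (by norm_num)).mp h)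

/-- A central step between two normal subgroups of a 2-group. -/
theorem exists_central_step (hP : IsPGroup 2 P) (N D : Subgroup P) [N.Normal] [D.Normal] (hlt : N < D) :
    ∃ d ∈ D, d ∉ N ∧ d ^ 2 ∈ N ∧ ∀ s : P, s * d * s⁻¹ * d⁻¹ ∈ N := by
  have : Fact (Nat.Prime 2) := ⟨Nat.prime_two⟩
  set π := QuotientGroup.mk' N
  have hQ : IsPGroup 2 (P ⧸ N) := hP.to_quotient N
  set D' := D.map π
  have : D'.Normal := Subgroup.Normal.map inferInstance π (QuotientGroup.mk'_surjective N)
  have hD' : D' ≠ ⊥ := by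
    intro e
    rw [Subgroup.map_eq_bot_iff, QuotientGroup.ker_mk'] at e
    exact hlt.not_ge e
  have hne : D' ⊓ center (P ⧸ N) ≠ ⊥ := by
    intro e
    have : Nontrivial D' := (Subgroup.nontrivial_iff_ne_bot D').mpr hD'
    have : Fintype D' := Fintype.ofFinite D'
    let act : MulAction (ConjAct (P ⧸ N)) D' := inferInstance
    have hC : IsPGroup 2 (ConjAct (P ⧸ N)) := hQ.of_equiv ConjAct.toConjAct
    have hdvd : 2 ∣ Nat.card D' := by
      obtain ⟨k, hk⟩ := (hQ.to_subgroup D').exists_card_eq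
      rw [hk]
      refine dvd_pow_self 2 fun h0 => ?_
      rw [h0, pow_zero] at hk
      exact hD' (D'.eq_bot_of_card_eq hk)
    obtain ⟨b, hb, hne⟩ := hC.exists_fixed_point_of_prime_dvd_card_of_fixed_point D' hdvd (a := 1) (fun g => smul_one g)
    have hb' : (b : P ⧸ N) ∈ D' ⊓ center (P ⧸ N) := by
      refine ⟨b.2, mem_center_iff.mpr fun g => ?_⟩
      have h1 := congrArg Subtype.val (hb (ConjAct.toConjAct g))
      rw [ConjAct.Subgroup.val_conj_smul, ConjAct.smul_def, ConjAct.ofConjAct_toConjAct] at h1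
      exact mul_inv_eq_iff_eq_mul.mp h1
    rw [e, mem_bot] at hb'
    exact hne (Subtype.ext hb'.symm)
  obtain ⟨q, hq, hq1⟩ := (bot_or_exists_ne_one _).resolve_left hne
  -- replace `q` by an involution
  obtain ⟨k, hk⟩ := hQ q
  have hk' : ∃ k, q ^ (2 ^ k) = 1 := ⟨k, hk⟩
  classical
  set j := Nat.find hk'
  have hj : q ^ (2 ^ j) = 1 := Nat.find_spec hk'
  have hj0 : j ≠ 0 := fun h0 => hq1 (by simpa [h0] using hj)
  set r := q ^ (2 ^ (j - 1))
  have hr1 : r ≠ 1 := fun e => Nat.find_min hk' (show j - 1 < j by omega) e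
  have hr2 : r ^ 2 = 1 := by rw [← pow_mul, ← pow_succ, show j - 1 + 1 = j by omega]; exact hj
  have hr : r ∈ D' ⊓ center (P ⧸ N) := pow_mem hq _
  obtain ⟨d, hd, hdr⟩ := hr.1
  refine ⟨d, hd, fun hdN => hr1 ?_, ?_, fun s => ?_⟩
  · rw [← hdr]; exact (QuotientGroup.eq_one_iff d).mpr hdN
  · exact (QuotientGroup.eq_one_iff _).mp (by rw [← hr2, ← hdr]; exact map_pow π d 2)
  · refine (QuotientGroup.eq_one_iff _).mp ?_
    show π (s * d * s⁻¹ * d⁻¹) = 1
    rw [map_mul, map_mul, map_mul, map_inv, map_inv, hdr, mem_center_iff.mp hr.2 (π s)]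
    group

/-- Adjoining a central step to a normal subgroup doubles it. -/
theorem card_sup_step {N : Subgroup P} [N.Normal] {d : P} (hd : d ∉ N) (hd2 : d ^ 2 ∈ N) :
    Nat.card (N ⊔ zpowers d : Subgroup P) = 2 * Nat.card N ∧
      ∀ y ∈ N ⊔ zpowers d, y ∈ N ∨ y * d⁻¹ ∈ N := by
  set K := N ⊔ zpowers d
  have hcases : ∀ y ∈ K, y ∈ N ∨ y * d⁻¹ ∈ N := by
    intro y hy
    rw [Subgroup.mem_sup_of_normal_left] at hy
    obtain ⟨n, hn, w, hw, rfl⟩ := hy
    obtain ⟨i, rfl⟩ := mem_zpowers_iff.mp hw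
    rcases Int.even_or_odd i with ⟨j, rfl⟩ | ⟨j, rfl⟩
    · left
      refine mul_mem hn ?_
      rw [← two_mul, zpow_mul]
      exact zpow_mem (by exact_mod_cast hd2) j
    · right
      rw [zpow_add, zpow_one, ← mul_assoc, mul_inv_cancel_right, zpow_mul]
      exact mul_mem hn (zpow_mem (by exact_mod_cast hd2) j)
  refine ⟨le_antisymm ?_ ?_, hcases⟩
  · classical
    have hinj : Nat.card K ≤ Nat.card (Bool × N) := by
      refine Nat.card_le_card_of_injective (fun y : K => if h : (y : P) ∈ N then (true, ⟨(y : P), h⟩)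
        else (false, ⟨(y : P) * d⁻¹, (hcases y y.2).resolve_left h⟩)) fun a b hab => ?_
      by_cases ha : (a : P) ∈ N <;> by_cases hb : (b : P) ∈ N <;> simp [ha, hb] at hab
      · exact hab
      · exact hab
    simpa [Nat.card_prod] using hinj
  · have hlt : N < K := lt_of_le_of_ne le_sup_left fun e => hd (e.symm ▸ mem_sup_right (mem_zpowers d))
    have h1 : Nat.card N ∣ Nat.card K := card_dvd_of_le hlt.le
    have h2 : Nat.card N < Nat.card K := Set.Finite.card_lt_card (Set.toFinite _) hlt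
    obtain ⟨c, hc⟩ := h1
    rw [hc]
    have : 2 ≤ c := by
      rcases c with _ | _ | c
      · have := Nat.card_pos (α := K); omega
      · rw [Nat.mul_one] at hc; omega
      · omega
    nlinarith

/-- A normal elementary abelian subgroup of order more than four contains one of order eight. -/
theorem exists_normal_eight (hP : IsPGroup 2 P) {V : Subgroup P} [V.Normal]
    (hc : ∀ a ∈ V, ∀ b ∈ V, a * b = b * a) (h2 : ∀ a ∈ V, a ^ 2 = 1) (h4 : 4 < Nat.card V) :
    ∃ A : Subgroup P, A.Normal ∧ A ≤ V ∧ Nat.card A = 8 := by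
  suffices ∀ k, k ≤ 3 → ∃ A : Subgroup P, A.Normal ∧ A ≤ V ∧ Nat.card A = 2 ^ k from this 3 le_rfl
  intro k
  induction k with
  | zero => exact fun _ => ⟨⊥, inferInstance, bot_le, by simp⟩
  | succ k ih =>
    intro hk
    obtain ⟨A, hAn, hAV, hA⟩ := ih (by omega)
    have hlt : A < V := lt_of_le_of_ne hAV fun e => by
      subst e
      have h1 : Nat.card A ≤ 4 := hA.le.trans (Nat.pow_le_pow_right (by norm_num) (show k ≤ 2 by omega))
      omega
    obtain ⟨d, hd, hdA, hd2, hcen⟩ := exists_central_step hP A V hlt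
    refine ⟨A ⊔ zpowers d, ⟨fun y hy s => ?_⟩, sup_le hAV (zpowers_le.mpr hd), ?_⟩
    · rcases (card_sup_step hdA hd2).2 y hy with h | h
      · exact mem_sup_left (hAn.conj_mem y h s)
      · have h1 : s * (y * d⁻¹) * s⁻¹ * (s * d * s⁻¹ * d⁻¹) * d = s * y * s⁻¹ := by group
        rw [← h1]
        exact mul_mem (mul_mem (mem_sup_left (hAn.conj_mem _ h s)) (mem_sup_left (hcen s)))
          (mem_sup_right (mem_zpowers d))
    · rw [(card_sup_step hdA hd2).1, hA, pow_succ]; ring

/-- Sectional rank at most four for order at most `64`. -/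
theorem sectional_small (hP : IsPGroup 2 P) (h64 : Nat.card P ≤ 64)
    (hE : ∀ M : Subgroup P, Nat.card M = 32 → (∀ x ∈ M, x ^ 2 = 1) → False)
    (hN : Nat.card P = 64 → ∀ N : Subgroup P, Nat.card N = 2 → (∀ x : P, x ^ 2 ∈ N) → False) :
    Cfsg.SectionalPRankLE 2 4 P := by
  have : Fact (Nat.Prime 2) := ⟨Nat.prime_two⟩
  refine Sectional.sectionalPRankLE_of fun H N hNH hsq => ?_
  by_contra hlt
  have h16 : 16 * Nat.card N < Nat.card H := by push_neg at hlt; simpa using hlt
  have hH : Nat.card H ≤ 64 := (card_le_card_group H).trans h64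
  have hNle : Nat.card N ≤ 3 := by omega
  obtain ⟨n, hn⟩ := (hP.to_subgroup N).exists_card_eq
  have hn1 : n ≤ 1 := by
    by_contra hn2
    have : (2 : ℕ) ^ 2 ≤ 2 ^ n := Nat.pow_le_pow_right (by norm_num) (by omega)
    omega
  interval_cases n
  · -- `H` is elementary abelian
    have hN1 : N = ⊥ := N.eq_bot_of_card_eq (by simpa using hn)
    subst hN1
    have h32 : 32 ∣ Nat.card H := by
      obtain ⟨j, hj⟩ := (hP.to_subgroup H).exists_card_eq
      rw [hj]
      have : 5 ≤ j := by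
        by_contra hj5
        have : (2 : ℕ) ^ j ≤ 2 ^ 4 := Nat.pow_le_pow_right (by norm_num) (by omega)
        simp at h16
        omega
      exact pow_dvd_pow 2 this
    obtain ⟨M, hM⟩ := Sylow.exists_subgroup_card_pow_prime (G := H) 2 (n := 5) h32
    refine hE (M.map H.subtype) ?_ ?_
    · rw [card_map_of_injective H.subtype_injective, hM]; norm_num
    · rintro _ ⟨x, -, rfl⟩
      simpa using hsq (x : P) x.2
  · obtain ⟨j, hj⟩ := (hP.to_subgroup H).exists_card_eq
    have hj6 : 6 ≤ j := by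
      by_contra hj5
      have : (2 : ℕ) ^ j ≤ 2 ^ 5 := Nat.pow_le_pow_right (by norm_num) (by omega)
      omega
    have h1 : (2 : ℕ) ^ 6 ≤ 2 ^ j := Nat.pow_le_pow_right (by norm_num) hj6
    have hcard : Nat.card P = 64 := le_antisymm h64 ((show 64 ≤ Nat.card H by omega).trans (card_le_card_group H))
    have htop : H = ⊤ := (card_eq_iff_eq_top H).mp (by omega)
    subst htop
    exact hN hcard N (by simpa using hn) fun x => hsq x (mem_top x)

/-- Squares in a subgroup of order two: every class has at most two elements. -/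
theorem centralizer_index_le (N : Subgroup P) (hN : Nat.card N = 2) (hsq : ∀ x : P, x ^ 2 ∈ N) (x : P) :
    Nat.card P ≤ 2 * Nat.card (centralizer ({x} : Set P)) := by
  have hcomm : ∀ g h : P, g * h * g⁻¹ * h⁻¹ ∈ N := fun g h => by
    have hh := Sectional.commutator_mem_of_sq (H := ⊤) (N := N) (fun y _ => hsq y) (mem_top g) (mem_top h)
    simpa [commutatorElement_def] using hh
  classical
  let f : P → N := fun g => ⟨g * x * g⁻¹ * x⁻¹, hcomm g x⟩
  have key : ∀ g h : P, f g = f h → g⁻¹ * h ∈ centralizer ({x} : Set P) := fun g h e => by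
    have e' : g * x * g⁻¹ = h * x * h⁻¹ := mul_right_cancel (congrArg Subtype.val e)
    rw [mem_centralizer_singleton_iff]
    calc g⁻¹ * h * x = g⁻¹ * (h * x * h⁻¹) * h := by group
      _ = g⁻¹ * (g * x * g⁻¹) * h := by rw [e']
      _ = x * (g⁻¹ * h) := by group
  let rep : N → P := fun n => if h : ∃ g, f g = n then h.choose else 1
  have hrep : ∀ g, f (rep (f g)) = f g := fun g => by
    have h : ∃ g', f g' = f g := ⟨g, rfl⟩
    simp only [rep, dif_pos h]
    exact h.choose_spec
  rw [← hN, ← Nat.card_prod]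
  refine Nat.card_le_card_of_injective (fun g => (f g, ⟨(rep (f g))⁻¹ * g, key _ _ (hrep g)⟩)) fun a b e => ?_
  simp only [Prod.mk.injEq, Subtype.mk.injEq] at e
  obtain ⟨e1, e2⟩ := e
  rw [e1] at e2
  exact mul_left_cancel e2

end Cfsg.Agent.FixityFour
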