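import Cfsg.Agent.Lib.FixityFour.Basic
import Cfsg.Agent.Lib.FixityFour.PermFour
import Cfsg.Agent.Lib.FixityFour.TwoGroup
/-!
# Fixity four: counting lemmas for 2-groups acting with small fixed sets (helper20)
-/

set_option autoImplicit false

namespace Cfsg.Agent.FixityFour

open MulAction Subgroup
open scoped Pointwise

variable {P : Type*} [Group P] [Finite P]

/-- A map on a subgroup whose fibres lie in cosets of `K`. -/
theorem card_le_mul_of_fibers {α : Type*} (U K : Subgroup P) (T : Set α) (hT : T.Finite) (f : P → α)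
    (hfT : ∀ u ∈ U, f u ∈ T) (hf : ∀ u ∈ U, ∀ v ∈ U, f u = f v → u⁻¹ * v ∈ K) :
    Nat.card U ≤ T.ncard * Nat.card K := by
  classical
  have : Finite T := hT.to_subtype
  let rep : T → U := fun t => if h : ∃ u : U, f u = t then h.choose else 1
  have hrep : ∀ u : U, f (rep ⟨f u, hfT u u.2⟩) = f u := fun u => by
    have h : ∃ v : U, f v = ((⟨f u, hfT u u.2⟩ : T) : α) := ⟨u, rfl⟩
    simp only [rep, dif_pos h]
    exact h.choose_spec
  rw [← Nat.card_coe_set_eq, ← Nat.card_prod]
  refine Nat.card_le_card_of_injective (fun u : U => ((⟨f u, hfT u u.2⟩ : T),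
    (⟨((rep ⟨f u, hfT u u.2⟩ : U) : P)⁻¹ * u, hf _ (rep _).2 u u.2 (hrep u)⟩ : K))) fun a b e => ?_
  simp only [Prod.mk.injEq, Subtype.mk.injEq] at e
  obtain ⟨e1, e2⟩ := e
  have : (⟨f a, hfT a a.2⟩ : T) = ⟨f b, hfT b b.2⟩ := Subtype.ext e1
  rw [this] at e2
  exact Subtype.ext (mul_left_cancel e2)

theorem pow_two_le (hP : IsPGroup 2 P) (U : Subgroup P) {n : ℕ} (h : Nat.card U < 2 ^ (n + 1)) :
    Nat.card U ≤ 2 ^ n := by
  have : Fact (Nat.Prime 2) := ⟨Nat.prime_two⟩
  obtain ⟨k, hk⟩ := (hP.to_subgroup U).exists_card_eq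
  rw [hk] at h ⊢
  have := (Nat.pow_lt_pow_iff_right (show 1 < 2 by norm_num)).mp h
  exact Nat.pow_le_pow_right (by norm_num) (by omega)

theorem pow_two_ge (hP : IsPGroup 2 P) (U : Subgroup P) {n : ℕ} (h : 2 ^ n < Nat.card U) :
    2 ^ (n + 1) ≤ Nat.card U := by
  by_contra hlt
  exact h.not_ge (pow_two_le hP U (not_le.mp hlt))

/-- In a subgroup with a subgroup of index two the outside is one coset. -/
theorem mem_of_double {K U : Subgroup P} (hKU : K ≤ U) (hc : Nat.card U ≤ 2 * Nat.card K) {a b : P}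
    (ha : a ∈ U) (ha' : a ∉ K) (hb : b ∈ U) (hb' : b ∉ K) : a⁻¹ * b ∈ K := by
  have hidx : (K.subgroupOf U).index = 2 := by
    have h1 := (K.subgroupOf U).card_mul_index
    rw [Nat.card_congr (subgroupOfEquivOfLe hKU).toEquiv] at h1
    have h2 : (K.subgroupOf U).index ≠ 1 := fun e => ha' ((subgroupOf_eq_top.mp (index_eq_one.mp e)) ha)
    have h3 : (K.subgroupOf U).index ≠ 0 := index_ne_zero_of_finite
    have h4 : 0 < Nat.card K := Nat.card_pos
    have h5 : (K.subgroupOf U).index ≤ 2 := Nat.le_of_mul_le_mul_left (by rw [h1, mul_comm]; exact hc) h4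
    omega
  have h1 := (mul_mem_iff_of_index_two hidx (a := (⟨a, ha⟩ : U)⁻¹) (b := ⟨b, hb⟩)).mpr
  simp only [Subgroup.inv_mem_iff, mem_subgroupOf] at h1
  exact h1 (iff_of_false ha' hb')

theorem card_le_centralizer_mul (a : P) (T : Set P) (hT : ∀ s : P, s * a * s⁻¹ ∈ T) :
    Nat.card P ≤ T.ncard * Nat.card (centralizer ({a} : Set P)) := by
  rw [← Subgroup.card_top (G := P)]
  refine card_le_mul_of_fibers ⊤ _ T (Set.toFinite _) (fun s => s * a * s⁻¹) (fun s _ => hT s)
    fun u _ v _ e => ?_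
  rw [mem_centralizer_singleton_iff]
  calc u⁻¹ * v * a = u⁻¹ * (v * a * v⁻¹) * v := by group
    _ = u⁻¹ * (u * a * u⁻¹) * v := by rw [e]
    _ = a * (u⁻¹ * v) := by group

/-- An element of a normal subgroup of order eight has at most four conjugates. -/
theorem card_le_four_centralizer (hP : IsPGroup 2 P) {A : Subgroup P} [hA : A.Normal]
    (h8 : Nat.card A = 8) {a : P} (ha : a ∈ A) (ha1 : a ≠ 1) :
    Nat.card P ≤ 4 * Nat.card (centralizer ({a} : Set P)) := by
  have : Fact (Nat.Prime 2) := ⟨Nat.prime_two⟩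
  have h1 := card_le_centralizer_mul a ((A : Set P) \ {1}) fun s =>
    ⟨hA.conj_mem a ha s, fun e => ha1 (by
      have e' : s * a * s⁻¹ = 1 := e
      exact conj_eq_one_iff.mp e')⟩
  rw [Set.ncard_sdiff_singleton_of_mem (show (1 : P) ∈ (A : Set P) from one_mem A), ← Nat.card_coe_set_eq] at h1
  simp only [SetLike.coe_sort_coe, h8] at h1
  obtain ⟨n, hn⟩ := hP.exists_card_eq
  obtain ⟨k, hk⟩ := (hP.to_subgroup (centralizer ({a} : Set P))).exists_card_eq
  rw [hn, hk] at h1 ⊢
  have h2 : 2 ^ n < 2 ^ (k + 3) := by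
    rw [pow_add]; norm_num; have := Nat.two_pow_pos k; omega
  have := (Nat.pow_lt_pow_iff_right (show 1 < 2 by norm_num)).mp h2
  calc 2 ^ n ≤ 2 ^ (k + 2) := Nat.pow_le_pow_right (by norm_num) (by omega)
    _ = 4 * 2 ^ k := by rw [pow_add]; norm_num; ring

/-- Adjoin a commuting involution to an elementary abelian subgroup. -/
theorem exists_extend {A : Subgroup P} {c : P} (hc2 : c * c = 1) (hc : c ∉ A)
    (hcomm : ∀ a ∈ A, c * a = a * c) (hA : ∀ a ∈ A, ∀ b ∈ A, a * b = b * a) (hA2 : ∀ a ∈ A, a ^ 2 = 1) :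
    ∃ E : Subgroup P, (∀ a ∈ E, ∀ b ∈ E, a * b = b * a) ∧ (∀ a ∈ E, a ^ 2 = 1) ∧
      Nat.card E = 2 * Nat.card A ∧ A ≤ E ∧ c ∈ E ∧ ∀ x, x ∈ E ↔ x ∈ A ∨ x * c ∈ A := by
  classical
  have hform : ∀ x, x * c ∈ A → x = x * c * c := fun x _ => by rw [mul_assoc, hc2, mul_one]
  let E : Subgroup P :=
    { carrier := {x | x ∈ A ∨ x * c ∈ A}
      one_mem' := Or.inl (one_mem A)
      mul_mem' := fun {a b} ha hb => by
        rcases ha with ha | ha <;> rcases hb with hb | hb
        · exact Or.inl (mul_mem ha hb)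
        · exact Or.inr (by rw [mul_assoc]; exact mul_mem ha hb)
        · refine Or.inr ?_
          rw [mul_assoc, ← hcomm b hb, ← mul_assoc]
          exact mul_mem ha hb
        · refine Or.inl ?_
          have hcb : c * b = b * c := by
            calc c * b = c * (b * c * c) := by rw [← hform b hb]
              _ = b * c * c * c := by rw [← mul_assoc c (b * c) c, hcomm _ hb]
              _ = b * c := by rw [← hform b hb]
          have : a * c * (b * c) = a * b := by
            rw [← hcb, ← mul_assoc, mul_assoc a c c, hc2, mul_one]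
          exact this ▸ mul_mem ha hb
      inv_mem' := fun {a} ha => by
        rcases ha with ha | ha
        · exact Or.inl (inv_mem ha)
        · refine Or.inr ?_
          have h1 : a⁻¹ * c = c * (a * c)⁻¹ * c := by rw [mul_inv_rev, inv_eq_of_mul_self hc2, ← mul_assoc, hc2, one_mul]
          rw [h1, hcomm _ (inv_mem ha), mul_assoc, hc2, mul_one]
          exact inv_mem ha }
  have hmem : ∀ x, x ∈ E ↔ x ∈ A ∨ x * c ∈ A := fun x => Iff.rfl
  have hcomm' : ∀ x ∈ E, c * x = x * c := fun x hx => by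
    rcases (hmem x).mp hx with h | h
    · exact hcomm x h
    · calc c * x = c * (x * c * c) := by rw [← hform x h]
        _ = x * c * c * c := by rw [← mul_assoc c (x * c) c, hcomm _ h]
        _ = x * c := by rw [← hform x h]
  have hAE : ∀ x ∈ E, ∀ a ∈ A, x * a = a * x := fun x hx a ha => by
    rcases (hmem x).mp hx with h | h
    · exact hA x h a ha
    · calc x * a = x * c * c * a := by rw [← hform x h]
        _ = x * c * (a * c) := by rw [mul_assoc (x * c), hcomm a ha]
        _ = a * (x * c * c) := by rw [← mul_assoc, hA _ h a ha, mul_assoc]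
        _ = a * x := by rw [← hform x h]
  refine ⟨E, ?_, ?_, ?_, fun a ha => Or.inl ha, Or.inr (by rw [hc2]; exact one_mem A), hmem⟩
  · intro a ha b hb
    rcases (hmem b).mp hb with h | h
    · exact hAE a ha b h
    · calc a * b = a * (b * c * c) := by rw [← hform b h]
        _ = b * c * (a * c) := by rw [← mul_assoc, hAE a ha _ h, mul_assoc]
        _ = b * c * c * a := by rw [← hcomm' a ha, ← mul_assoc]
        _ = b * a := by rw [← hform b h]
  · intro a ha
    rcases (hmem a).mp ha with h | h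
    · exact hA2 a h
    · calc a ^ 2 = a * (a * c * c) := by rw [← hform a h, pow_two]
        _ = a * c * a * c := by rw [← mul_assoc, hAE a ha _ h]
        _ = a * c * (a * c) := by rw [mul_assoc]
        _ = 1 := by rw [← pow_two]; exact hA2 _ h
  · have hb : ∀ x ∈ E, x ∉ A → x * c ∈ A := fun x hx hn => ((hmem x).mp hx).resolve_left hn
    refine le_antisymm ?_ ?_
    · have h1 : Nat.card E ≤ Nat.card (Bool × A) := by
        refine Nat.card_le_card_of_injective (fun y : E => if h : (y : P) ∈ A then (true, ⟨(y : P), h⟩)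
          else (false, ⟨(y : P) * c, hb y y.2 h⟩)) fun a b hab => ?_
        by_cases ha : (a : P) ∈ A <;> by_cases hb' : (b : P) ∈ A <;> simp [ha, hb'] at hab <;> exact hab
      simpa [Nat.card_prod] using h1
    · have h1 : Nat.card (Bool × A) ≤ Nat.card E := by
        refine Nat.card_le_card_of_injective (fun q : Bool × A =>
          if q.1 then (⟨(q.2 : P), Or.inl q.2.2⟩ : E)
          else ⟨(q.2 : P) * c, Or.inr (by rw [mul_assoc, hc2, mul_one]; exact q.2.2)⟩) fun a b hab => ?_
        obtain ⟨i, a⟩ := a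
        obtain ⟨j, b⟩ := b
        have hmix : ∀ u v : A, (u : P) = (v : P) * c → False := fun u v e => hc (by
          have := mul_mem (inv_mem v.2) u.2
          rwa [e, inv_mul_cancel_left] at this)
        cases i <;> cases j <;> simp at hab ⊢
        · exact hab
        · exact (hmix b a hab.symm).elim
        · exact (hmix a b hab).elim
        · exact hab
      simpa [Nat.card_prod] using h1

variable {Ω : Type*} [MulAction P Ω] [Finite Ω]

theorem card_le_orbit (U : Subgroup P) (b : Ω) (T : Set Ω) (hT : ∀ u ∈ U, u • b ∈ T) :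
    Nat.card U ≤ T.ncard * Nat.card (U ⊓ stabilizer P b : Subgroup P) := by
  refine card_le_mul_of_fibers U _ T (Set.toFinite _) (fun u => u • b) hT fun u hu v hv e => ⟨?_, ?_⟩
  · exact U.mul_mem (U.inv_mem hu) hv
  · show (u⁻¹ * v) • b = b
    rw [mul_smul, ← e, inv_smul_smul]

/-- The pointwise stabiliser. -/
abbrev pointwise (P : Type*) [Group P] {Ω : Type*} [MulAction P Ω] (T : Set Ω) : Subgroup P :=
  fixingSubgroup P T

theorem mem_pointwise {T : Set Ω} {s : P} : s ∈ pointwise P T ↔ ∀ b ∈ T, s • b = b :=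
  mem_fixingSubgroup_iff P

theorem pointwise_conj {T : Set Ω} {g : P} {s : P} :
    g * s * g⁻¹ ∈ pointwise P (g • T) ↔ s ∈ pointwise P T := by
  simp only [mem_pointwise, Set.forall_mem_image, ← Set.image_smul, mul_smul, inv_smul_smul, smul_left_cancel_iff]

theorem pointwise_normal {T : Set Ω} (hT : ∀ s : P, s • T = T) : (pointwise P T).Normal :=
  ⟨fun w hw g => by have := (pointwise_conj (T := T) (g := g)).mpr hw; rwa [hT g] at this⟩

theorem fixedBy_invariant {a : P} {s : P} (h : s * a = a * s) : s • fixedBy Ω a = fixedBy Ω a := by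
  rw [← fixedBy_conj, h, mul_inv_cancel_right]

/-- The action on a set of four points: abelian images have order at most four. -/
theorem comm_four_points (U : Subgroup P) {T : Set Ω} (hT : T.ncard = 4) (hst : ∀ u ∈ U, u • T = T)
    (hc : ∀ u ∈ U, ∀ v ∈ U, ∀ b ∈ T, (u * v) • b = (v * u) • b) :
    Nat.card U ≤ 4 * Nat.card (U ⊓ pointwise P T : Subgroup P) := by
  classical
  let ρ : U →* Equiv.Perm T :=
    { toFun := fun u => ((toPermHom P Ω) (u : P)).subtypePerm fun b => by
        show (u : P) • b ∈ T ↔ b ∈ T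
        conv_lhs => rw [← hst u u.2]
        exact Set.smul_mem_smul_set_iff
      map_one' := by ext b; simp
      map_mul' := fun a b => Equiv.ext fun c => Subtype.ext (show ((a * b : U) : P) • (c : Ω) = (a : P) • (b : P) • (c : Ω) by rw [Subgroup.coe_mul, mul_smul]) }
  have hval : ∀ (u : U) (b : T), ((ρ u b : T) : Ω) = (u : P) • (b : Ω) := fun u b => rfl
  have hcomm : ∀ σ ∈ ρ.range, ∀ τ ∈ ρ.range, σ * τ = τ * σ := by
    rintro _ ⟨u, rfl⟩ _ ⟨v, rfl⟩
    rw [← map_mul, ← map_mul]
    exact Equiv.ext fun b => Subtype.ext (by rw [hval, hval]; exact hc u u.2 v v.2 b b.2)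
  have h4 := card_le_four_of_comm (β := T) (by rw [Nat.card_coe_set_eq, hT]) ρ.range hcomm
  have hker : ∀ u : U, ρ u = 1 → (u : P) ∈ U ⊓ pointwise P T := fun u hu =>
    ⟨u.2, mem_pointwise.mpr fun b hb => by rw [← hval u ⟨b, hb⟩, hu]; rfl⟩
  have h1 := ρ.ker.card_mul_index
  rw [index_ker] at h1
  have h2 : Nat.card ρ.ker ≤ Nat.card (U ⊓ pointwise P T : Subgroup P) := by
    refine Nat.card_le_card_of_injective (fun u : ρ.ker => (⟨(u : U), hker u u.2⟩ : (U ⊓ pointwise P T : Subgroup P)))
      fun a b e => ?_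
    exact Subtype.ext (Subtype.ext (congrArg (Subtype.val : (U ⊓ pointwise P T : Subgroup P) → P) e))
  rw [← h1, mul_comm 4]
  exact Nat.mul_le_mul h2 h4

/-- A 2-group on four points has at most eight images. -/
theorem two_group_four_points (hP : IsPGroup 2 P) (U : Subgroup P) {T : Set Ω} (hT : T.ncard = 4)
    (hst : ∀ u ∈ U, u • T = T) :
    Nat.card U ≤ 8 * Nat.card (U ⊓ pointwise P T : Subgroup P) := by
  classical
  have : Fact (Nat.Prime 2) := ⟨Nat.prime_two⟩
  let ρ : U →* Equiv.Perm T :=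
    { toFun := fun u => ((toPermHom P Ω) (u : P)).subtypePerm fun b => by
        show (u : P) • b ∈ T ↔ b ∈ T
        conv_lhs => rw [← hst u u.2]
        exact Set.smul_mem_smul_set_iff
      map_one' := by ext b; simp
      map_mul' := fun a b => Equiv.ext fun c => Subtype.ext (show ((a * b : U) : P) • (c : Ω) = (a : P) • (b : P) • (c : Ω) by rw [Subgroup.coe_mul, mul_smul]) }
  have hval : ∀ (u : U) (b : T), ((ρ u b : T) : Ω) = (u : P) • (b : Ω) := fun u b => rfl
  have hker : ∀ u : U, ρ u = 1 → (u : P) ∈ U ⊓ pointwise P T := fun u hu =>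
    ⟨u.2, mem_pointwise.mpr fun b hb => by rw [← hval u ⟨b, hb⟩, hu]; rfl⟩
  have h1 := ρ.ker.card_mul_index
  rw [index_ker] at h1
  have h8 : Nat.card ρ.range ≤ 8 := by
    obtain ⟨k, hk⟩ := ((hP.to_subgroup U).of_surjective ρ.rangeRestrict ρ.rangeRestrict_surjective).exists_card_eq
    have hd := card_subgroup_dvd_card ρ.range
    rw [Nat.card_perm, Nat.card_coe_set_eq, hT, hk, show Nat.factorial 4 = 2 ^ 3 * 3 from rfl] at hd
    rw [hk]
    exact Nat.le_of_dvd (by norm_num)
      ((Nat.Coprime.pow_left k (by norm_num : Nat.Coprime 2 3)).dvd_of_dvd_mul_right hd)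
  have h2 : Nat.card ρ.ker ≤ Nat.card (U ⊓ pointwise P T : Subgroup P) := by
    refine Nat.card_le_card_of_injective (fun u : ρ.ker => (⟨(u : U), hker u u.2⟩ : (U ⊓ pointwise P T : Subgroup P)))
      fun a b e => ?_
    exact Subtype.ext (Subtype.ext (congrArg (Subtype.val : (U ⊓ pointwise P T : Subgroup P) → P) e))
  rw [← h1, mul_comm 8]
  exact Nat.mul_le_mul h2 h8

end Cfsg.Agent.FixityFour
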