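import Cfsg.Agent.Lib.FixityFour.CentralCase
/-!
# Fixity four: no central involution with four fixed points (helper20)

The 2-group then has sectional rank at most four as soon as some involution has four fixed points.
-/

set_option autoImplicit false

namespace Cfsg.Agent.FixityFour

open MulAction Subgroup
open scoped Pointwise

variable {P : Type*} [Group P] [Finite P] {Ω : Type*} [MulAction P Ω] [Finite Ω]

/-- No central involution has four fixed points. -/
def NoCentralFour (P : Type*) [Group P] (Ω : Type*) [MulAction P Ω] : Prop :=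
  ∀ q : P, Four Ω q → ∃ s : P, s * q ≠ q * s

variable (hP : IsPGroup 2 P) (hfix : FixLE P Ω) (hz : ZeroFour P Ω) (hB : NoCentralFour P Ω)
include hP hfix hz hB

omit hfix in
/-- The fixed points of a four-fixing involution are not invariant. -/
theorem exists_moving {a : P} (ha : Four Ω a) : ∃ s : P, s • fixedBy Ω a ≠ fixedBy Ω a := by
  by_contra hn
  push_neg at hn
  have : (pointwise P (fixedBy Ω a)).Normal := pointwise_normal hn
  have haW : a ∈ pointwise P (fixedBy Ω a) := mem_pointwise.mpr fun b hb => hb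
  have hlt : (⊥ : Subgroup P) < pointwise P (fixedBy Ω a) := bot_lt_iff_ne_bot.mpr fun e => ha.ne_one (by
    rw [e, mem_bot] at haW; exact haW)
  obtain ⟨d, hd, hd1, hd2, hdc⟩ := exists_central_step hP ⊥ (pointwise P (fixedBy Ω a)) hlt
  obtain ⟨b, hb⟩ := Set.nonempty_of_ncard_ne_zero (s := fixedBy Ω a) (by rw [ha.ncard]; norm_num)
  have hdF := hz.four (orderOf_eq_two (by rw [← pow_two]; exact mem_bot.mp hd2) fun e => hd1 (by
    rw [e]; exact one_mem _)) (mem_pointwise.mp hd b hb)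
  obtain ⟨s, hs⟩ := hB d hdF
  have h1 := hdc s
  rw [mem_bot, mul_inv_eq_one, mul_inv_eq_iff_eq_mul] at h1
  exact hs h1

omit hP hz hB in
theorem pointwise_inf_eq_bot {T T' : Set Ω} (hT : T.ncard = 4) (hT' : T'.ncard = 4) (hne : T ≠ T') :
    pointwise P T ⊓ pointwise P T' = ⊥ :=
  (Subgroup.eq_bot_iff_forall _).mpr fun w hw => eq_one_of_five hfix (five_le_union hT hT' hne) (by
    rintro b (hb | hb)
    · exact mem_pointwise.mp hw.1 b hb
    · exact mem_pointwise.mp hw.2 b hb)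

omit hB in
theorem card_pointwise_conj (s : P) (T : Set Ω) :
    Nat.card (pointwise P (s • T)) = Nat.card (pointwise P T) := by
  refine (Nat.card_congr ?_).symm
  exact
    { toFun := fun w => ⟨s * w * s⁻¹, pointwise_conj.mpr w.2⟩
      invFun := fun w => ⟨s⁻¹ * w * s, by
        have := w.2
        rw [show (w : P) = s * (s⁻¹ * w * s) * s⁻¹ by group, pointwise_conj] at this
        exact this⟩
      left_inv := fun w => Subtype.ext (by simp [mul_assoc])
      right_inv := fun w => Subtype.ext (by simp [mul_assoc]) }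

/-- A stabiliser of index two of the fixed points. -/
theorem index_two_bounds {a : P} (ha : Four Ω a)
    (hN : Nat.card P ≤ 2 * Nat.card (stabilizer P (fixedBy Ω a))) :
    Nat.card (pointwise P (fixedBy Ω a)) ≤ 4 ∧ Nat.card (stabilizer P (fixedBy Ω a)) ≤ 32 ∧ Nat.card P ≤ 64 ∧
      ∃ W' : Subgroup P, Nat.card W' = Nat.card (pointwise P (fixedBy Ω a)) ∧ W' ≤ stabilizer P (fixedBy Ω a) ∧
        W' ⊓ pointwise P (fixedBy Ω a) = ⊥ ∧
        (∀ w ∈ W', ∀ n ∈ stabilizer P (fixedBy Ω a), n * w * n⁻¹ * w⁻¹ ∈ W') ∧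
        ∀ w ∈ W', w * w = 1 → w ≠ 1 → Four Ω w := by
  set Δ := fixedBy Ω a with hΔ
  set N := stabilizer P Δ with hNdef
  set W := pointwise P Δ
  have h4 : Δ.ncard = 4 := ha.ncard
  obtain ⟨s, hs⟩ := exists_moving hP hz hB ha
  have hsN : s ∉ N := hs
  have hidx : N.index = 2 := by
    have h1 := N.card_mul_index
    have h2 : N.index ≠ 1 := fun e => hsN (by rw [index_eq_one.mp e]; exact mem_top s)
    have h3 : N.index ≠ 0 := index_ne_zero_of_finite
    have h5 : N.index ≤ 2 := Nat.le_of_mul_le_mul_left (by rw [h1, mul_comm]; exact hN) Nat.card_pos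
    omega
  have hNn : N.Normal := normal_of_index_eq_two hidx
  have hWN : W ≤ N := fun w hw => by
    rw [hNdef, mem_stabilizer_iff]
    exact (Set.eq_of_subset_of_ncard_le (by
      rintro _ ⟨b, hb, rfl⟩
      show w • b ∈ Δ
      rw [mem_pointwise.mp hw b hb]; exact hb) (by rw [Set.ncard_smul_set]))
  set W' := pointwise P (s • Δ)
  have hW'N : W' ≤ N := fun w hw => by
    have h1 : s⁻¹ * w * s ∈ W := by
      have := pointwise_conj (T := Δ) (g := s) (s := s⁻¹ * w * s)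
      rw [show s * (s⁻¹ * w * s) * s⁻¹ = w by group] at this
      exact this.mp hw
    have := hNn.conj_mem _ (hWN h1) s
    rwa [show s * (s⁻¹ * w * s) * s⁻¹ = w by group] at this
  have hinvN : ∀ n ∈ N, n • (s • Δ) = s • Δ := fun n hn => by
    have h1 : s⁻¹ * n * s ∈ N := by simpa using hNn.conj_mem n hn s⁻¹
    rw [hNdef, mem_stabilizer_iff] at h1
    conv_rhs => rw [← h1]
    rw [smul_smul, smul_smul]
    group
  have hsd : Δ ≠ s • Δ := fun e => hs e.symm
  have hsΔ4 : (s • Δ).ncard = 4 := by rw [Set.ncard_smul_set, h4]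
  have hdis : W' ⊓ W = ⊥ := pointwise_inf_eq_bot hfix hsΔ4 h4 (Ne.symm hsd)
  have hW'4 : Nat.card W' ≤ 4 := by
    obtain ⟨b, hb, hbn⟩ : ∃ b ∈ Δ, b ∉ s • Δ := by
      by_contra hn
      push_neg at hn
      exact hsd (Set.eq_of_subset_of_ncard_le hn (by rw [hsΔ4, h4]))
    have h1 := card_le_orbit W' b Δ fun w hw => by
      have := hW'N hw
      rw [hNdef, mem_stabilizer_iff] at this
      rw [← this]
      exact Set.smul_mem_smul_set hb
    rwa [show W' ⊓ stabilizer P b = ⊥ from (Subgroup.eq_bot_iff_forall _).mpr fun w hw =>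
      eq_one_of_five hfix (s := insert b (s • Δ)) (by rw [Set.ncard_insert_of_notMem hbn, hsΔ4]) (by
        rintro e (rfl | he)
        · exact hw.2
        · exact mem_pointwise.mp hw.1 e he),
      card_bot, mul_one, h4] at h1
  have hWW : Nat.card W' = Nat.card W := card_pointwise_conj hP hfix hz s Δ
  have hN32 : Nat.card N ≤ 32 := by
    have h1 := two_group_four_points hP N h4 (fun u hu => hu)
    have h2 := card_le_of_le (inf_le_right : N ⊓ W ≤ W)
    have h3 : Nat.card N ≤ 8 * Nat.card W := h1.trans (Nat.mul_le_mul_left 8 h2)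
    omega
  refine ⟨hWW ▸ hW'4, hN32, by omega, W', hWW, hW'N, hdis, fun w hw n hn => ?_, fun w hw hw2 hw1 => ?_⟩
  · refine W'.mul_mem ?_ (W'.inv_mem hw)
    have h1 := (pointwise_conj (T := s • Δ) (g := n) (s := w)).mpr hw
    rwa [hinvN n hn] at h1
  · obtain ⟨b, hb⟩ := Set.nonempty_of_ncard_ne_zero (s := s • Δ) (by omega)
    exact hz.four (orderOf_eq_two hw2 hw1) (mem_pointwise.mp hw b hb)

/-- The order at most `64`. -/
theorem free_small (h64 : Nat.card P ≤ 64) {x : P} (hx : Four Ω x) : Cfsg.SectionalPRankLE 2 4 P := by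
  refine sectional_small hP h64 (fun M hM hM2 => ?_) fun hcard N₀ hN₀ hsq => ?_
  · have hcomm : ∀ a ∈ M, ∀ b ∈ M, a * b = b * a := fun a ha b hb => by
      have h1 : a * b * (a * b) = 1 := by rw [← pow_two]; exact hM2 _ (mul_mem ha hb)
      rw [← inv_eq_of_mul_self h1, mul_inv_rev,
        inv_eq_of_mul_self (show a * a = 1 by rw [← pow_two]; exact hM2 a ha),
        inv_eq_of_mul_self (show b * b = 1 by rw [← pow_two]; exact hM2 b hb)]
    by_cases hxM : x ∈ M
    swap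
    · obtain ⟨q, hq, -, hqc⟩ := outside_elementary hP hfix hz h64 hM hM2 hx hxM
      obtain ⟨s, hs⟩ := hB q hq
      exact hs (hqc s)
    obtain ⟨s, hs⟩ := exists_moving hP hz hB hx
    set N := stabilizer P (fixedBy Ω x) with hNdef
    have hMN : M ≤ N := fun m hm => mem_stabilizer_iff.mpr (fixedBy_invariant (hcomm m hm x hxM))
    have hN64 : Nat.card N < Nat.card P := by
      refine lt_of_le_of_ne (card_le_card_group N) fun e => hs ?_
      have := (card_eq_iff_eq_top N).mp e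
      have h1 : s ∈ N := by rw [this]; exact mem_top s
      exact h1
    have hNM : Nat.card N ≤ 32 := pow_two_le hP N (n := 5) (by norm_num; omega)
    have hMeq : M = N := eq_of_le_of_card_ge hMN (by omega)
    have hP2 : Nat.card P ≤ 2 * Nat.card N := by rw [← hMeq, hM]; omega
    obtain ⟨hW4, -, -, -⟩ := index_two_bounds hP hfix hz hB hx hP2
    have h1 := comm_four_points M hx.ncard (fun m hm => hMN hm) (fun u hu v hv b _ => by rw [hcomm u hu v hv])
    have h2 := card_le_of_le (inf_le_right : M ⊓ pointwise P (fixedBy Ω x) ≤ pointwise P (fixedBy Ω x))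
    omega
  · have : Fact (Nat.Prime 2) := ⟨Nat.prime_two⟩
    have hcomm : ∀ g h : P, g * h * g⁻¹ * h⁻¹ ∈ N₀ := fun g h => by
      have hh := Sectional.commutator_mem_of_sq (H := ⊤) (N := N₀) (fun y _ => hsq y) (mem_top g) (mem_top h)
      simpa [commutatorElement_def] using hh
    have hN₀n : N₀.Normal := ⟨fun w hw g => by
      have := N₀.mul_mem (hcomm g w) hw
      rwa [inv_mul_cancel_right] at this⟩
    obtain ⟨hW4, hN32, -, W', hW'card, hW'N, hdis, hW'n, hW'F⟩ := index_two_bounds hP hfix hz hB hx (by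
      refine (centralizer_index_le N₀ hN₀ hsq x).trans (Nat.mul_le_mul_left 2 (card_le_of_le fun u hu => ?_))
      exact mem_stabilizer_iff.mpr (fixedBy_invariant (mem_centralizer_singleton_iff.mp hu)))
    set N := stabilizer P (fixedBy Ω x) with hNdef
    have hCle : centralizer ({x} : Set P) ≤ N := fun u hu =>
      mem_stabilizer_iff.mpr (fixedBy_invariant (mem_centralizer_singleton_iff.mp hu))
    have hN : Nat.card N = 32 := by
      have h1 := centralizer_index_le N₀ hN₀ hsq x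
      have h2 := card_le_of_le hCle
      omega
    have h1 := two_group_four_points hP N hx.ncard (fun u hu => hu)
    set W := pointwise P (fixedBy Ω x)
    have h2 := card_le_of_le (inf_le_right : N ⊓ W ≤ W)
    have hW : Nat.card W = 4 := by omega
    -- the commutators in `W'` are trivial
    have hcen : ∀ w ∈ W', ∀ n ∈ N, n * w = w * n := by
      intro w hw n hn
      by_contra hne
      have h3 : n * w * n⁻¹ * w⁻¹ ≠ 1 := fun e => hne (by
        rw [mul_inv_eq_one, mul_inv_eq_iff_eq_mul] at e; exact e)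
      set ν := n * w * n⁻¹ * w⁻¹
      have hν2 : ν * ν = 1 := by
        have h4 := congrArg Subtype.val (pow_card_eq_one' (x := (⟨ν, hcomm n w⟩ : N₀)))
        rw [hN₀] at h4
        simpa [pow_two] using h4
      obtain ⟨s, hs⟩ := hB ν (hW'F ν (hW'n w hw n hn) hν2 h3)
      have hone : ∀ u ∈ N₀, u = 1 ∨ u = ν := fun u hu => by
        by_contra hne'
        push_neg at hne'
        have hsub : ({1, ν, u} : Set P) ⊆ (N₀ : Set P) := by
          rintro e (rfl | rfl | rfl)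
          · exact one_mem _
          · exact hcomm n w
          · exact hu
        have h5 := Set.ncard_le_ncard hsub (Set.toFinite _)
        rw [Set.ncard_eq_three.mpr ⟨1, ν, u, h3.symm, hne'.1.symm, hne'.2.symm, rfl⟩, ← Nat.card_coe_set_eq] at h5
        simp only [SetLike.coe_sort_coe, hN₀] at h5
        omega
      rcases hone _ (hN₀n.conj_mem ν (hcomm n w) s) with e | e
      · exact h3 (conj_eq_one_iff.mp e)
      · exact hs (mul_inv_eq_iff_eq_mul.mp e)
    -- the image of `N` is abelian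
    set K := W' ⊔ W
    have hcommN : ∀ u ∈ N, ∀ v ∈ N, ∀ b ∈ fixedBy Ω x, (u * v) • b = (v * u) • b := by
      have hWn : ∀ v ∈ W, ∀ n ∈ N, n * v * n⁻¹ ∈ W := fun v hv n hn => by
        have h3 := (pointwise_conj (T := fixedBy Ω x) (g := n) (s := v)).mpr hv
        rwa [show n • fixedBy Ω x = fixedBy Ω x from hn] at h3
      have hKN : K ≤ N := sup_le hW'N fun w hw => mem_stabilizer_iff.mpr
        (Set.eq_of_subset_of_ncard_le (by
          rintro _ ⟨b, hb, rfl⟩
          show w • b ∈ _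
          rw [mem_pointwise.mp hw b hb]; exact hb) (by rw [Set.ncard_smul_set]))
      have hW'norm : W' ≤ normalizer (W : Set P) := fun w hw => mem_normalizer_iff.mpr fun v =>
        ⟨fun hv => hWn v hv w (hW'N hw), fun hv => by
          have := hWn _ hv w⁻¹ (N.inv_mem (hW'N hw))
          rwa [show w⁻¹ * (w * v * w⁻¹) * w⁻¹⁻¹ = v by group] at this⟩
      have hKmem : ∀ g ∈ K, ∀ b ∈ fixedBy Ω x, ∃ w ∈ W', g • b = w • b := fun g hg b hb => by
        have hg' : g ∈ ((W' : Set P) * (W : Set P)) := by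
          rw [← coe_mul_of_left_le_normalizer_right W' W hW'norm]; exact hg
        obtain ⟨w, hw, v, hv, rfl⟩ := hg'
        exact ⟨w, hw, by rw [mul_smul, mem_pointwise.mp hv b hb]⟩
      have hst : ∀ u ∈ N, ∀ b ∈ fixedBy Ω x, u • b ∈ fixedBy Ω x := fun u hu b hb => by
        rw [← show u • fixedBy Ω x = fixedBy Ω x from hu]; exact Set.smul_mem_smul_set hb
      -- `K` commutes with `N` on the four points
      have hKc : ∀ g ∈ K, ∀ u ∈ N, ∀ b ∈ fixedBy Ω x, (g * u) • b = (u * g) • b := by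
        intro g hg u hu b hb
        obtain ⟨w, hw, v, hv, rfl⟩ := (coe_mul_of_left_le_normalizer_right W' W hW'norm).subset (show g ∈ ((W' ⊔ pointwise P (fixedBy Ω x) : Subgroup P) : Set P) from hg)
        rw [mul_smul, mul_smul, mul_smul, mul_smul, mem_pointwise.mp hv _ (hst u hu b hb),
          mem_pointwise.mp hv b hb, ← mul_smul, ← mul_smul, hcen w hw u hu]
      have hK16 : 16 ≤ Nat.card K := by
        have hc : Nat.card (W' × W) ≤ Nat.card K := by
          refine Nat.card_le_card_of_injective (fun p : W' × W => (⟨(p.1 : P) * p.2,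
            mul_mem (mem_sup_left p.1.2) (mem_sup_right p.2.2)⟩ : K)) fun p q e => ?_
          have e' : (p.1 : P) * p.2 = q.1 * q.2 := congrArg Subtype.val e
          have h3 : (q.1 : P)⁻¹ * p.1 = q.2 * (p.2 : P)⁻¹ := by
            rw [eq_mul_inv_iff_mul_eq, mul_assoc, e', inv_mul_cancel_left]
          have h4 : (q.1 : P)⁻¹ * p.1 ∈ W' ⊓ W :=
            Subgroup.mem_inf.mpr ⟨W'.mul_mem (W'.inv_mem q.1.2) p.1.2, h3 ▸ W.mul_mem q.2.2 (W.inv_mem p.2.2)⟩
          rw [hdis, mem_bot] at h4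
          have h5 := inv_mul_eq_one.mp h4
          rw [h4, eq_comm, mul_inv_eq_one] at h3
          exact Prod.ext (Subtype.ext h5.symm) (Subtype.ext h3.symm)
        rw [Nat.card_prod, hW'card, hW] at hc
        omega
      intro u hu v hv b hb
      by_cases huK : u ∈ K
      · exact hKc u huK v hv b hb
      by_cases hvK : v ∈ K
      · exact (hKc v hvK u hu b hb).symm
      have hk := mem_of_double hKN (by omega) hu huK hv hvK
      set k := u⁻¹ * v
      have hv' : v = u * k := by rw [mul_inv_cancel_left]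
      rw [hv', ← mul_assoc]
      rw [mul_smul (u * u), show (u * k * u) • b = u • ((k * u) • b) by rw [mul_assoc, mul_smul],
        hKc k hk u hu b hb, ← mul_smul, ← mul_smul, mul_assoc]
    have h6 := comm_four_points N hx.ncard (fun u hu => hu) hcommN
    have h7 : Nat.card (N ⊓ pointwise P (fixedBy Ω x) : Subgroup P) ≤ 4 :=
      (card_le_of_le inf_le_right).trans hW.le
    omega

/-- The configuration with a class of four four-fixing involutions in a normal `2³`. -/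
structure Quad (Ω : Type*) {P : Type*} [Group P] [Finite P] [MulAction P Ω] (A P0 : Subgroup P) (a z0 d : P) : Prop where
  hA : NormalEight A
  ha₀ : a ∈ A
  ha₀F : Four Ω a
  hNeq : stabilizer P (fixedBy Ω a) = centralizer ({a} : Set P)
  hPC : Nat.card P = 4 * Nat.card (centralizer ({a} : Set P))
  hz0A : z0 ∈ A
  hz01 : z0 ≠ 1
  hc0 : ∀ s : P, s * z0 = z0 * s
  hP0A : P0 ≤ A
  hP0card : Nat.card P0 = 4
  hz0P0 : z0 ∈ P0
  hdA : d ∈ A
  hdP0 : d ∈ P0
  hP0cases : ∀ p ∈ P0, p = 1 ∨ p = z0 ∨ p = d ∨ p = z0 * d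
  hdconj : ∀ s : P, s * d * s⁻¹ = d ∨ s * d * s⁻¹ = z0 * d
  hP0free : ∀ p ∈ P0, ¬ Four Ω p
  hclass : ∀ g ∈ A, g ∉ P0 → ∃ s : P, s * a * s⁻¹ = g
  hbig : 64 < Nat.card P

section quad

variable {A P0 : Subgroup P} {a z0 d : P} (q : Quad Ω A P0 a z0 d)
include q

local notation "Δ" => fixedBy Ω a
local notation "W" => pointwise P (fixedBy Ω a)
local notation "N" => stabilizer P (fixedBy Ω a)

omit hP hfix hz hB in
theorem Quad.haP0 : a ∉ P0 := fun h => q.hP0free a h q.ha₀F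

omit hP hfix hz hB in
theorem Quad.hdouble : Nat.card A ≤ 2 * Nat.card P0 := by rw [q.hA.card, q.hP0card]

omit hP hfix hz hB in
theorem Quad.hF {g : P} (hg : g ∈ A) (hg' : g ∉ P0) : Four Ω g := by
  obtain ⟨s, rfl⟩ := q.hclass g hg hg'; exact q.ha₀F.conj s

omit hP hfix hz hB in
theorem Quad.h4 : (Δ).ncard = 4 := q.ha₀F.ncard

omit hP hfix hz hB in
theorem Quad.hNa {n : P} (hn : n ∈ N) : n * a = a * n := by
  rw [q.hNeq] at hn; exact mem_centralizer_singleton_iff.mp hn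

omit hP hfix hz hB in
theorem Quad.hWN : W ≤ N := fun w hw => mem_stabilizer_iff.mpr (Set.eq_of_subset_of_ncard_le (by
    rintro _ ⟨b, hb, rfl⟩
    show w • b ∈ Δ
    rw [mem_pointwise.mp hw b hb]; exact hb) (by rw [Set.ncard_smul_set]))

omit hP hfix hz hB in
theorem Quad.hAN : A ≤ N := fun g hg =>
  mem_stabilizer_iff.mpr (fixedBy_invariant (q.hA.comm g hg a q.ha₀))

omit hP hfix hz hB q in
theorem quad_norm {n w : P} (hn : n ∈ N) (hw : w ∈ W) : n * w * n⁻¹ ∈ W := by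
  have := (pointwise_conj (T := Δ) (g := n) (s := w)).mpr hw
  rwa [show n • Δ = Δ from hn] at this

omit hP hfix hz hB q in
theorem quad_hst {u : P} (hu : u ∈ N) {b : Ω} (hb : b ∈ Δ) : u • b ∈ Δ := by
  rw [← show u • Δ = Δ from hu]; exact Set.smul_mem_smul_set hb

omit hP hfix hz hB in
theorem Quad.hinW : a ∈ W := mem_pointwise.mpr fun _ hb => hb

theorem Quad.hWA {g : P} (hg : g ∈ A) (hgW : g ∈ W) : g = 1 ∨ g = a := by
  by_cases hg1 : g = 1
  · exact Or.inl hg1
  have hgfix : fixedBy Ω g = Δ :=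
    fixedBy_eq_of_subset hfix hg1 q.h4 fun b hb => mem_pointwise.mp hgW b hb
  have hgF : Four Ω g := ⟨orderOf_eq_two (q.hA.mul_self hg) hg1, by rw [hgfix]; exact q.ha₀F.2⟩
  obtain ⟨s, rfl⟩ := q.hclass g hg fun hm => q.hP0free g hm hgF
  rw [fixedBy_conj] at hgfix
  exact Or.inr (by rw [q.hNa (mem_stabilizer_iff.mpr hgfix), mul_inv_cancel_right])

theorem Quad.hWP0 {g : P} (hgW : g ∈ W) (hgP : g ∈ P0) : g = 1 := by
  rcases q.hWA hP hfix hz hB (q.hP0A hgP) hgW with e | e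
  · exact e
  · exact absurd (e ▸ hgP) q.haP0

theorem Quad.hWc {w : P} (hw : w ∈ W) {g : P} (hg : g ∈ A) : w * g = g * w := by
  have hWout : ∀ g ∈ A, g ∉ P0 → w * g = g * w := by
    intro g hg hg'
    have h1 : w * g * w⁻¹ * g⁻¹ ∈ A := mul_mem (q.hA.normal.conj_mem g hg w) (inv_mem hg)
    have h2 : w * g * w⁻¹ * g⁻¹ ∈ W := by
      have h3 : g * w⁻¹ * g⁻¹ ∈ W := quad_norm (q.hAN hg) (inv_mem hw)
      have := (pointwise P Δ).mul_mem hw h3
      simpa [mul_assoc] using this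
    rcases q.hWA hP hfix hz hB h1 h2 with e | e
    · exact mul_inv_eq_iff_eq_mul.mp (mul_inv_eq_one.mp e)
    · exfalso
      have h5 : w * g * w⁻¹ = a * g := mul_inv_eq_iff_eq_mul.mp e
      have h6 : a * g ∈ P0 := by
        have := mem_of_double q.hP0A q.hdouble q.ha₀ q.haP0 hg hg'
        rwa [inv_eq_of_mul_self (q.hA.mul_self q.ha₀)] at this
      exact q.hP0free _ h6 (h5 ▸ (q.hF hg hg').conj w)
  by_cases hg' : g ∈ P0
  · have hag : a * g ∉ P0 := fun hm => q.haP0 (by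
      have := P0.mul_mem hm (P0.inv_mem hg'); rwa [mul_inv_cancel_right] at this)
    have h1 := hWout (a * g) (mul_mem q.ha₀ hg) hag
    rw [← mul_assoc, hWout a q.ha₀ q.haP0, mul_assoc, mul_assoc] at h1
    exact mul_left_cancel h1
  · exact hWout g hg hg'

theorem Quad.hWbound {g : P} (hg : g ∈ A) (hg' : g ∉ P0) (hga : g ≠ a) :
    Nat.card W ≤ (fixedBy Ω g \ Δ).ncard := by
  obtain ⟨b, hb, hbΔ⟩ : ∃ b ∈ fixedBy Ω g, b ∉ Δ := by
    by_contra hn
    push_neg at hn
    have he : fixedBy Ω g = Δ :=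
      Set.eq_of_subset_of_ncard_le hn (by rw [q.h4, (q.hF hg hg').ncard])
    rcases q.hWA hP hfix hz hB hg (mem_pointwise.mpr fun b hb => he.symm.subset hb) with e | e
    · exact hg' (e ▸ one_mem _)
    · exact hga e
  have h1 := card_le_orbit W b (fixedBy Ω g \ Δ) fun w hw =>
    ⟨smul_mem_fixedBy_of_commute (q.hWc hP hfix hz hB hw hg) hb, fun hm => hbΔ (by
      have := mem_pointwise.mp (inv_mem hw) _ hm
      rw [inv_smul_smul] at this
      rw [this]; exact hm)⟩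
  rwa [show W ⊓ stabilizer P b = ⊥ from (Subgroup.eq_bot_iff_forall _).mpr fun w hw => by
    refine eq_one_of_five hfix (s := insert b Δ) (by rw [Set.ncard_insert_of_notMem hbΔ, q.h4]) ?_
    rintro e (rfl | he)
    · exact hw.2
    · exact mem_pointwise.mp hw.1 e he, card_bot, mul_one] at h1

theorem Quad.hW4 : Nat.card W = 4 ∧ Nat.card N * 4 = Nat.card P ∧ Nat.card N ≤ 32 := by
  have hP128 : Nat.card P = 4 * Nat.card N := by rw [q.hPC, q.hNeq]
  have hN8 : Nat.card N ≤ 8 * Nat.card W :=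
    (two_group_four_points hP N q.h4 (fun u hu => hu)).trans (Nat.mul_le_mul_left 8 (card_le_of_le inf_le_right))
  have hbig := q.hbig
  obtain ⟨g, hg, hga⟩ : ∃ g ∈ (A : Set P) \ (P0 : Set P), g ≠ a := by
    have hout : ((A : Set P) \ (P0 : Set P)).ncard = 4 := by
      rw [Set.ncard_sdiff (fun x hx => q.hP0A hx) (Set.toFinite _), ← Nat.card_coe_set_eq, ← Nat.card_coe_set_eq]
      simp only [SetLike.coe_sort_coe, q.hP0card, q.hA.card]
    obtain ⟨g, hg, hga⟩ := Set.exists_ne_of_one_lt_ncard (s := (A : Set P) \ (P0 : Set P)) (by omega) a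
    exact ⟨g, hg, hga⟩
  have h1 := q.hWbound hP hfix hz hB hg.1 hg.2 hga
  have h2 := Set.ncard_le_ncard (Set.sdiff_subset : fixedBy Ω g \ Δ ⊆ fixedBy Ω g) (Set.toFinite _)
  rw [(q.hF hg.1 hg.2).ncard] at h2
  have h3 : 2 ^ 2 ≤ Nat.card W := pow_two_ge hP W (n := 1) (by omega)
  omega

theorem Quad.horb {β : Ω} (hβ : β ∈ Δ) :
    (∀ g ∈ A, g • β = β → g = 1 ∨ g = a) ∧ ∀ e ∈ Δ, ∃ g ∈ A, g • β = e := by
  obtain ⟨hW4, -, -⟩ := q.hW4 hP hfix hz hB
  have hAst : ∀ g ∈ A, g • β = β → g = 1 ∨ g = a := fun g hg e => by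
    by_contra hn
    push_neg at hn
    have hgF := hz.four (orderOf_eq_two (q.hA.mul_self hg) hn.1) e
    have hg' : g ∉ P0 := fun hm => q.hP0free g hm hgF
    have h1 := q.hWbound hP hfix hz hB hg hg' hn.2
    have h2 := Set.ncard_le_ncard (show fixedBy Ω g \ Δ ⊆ fixedBy Ω g \ {β} from
      Set.sdiff_subset_sdiff_right (Set.singleton_subset_iff.mpr hβ)) (Set.toFinite _)
    rw [Set.ncard_sdiff_singleton_of_mem (show β ∈ fixedBy Ω g from e), hgF.ncard] at h2
    omega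
  refine ⟨hAst, fun e he => ?_⟩
  set O := (fun g : P => g • β) '' (A : Set P)
  have h1 := card_le_orbit A β O fun g hg => ⟨g, hg, rfl⟩
  have h2 : Nat.card (A ⊓ stabilizer P β : Subgroup P) ≤ 2 := by
    have hsub : ((A ⊓ stabilizer P β : Subgroup P) : Set P) ⊆ {1, a} := fun g hg => hAst g hg.1 hg.2
    have h3 := Set.ncard_le_ncard hsub (Set.toFinite _)
    rw [← Nat.card_coe_set_eq, Set.ncard_pair q.ha₀F.ne_one.symm] at h3
    exact h3
  have hsub : O ⊆ Δ := by rintro _ ⟨g, hg, rfl⟩; exact quad_hst (q.hAN hg) hβ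
  have h3 : 4 ≤ O.ncard := by
    have := h1.trans (Nat.mul_le_mul_left _ h2)
    rw [q.hA.card] at this
    omega
  exact (Set.eq_of_subset_of_ncard_le hsub (by rw [q.h4]; omega) (Set.toFinite _)).symm.subset he

omit hP hfix hz hB in
theorem Quad.hgenA {g : P} (hg : g ∈ A) : ∃ p ∈ P0, g = p ∨ g = a * p := by
  by_cases h : g ∈ P0
  · exact ⟨g, h, Or.inl rfl⟩
  · exact ⟨a⁻¹ * g, mem_of_double q.hP0A q.hdouble q.ha₀ q.haP0 hg h, Or.inr (by rw [mul_inv_cancel_left])⟩

theorem Quad.hNβW {β : Ω} (hβ : β ∈ Δ) {n : P} (hn : n ∈ N) (hnβ : n • β = β) (hnd : n * d = d * n) :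
    n ∈ W := by
  have hp : ∀ p ∈ P0, n * p = p * n := fun p hp => by
    rcases q.hP0cases p hp with e | e | e | e <;> rw [e]
    · rw [mul_one, one_mul]
    · exact q.hc0 n
    · exact hnd
    · rw [← mul_assoc, q.hc0 n, mul_assoc, hnd, ← mul_assoc]
  refine mem_pointwise.mpr fun e he => ?_
  obtain ⟨g, hg, rfl⟩ := (q.horb hP hfix hz hB hβ).2 e he
  have hng : n * g = g * n := by
    obtain ⟨p, hp', e | e⟩ := q.hgenA hg <;> rw [e]
    · exact hp p hp'
    · rw [← mul_assoc, q.hNa hn, mul_assoc, hp p hp', ← mul_assoc]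
  rw [smul_smul, hng, mul_smul, hnβ]

theorem Quad.huniq {u : P} (hu : u ∈ W) {p : P} (hp : p ∈ P0) {u' : P} (hu' : u' ∈ W) {p' : P} (hp' : p' ∈ P0)
    (e : u * p = u' * p') : u = u' ∧ p = p' := by
  have h1 : u'⁻¹ * u = p' * p⁻¹ := by rw [eq_mul_inv_iff_mul_eq, mul_assoc, e, inv_mul_cancel_left]
  have h2 := q.hWP0 hP hfix hz hB (mul_mem (inv_mem hu') hu) (h1 ▸ mul_mem hp' (inv_mem hp))
  have h3 := inv_mul_eq_one.mp h2
  exact ⟨h3.symm, by rw [← h3] at e; exact mul_left_cancel e⟩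

theorem Quad.hdec {t : P} (ht : ∀ g ∈ A, t * g = g * t) : ∃ u ∈ W, ∃ p ∈ P0, t = u * p := by
  obtain ⟨β, hβ⟩ := Set.nonempty_of_ncard_ne_zero (s := Δ) (by rw [q.h4]; norm_num)
  have htN : t ∈ N := mem_stabilizer_iff.mpr (fixedBy_invariant (ht a q.ha₀))
  obtain ⟨g, hg, hgt⟩ := (q.horb hP hfix hz hB hβ).2 _ (quad_hst htN hβ)
  have hu : g⁻¹ * t ∈ W := q.hNβW hP hfix hz hB hβ (mul_mem (inv_mem (q.hAN hg)) htN)
    (by rw [mul_smul, ← hgt, inv_smul_smul]) (by
    rw [mul_assoc, ht d q.hdA, ← mul_assoc, q.hA.comm _ (inv_mem hg) d q.hdA, mul_assoc])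
  obtain ⟨p, hp, e | e⟩ := q.hgenA hg
  · exact ⟨g⁻¹ * t, hu, p, hp, by rw [q.hWc hP hfix hz hB hu (q.hP0A hp), ← e, mul_inv_cancel_left]⟩
  · refine ⟨a * (g⁻¹ * t), mul_mem q.hinW hu, p, hp, ?_⟩
    rw [mul_assoc, q.hWc hP hfix hz hB hu (q.hP0A hp), ← mul_assoc, ← e, mul_inv_cancel_left]

theorem Quad.haz : a * z0 ∉ P0 := fun hm => q.haP0 (by
  have := P0.mul_mem hm (P0.inv_mem q.hz0P0); rwa [mul_inv_cancel_right] at this)

local notation "W4" => pointwise P (fixedBy Ω (a * z0))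

theorem Quad.W4_props :
    Nat.card W4 = 4 ∧ (∀ e ∈ W4, ∀ g ∈ A, e * g = g * e) ∧
      (∀ g ∈ W, g ∈ W4 → g = 1) ∧ (∀ g ∈ W4, g ∈ P0 → g = 1) ∧
      ∃ s : P, s * a * s⁻¹ = a * z0 ∧ ∀ w ∈ W, s * w * s⁻¹ ∈ W4 := by
  have haz := q.haz hP hfix hz hB
  obtain ⟨s, hs⟩ := q.hclass (a * z0) (mul_mem q.ha₀ q.hz0A) haz
  refine ⟨?_, fun e he g hg => ?_, fun g hg hg' => ?_, fun g hg hgP => ?_, s, hs, fun w hw => ?_⟩
  · rw [← hs, fixedBy_conj, card_pointwise_conj hP hfix hz]; exact (q.hW4 hP hfix hz hB).1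
  · have he' : s⁻¹ * e * s ∈ W := by
      have := pointwise_conj (T := Δ) (g := s) (s := s⁻¹ * e * s)
      rw [show s * (s⁻¹ * e * s) * s⁻¹ = e by group, ← fixedBy_conj, hs] at this
      exact this.mp he
    have h1 := q.hWc hP hfix hz hB he' (g := s⁻¹ * g * s) (by simpa using q.hA.normal.conj_mem g hg s⁻¹)
    calc e * g = s * (s⁻¹ * e * s * (s⁻¹ * g * s)) * s⁻¹ := by group
      _ = g * e := by rw [h1]; group
  · have hazne : fixedBy Ω (a * z0) ≠ Δ := fun e => by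
      rcases q.hWA hP hfix hz hB (mul_mem q.ha₀ q.hz0A) (mem_pointwise.mpr fun b hb => e.symm.subset hb) with h | h
      · exact haz (h ▸ one_mem _)
      · exact q.hz01 (mul_left_cancel (a := a) (by rw [mul_one]; exact h))
    have := pointwise_inf_eq_bot (P := P) hfix q.h4 (q.hF (mul_mem q.ha₀ q.hz0A) haz).ncard (Ne.symm hazne)
    exact mem_bot.mp (this ▸ Subgroup.mem_inf.mpr ⟨hg, hg'⟩)
  · by_contra hg1
    obtain ⟨b, hb⟩ := Set.nonempty_of_ncard_ne_zero (s := fixedBy Ω (a * z0))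
      (by rw [(q.hF (mul_mem q.ha₀ q.hz0A) haz).ncard]; norm_num)
    exact q.hP0free g hgP (hz.four (orderOf_eq_two (q.hA.mul_self (q.hP0A hgP)) hg1) (mem_pointwise.mp hg b hb))
  · rw [← hs, fixedBy_conj]; exact pointwise_conj.mpr hw

theorem Quad.hW2 {w : P} (hw : w ∈ W) : w * w = 1 := by
  obtain ⟨hW4, -, -⟩ := q.hW4 hP hfix hz hB
  obtain ⟨-, hW4c, -, -, s, hs, hW4conj⟩ := q.W4_props hP hfix hz hB
  have haz := q.haz hP hfix hz hB
  have hinW := q.hinW
  have ha₀1 := q.ha₀F.ne_one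
  have hz01 := q.hz01
  have hA := q.hA
  have ha₀ := q.ha₀
  have hP0A := q.hP0A
  have hWc : ∀ u ∈ W, ∀ g ∈ A, u * g = g * u := fun u hu g hg => q.hWc hP hfix hz hB hu hg
  have hdec : ∀ t : P, (∀ g ∈ A, t * g = g * t) → ∃ u ∈ W, ∃ p ∈ P0, t = u * p := fun t ht => q.hdec hP hfix hz hB ht
  by_contra hw2
  have hord : orderOf w = 4 := by
    have h1 : orderOf w ∣ 2 ^ 2 := by
      rw [show (2 : ℕ) ^ 2 = 4 from rfl, ← hW4, ← Subgroup.orderOf_mk w hw]; exact orderOf_dvd_natCard _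
    obtain ⟨k, hk, hk'⟩ := (Nat.dvd_prime_pow Nat.prime_two).mp h1
    interval_cases k
    · exact absurd (by rw [orderOf_eq_one_iff.mp hk', mul_one]) hw2
    · exact absurd (by rw [← pow_two, ← hk'.trans (pow_one 2)]; exact pow_orderOf_eq_one w) hw2
    · exact hk'
  have hzp : zpowers w = W := eq_of_le_of_card_ge (zpowers_le.mpr hw) (by rw [Nat.card_zpowers, hord, hW4])
  have hsq2 : ∀ u ∈ W, u * u = 1 ∨ u * u = w * w := fun u hu => by
    rw [← hzp] at hu
    obtain ⟨i, rfl⟩ := mem_zpowers_iff.mp hu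
    have hw4' : w ^ (4 : ℤ) = 1 := by
      rw [show (4 : ℤ) = ((4 : ℕ) : ℤ) from rfl, zpow_natCast, ← hord]; exact pow_orderOf_eq_one w
    rcases Int.even_or_odd i with ⟨j, rfl⟩ | ⟨j, rfl⟩
    · left
      rw [← zpow_add, show j + j + (j + j) = 4 * j by ring, zpow_mul, hw4', one_zpow]
    · right
      rw [← zpow_add, show 2 * j + 1 + (2 * j + 1) = 4 * j + 2 by ring, zpow_add, zpow_mul, hw4', one_zpow,
        one_mul, zpow_two]
  have haw : w * w = a := by
    rw [← hzp] at hinW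
    obtain ⟨i, hi⟩ := mem_zpowers_iff.mp hinW
    have hw4' : w ^ (4 : ℤ) = 1 := by
      rw [show (4 : ℤ) = ((4 : ℕ) : ℤ) from rfl, zpow_natCast, ← hord]; exact pow_orderOf_eq_one w
    have hmod : w ^ (i % 4) = a := by
      rw [← hi]
      conv_rhs => rw [← Int.emod_add_mul_ediv i 4, zpow_add, zpow_mul, hw4', one_zpow, mul_one]
    have h0 : 0 ≤ i % 4 := Int.emod_nonneg i (by norm_num)
    have h5 : i % 4 < 4 := Int.emod_lt_of_pos i (by norm_num)
    have ha2 : a * a = 1 := hA.mul_self ha₀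
    interval_cases hh : i % 4
    · exact absurd (by rw [← hmod, zpow_zero]) ha₀1
    · rw [zpow_one] at hmod; exact absurd (hmod ▸ ha2) hw2
    · rw [zpow_two] at hmod; exact hmod
    · refine absurd ?_ hw2
      have h6 : w ^ (3 : ℤ) * w ^ (3 : ℤ) = 1 := by rw [hmod, ha2]
      rw [← zpow_add, show (3 : ℤ) + 3 = 4 + 2 by norm_num, zpow_add, hw4', one_mul, zpow_two] at h6
      exact h6
  obtain ⟨u, hu, p, hp, e⟩ := hdec (s * w * s⁻¹) (hW4c _ (hW4conj w hw))
  have h1 : s * w * s⁻¹ * (s * w * s⁻¹) = a * z0 := by rw [← hs, ← haw]; group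
  have h2 : u * p * (u * p) = u * u := by
    rw [mul_assoc u p, ← mul_assoc p u p, ← hWc u hu p (hP0A hp), mul_assoc u p p, hA.mul_self (hP0A hp), mul_one]
  rw [e, h2] at h1
  rcases hsq2 u hu with e' | e'
  · exact haz (by rw [← h1, e']; exact one_mem _)
  · rw [e', haw] at h1
    exact hz01 (mul_left_cancel (a := a) (by rw [mul_one]; exact h1.symm))

theorem Quad.exists_c₀ {β : Ω} (hβ : β ∈ Δ) : ∃ c₀ ∈ N, c₀ • β = β ∧ c₀ ∉ W := by
  obtain ⟨hW4, hP128, hN32⟩ := q.hW4 hP hfix hz hB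
  have hbig := q.hbig
  by_contra hn
  push_neg at hn
  have h1 := card_le_orbit N β Δ fun u hu => quad_hst hu hβ
  have h2 : Nat.card (N ⊓ stabilizer P β : Subgroup P) ≤ Nat.card W :=
    card_le_of_le fun u hu => hn u hu.1 hu.2
  rw [q.h4] at h1
  omega

theorem Quad.hcd {β : Ω} (hβ : β ∈ Δ) {n : P} (hn : n ∈ N) (hnβ : n • β = β) (hnW : n ∉ W) :
    n * d * n⁻¹ = z0 * d :=
  (q.hdconj n).resolve_left fun e => hnW (q.hNβW hP hfix hz hB hβ hn hnβ (mul_inv_eq_iff_eq_mul.mp e))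

theorem Quad.hmoveAll {β : Ω} (hβ : β ∈ Δ) {c₀ : P} (hc₀N : c₀ ∈ N) (hc₀β : c₀ • β = β) (hc₀W : c₀ ∉ W)
    {b' : P} (hb' : b' ∈ W) (hb'1 : b' ≠ 1) (hb'a : b' ≠ a)
    (hWset : ∀ g ∈ W, g = 1 ∨ g = a ∨ g = b' ∨ g = b' * a) : c₀ * b' * c₀⁻¹ = b' * a := by
  obtain ⟨hW4, hP128, hN32⟩ := q.hW4 hP hfix hz hB
  obtain ⟨hA, ha₀, ha₀F, hNeq, hPC, hz0A, hz01, hc0, hP0A, hP0card, hz0P0, hdA, hdP0, hP0cases, hdconj, hP0free, hclass, hbig⟩ := id q
  obtain ⟨hW4card, hW4c, hWW4, hW4P0, -⟩ := q.W4_props hP hfix hz hB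
  have hNa : ∀ n ∈ N, n * a = a * n := fun n hn => q.hNa hn
  have hWnorm : ∀ n ∈ N, ∀ w ∈ W, n * w * n⁻¹ ∈ W := fun n hn w hw => quad_norm hn hw
  have hinW := q.hinW
  have hdec : ∀ t : P, (∀ g ∈ A, t * g = g * t) → ∃ u ∈ W, ∃ p ∈ P0, t = u * p := fun t ht => q.hdec hP hfix hz hB ht
  have hcd : ∀ n ∈ N, n • β = β → n ∉ W → n * d * n⁻¹ = z0 * d := fun n hn h1 h2 => q.hcd hP hfix hz hB hβ hn h1 h2
  -- the component map from `W4` is onto
  obtain ⟨e, he, q, hq, heq⟩ : ∃ e ∈ W4, ∃ q ∈ P0, e = b' * q := by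
    by_contra hn
    push_neg at hn
    classical
    choose f g hfg using fun e : P => show ∃ f g : P, e ∈ W4 → f ∈ W ∧ g ∈ P0 ∧ e = f * g from
      if he : e ∈ W4 then let ⟨u, hu, p, hp, h⟩ := hdec e (hW4c e he); ⟨u, p, fun _ => ⟨hu, hp, h⟩⟩
      else ⟨1, 1, fun h => absurd h he⟩
    have h1 := card_le_mul_of_fibers W4 ⊥ ((W : Set P) \ {b'}) (Set.toFinite _) f (fun e he => ⟨(hfg e he).1, fun h => by
        obtain ⟨-, hg, h'⟩ := hfg e he
        rw [show f e = b' from h] at h'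
        exact hn e he _ hg h'⟩) fun u hu v hv e => by
      rw [mem_bot]
      obtain ⟨hf1, hg1, h1⟩ := hfg u hu
      obtain ⟨hf2, hg2, h2⟩ := hfg v hv
      refine hW4P0 _ (mul_mem (inv_mem hu) hv) ?_
      rw [h1, h2, e, mul_inv_rev, mul_assoc, inv_mul_cancel_left]
      exact mul_mem (inv_mem hg1) hg2
    rw [card_bot, mul_one, Set.ncard_sdiff_singleton_of_mem (show b' ∈ (W : Set P) from hb'), ← Nat.card_coe_set_eq,
      hW4card] at h1
    simp only [SetLike.coe_sort_coe, hW4] at h1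
    omega
  have hc₀i : c₀⁻¹ ∈ N := inv_mem hc₀N
  -- `c₀` moves `b'`
  have hmove : c₀ * b' * c₀⁻¹ = b' * a := by
    rcases hWset _ (hWnorm c₀ hc₀N b' hb') with e' | e' | e' | e'
    · exact absurd (conj_eq_one_iff.mp e') hb'1
    · refine absurd ?_ hb'a
      calc b' = c₀⁻¹ * (c₀ * b' * c₀⁻¹) * c₀ := by group
        _ = a := by rw [e', mul_assoc, ← hNa c₀ hc₀N, inv_mul_cancel_left]
    · exfalso
      have hc₀4 : c₀ * e * c₀⁻¹ ∈ W4 := by
        have hcom : c₀ * (a * z0) = a * z0 * c₀ := by rw [← mul_assoc, hNa c₀ hc₀N, mul_assoc, hc0 c₀, ← mul_assoc]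
        have := (pointwise_conj (T := fixedBy Ω (a * z0)) (g := c₀) (s := e)).mpr he
        rwa [fixedBy_invariant hcom] at this
      have hqc : c₀ * q * c₀⁻¹ ∈ P0 := by
        rcases hP0cases q hq with e1 | e1 | e1 | e1 <;> rw [e1]
        · rw [mul_one, mul_inv_cancel]; exact one_mem _
        · rw [hc0 c₀, mul_inv_cancel_right]; exact hz0P0
        · rw [hcd c₀ hc₀N hc₀β hc₀W]; exact mul_mem hz0P0 hdP0
        · rw [← mul_assoc, hc0 c₀, mul_assoc z0, mul_assoc z0, hcd c₀ hc₀N hc₀β hc₀W]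
          exact mul_mem hz0P0 (mul_mem hz0P0 hdP0)
      have h1 : c₀ * e * c₀⁻¹ = b' * (c₀ * q * c₀⁻¹) := by
        rw [heq, show c₀ * (b' * q) * c₀⁻¹ = c₀ * b' * c₀⁻¹ * (c₀ * q * c₀⁻¹) by group, e']
      have h2 : e⁻¹ * (c₀ * e * c₀⁻¹) = 1 := by
        refine hW4P0 _ (mul_mem (inv_mem he) hc₀4) ?_
        rw [h1, heq, mul_inv_rev, mul_assoc, inv_mul_cancel_left]
        exact mul_mem (inv_mem hq) hqc
      have h3 := inv_mul_eq_one.mp h2
      rw [h1] at h3
      have hqfix : c₀ * q * c₀⁻¹ = q := mul_left_cancel (h3.symm.trans heq)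
      rcases hP0cases q hq with e1 | e1 | e1 | e1
      · rw [e1, mul_one] at heq
        exact hb'1 (hWW4 b' hb' (heq ▸ he))
      · rw [e1] at heq
        have h5 : e * (a * z0) ∈ W4 := mul_mem he (mem_pointwise.mpr fun b hb => hb)
        have h6 : e * (a * z0) = b' * a := by
          rw [heq, mul_assoc, ← mul_assoc z0 a z0, hA.comm z0 hz0A a ha₀, mul_assoc a z0 z0, hA.mul_self hz0A,
            mul_one]
        exact hb'a (by
          have := hWW4 _ (mul_mem hb' hinW) (h6 ▸ h5)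
          rw [← mul_inv_eq_one, inv_eq_of_mul_self (hA.mul_self ha₀)]; exact this)
      · rw [e1, hcd c₀ hc₀N hc₀β hc₀W, mul_eq_right] at hqfix; exact hz01 hqfix
      · rw [e1, ← mul_assoc c₀ z0 d, hc0 c₀, mul_assoc z0, mul_assoc z0, hcd c₀ hc₀N hc₀β hc₀W] at hqfix
        exact hz01 (mul_eq_right.mp (mul_left_cancel hqfix))
    · exact e'
  exact hmove

theorem Quad.sectional : Cfsg.SectionalPRankLE 2 4 P := by
  by_contra hr
  obtain ⟨hW4, hP128, hN32⟩ := q.hW4 hP hfix hz hB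
  obtain ⟨β, hβ⟩ := Set.nonempty_of_ncard_ne_zero (s := Δ) (by rw [q.h4]; norm_num)
  obtain ⟨hAst, horb⟩ := q.horb hP hfix hz hB hβ
  obtain ⟨hA, ha₀, ha₀F, hNeq, hPC, hz0A, hz01, hc0, hP0A, hP0card, hz0P0, hdA, hdP0, hP0cases, hdconj, hP0free, hclass, hbig⟩ := id q
  have ha₀1 := ha₀F.ne_one
  have haP0 := q.haP0
  have h4 := q.h4
  have hinW := q.hinW
  have hWN := q.hWN
  have hAN := q.hAN
  have hNa : ∀ n ∈ N, n * a = a * n := fun n hn => q.hNa hn
  have hWnorm : ∀ n ∈ N, ∀ w ∈ W, n * w * n⁻¹ ∈ W := fun n hn w hw => quad_norm hn hw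
  have hst : ∀ u ∈ N, ∀ b ∈ Δ, u • b ∈ Δ := fun u hu b hb => quad_hst hu hb
  have hWc : ∀ u ∈ W, ∀ g ∈ A, u * g = g * u := fun u hu g hg => q.hWc hP hfix hz hB hu hg
  have hWP0 : ∀ g ∈ W, g ∈ P0 → g = 1 := fun g hg hg' => q.hWP0 hP hfix hz hB hg hg'
  have hNβW : ∀ n ∈ N, n • β = β → n * d = d * n → n ∈ W := fun n hn h1 h2 => q.hNβW hP hfix hz hB hβ hn h1 h2
  have hgenA : ∀ g ∈ A, ∃ p ∈ P0, g = p ∨ g = a * p := fun g hg => q.hgenA hg
  have hW2 : ∀ w ∈ W, w * w = 1 := fun w hw => q.hW2 hP hfix hz hB hw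
  obtain ⟨b', hb', hb'1, hb'a⟩ : ∃ b' ∈ W, b' ≠ 1 ∧ b' ≠ a := by
    by_contra hn
    push_neg at hn
    have hsub : (W : Set P) ⊆ {1, a} := fun g hg => by
      by_cases h : g = 1
      · exact Or.inl h
      · exact Or.inr (hn g hg h)
    have := Set.ncard_le_ncard hsub (Set.toFinite _)
    rw [← Nat.card_coe_set_eq, Set.ncard_pair ha₀1.symm] at this
    simp only [SetLike.coe_sort_coe] at this
    omega
  have hb2 := hW2 b' hb'
  have hWset : ∀ g ∈ W, g = 1 ∨ g = a ∨ g = b' ∨ g = b' * a := by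
    intro g hg
    have hsub : ({1, a, b', b' * a} : Set P) ⊆ (W : Set P) := by
      rintro e (rfl | rfl | rfl | rfl)
      · exact one_mem _
      · exact hinW
      · exact hb'
      · exact mul_mem hb' hinW
    have hcard : ({1, a, b', b' * a} : Set P).ncard = 4 := Set.ncard_eq_four.mpr ⟨1, a, b', b' * a, ha₀1.symm,
      hb'1.symm, fun e => hb'a (by rw [← mul_inv_eq_one, inv_eq_of_mul_self (hA.mul_self ha₀)]; exact e.symm),
      hb'a.symm, fun e => hb'1 (mul_right_cancel (b := a) (by rw [one_mul]; exact e.symm)),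
      fun e => ha₀1 (mul_left_cancel (a := b') (by rw [mul_one]; exact e.symm)), rfl⟩
    have := (Set.eq_of_subset_of_ncard_le hsub (by
      rw [hcard, ← Nat.card_coe_set_eq]; exact hW4.le) (Set.toFinite _)).symm.subset hg
    simpa using this
  obtain ⟨c₀, hc₀N, hc₀β, hc₀W⟩ := q.exists_c₀ hP hfix hz hB hβ
  have hcd : ∀ n ∈ N, n • β = β → n ∉ W → n * d * n⁻¹ = z0 * d := fun n hn h1 h2 => q.hcd hP hfix hz hB hβ hn h1 h2
  have hNβ2 : ∀ n ∈ N, n • β = β → n ∉ W → c₀⁻¹ * n ∈ W := fun n hn hnβ hnW => by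
    refine hNβW _ (mul_mem (inv_mem hc₀N) hn) (by rw [mul_smul, hnβ, inv_smul_eq_iff, hc₀β]) ?_
    have e1 := hcd n hn hnβ hnW
    have e2 := hcd c₀ hc₀N hc₀β hc₀W
    rw [← e2] at e1
    calc c₀⁻¹ * n * d = c₀⁻¹ * (n * d * n⁻¹) * n := by group
      _ = c₀⁻¹ * (c₀ * d * c₀⁻¹) * n := by rw [e1]
      _ = d * (c₀⁻¹ * n) := by group
  have huniq : ∀ u ∈ W, ∀ p ∈ P0, ∀ u' ∈ W, ∀ p' ∈ P0, u * p = u' * p' → u = u' ∧ p = p' :=
    fun u hu p hp u' hu' p' hp' e => q.huniq hP hfix hz hB hu hp hu' hp' e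
  have hmove := q.hmoveAll hP hfix hz hB hβ hc₀N hc₀β hc₀W hb' hb'1 hb'a hWset
  -- an involution outside `W`
  obtain ⟨c, hcN, hcβ, hcW, hc2⟩ : ∃ c ∈ N, c • β = β ∧ c ∉ W ∧ c * c = 1 := by
    have hcc : c₀ * c₀ ∈ W := by
      by_contra hn
      have h1 := hNβ2 (c₀ * c₀) (mul_mem hc₀N hc₀N) (by rw [mul_smul, hc₀β, hc₀β]) hn
      rw [inv_mul_cancel_left] at h1
      exact hc₀W h1
    have hfixsq : c₀ * (c₀ * c₀) * c₀⁻¹ = c₀ * c₀ := by group
    rcases hWset _ hcc with e1 | e1 | e1 | e1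
    · exact ⟨c₀, hc₀N, hc₀β, hc₀W, e1⟩
    · refine ⟨c₀ * b', mul_mem hc₀N (hWN hb'), by rw [mul_smul, mem_pointwise.mp hb' β hβ, hc₀β],
        fun hm => hc₀W ?_, ?_⟩
      · have := (pointwise P Δ).mul_mem hm ((pointwise P Δ).inv_mem hb'); rwa [mul_inv_cancel_right] at this
      · calc c₀ * b' * (c₀ * b') = c₀ * b' * c₀⁻¹ * (c₀ * c₀) * b' := by group
          _ = b' * (a * a) * b' := by rw [hmove, e1]; simp only [mul_assoc]
          _ = 1 := by rw [hA.mul_self ha₀, mul_one, hb2]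
    · rw [e1, hmove, mul_eq_left] at hfixsq; exact absurd hfixsq ha₀1
    · rw [e1, show c₀ * (b' * a) * c₀⁻¹ = c₀ * b' * c₀⁻¹ * (c₀ * a * c₀⁻¹) by group, hmove, hNa c₀ hc₀N,
        mul_inv_cancel_right, mul_eq_left] at hfixsq
      exact absurd hfixsq ha₀1
  -- the self-centralising `2³`
  obtain ⟨E₀, hE₀c, hE₀2, hE₀card, hE₀a, hE₀z, hE₀mem⟩ := exists_extend (A := zpowers a) (c := z0)
    (hA.mul_self hz0A) (fun hm => (fun h : Four Ω z0 => hP0free z0 hz0P0 h) (by
      have h1 := (zpowers_le.mpr hinW : zpowers a ≤ W) hm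
      exact absurd (hWP0 z0 h1 hz0P0) hz01))
    (fun x hx => ((hc0 x).symm))
    (fun x hx y hy => by
      obtain ⟨i, rfl⟩ := mem_zpowers_iff.mp hx
      obtain ⟨j, rfl⟩ := mem_zpowers_iff.mp hy
      exact ((Commute.refl a).zpow_zpow i j).eq)
    (fun x hx => hA.sq x (zpowers_le.mpr ha₀ hx))
  rw [Nat.card_zpowers, ha₀F.1] at hE₀card
  have hE₀A : E₀ ≤ A := fun x hx => by
    rcases (hE₀mem x).mp hx with h | h
    · exact zpowers_le.mpr ha₀ h
    · have := A.mul_mem (zpowers_le.mpr ha₀ h) (A.inv_mem hz0A)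
      rwa [mul_inv_cancel_right] at this
  have haE : a ∈ E₀ := hE₀a (mem_zpowers a)
  obtain ⟨E, hEc, hE2, hEcard, hE₀E, hcE, hEmem⟩ := exists_extend (A := E₀) (c := c) hc2
    (fun hm => by
      rcases hAst c (hE₀A hm) hcβ with e1 | e1
      · exact hcW (e1 ▸ one_mem _)
      · exact hcW (e1 ▸ hinW))
    (fun x hx => by
      rcases (hE₀mem x).mp hx with h | h
      · obtain ⟨i, rfl⟩ := mem_zpowers_iff.mp h
        exact ((show Commute c a from hNa c hcN).zpow_right i).eq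
      · obtain ⟨i, hi⟩ := mem_zpowers_iff.mp h
        have hx' : x = a ^ i * z0 := by rw [hi, mul_assoc, hA.mul_self hz0A, mul_one]
        rw [hx', ← mul_assoc, ((show Commute c a from hNa c hcN).zpow_right i).eq, mul_assoc, hc0 c, ← mul_assoc])
    hE₀c hE₀2
  refine hr (Sectional.sectionalPRankLE_of_self_centralizing_eight (A := E) ⟨hP, hEc, hE2, by omega, fun t ht => ?_⟩)
  rw [mem_centralizer_iff] at ht
  have hta : t * a = a * t := (ht a (hE₀E haE)).symm
  have htc : t * c = c * t := (ht c hcE).symm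
  have htN : t ∈ N := mem_stabilizer_iff.mpr (fixedBy_invariant hta)
  obtain ⟨g, hg, hgt⟩ := horb _ (hst t htN β hβ)
  have hnN : g⁻¹ * t ∈ N := mul_mem (inv_mem (hAN hg)) htN
  have hnβ : (g⁻¹ * t) • β = β := by rw [mul_smul, ← hgt, inv_smul_smul]
  -- reduce to an element `u * p`
  obtain ⟨t', ht'E, u, hu, p, hp, ht'⟩ : ∃ t', (t' ∈ E → t ∈ E) ∧ ∃ u ∈ W, ∃ p ∈ P0, t' = u * p ∧
      t' * c = c * t' := by
    obtain ⟨p, hp, hgp⟩ := hgenA g hg
    by_cases hn : g⁻¹ * t ∈ W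
    · rcases hgp with e1 | e1
      · exact ⟨t, id, g⁻¹ * t, hn, p, hp, by rw [hWc _ hn p (hP0A hp), ← e1, mul_inv_cancel_left], htc⟩
      · exact ⟨t, id, a * (g⁻¹ * t), mul_mem hinW hn, p, hp, by
          rw [mul_assoc, hWc _ hn p (hP0A hp), ← mul_assoc, ← e1, mul_inv_cancel_left], htc⟩
    · have h1 := hNβ2 _ hnN hnβ hn
      have h2 := hNβ2 c hcN hcβ hcW
      have h3 : g⁻¹ * (t * c) ∈ W := by
        have h4 : (g⁻¹ * t)⁻¹ * c ∈ W := by
          rw [show (g⁻¹ * t)⁻¹ * c = (c₀⁻¹ * (g⁻¹ * t))⁻¹ * (c₀⁻¹ * c) by group]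
          exact mul_mem (inv_mem h1) h2
        have h5 := hWnorm c hcN _ (inv_mem h4)
        rwa [show c * ((g⁻¹ * t)⁻¹ * c)⁻¹ * c⁻¹ = g⁻¹ * t * c⁻¹ by group, inv_eq_of_mul_self hc2, mul_assoc] at h5
      have htcc : t * c * c = c * (t * c) := by rw [← mul_assoc, ← htc]
      have hmem : t * c ∈ E → t ∈ E := fun hm => by
        have := E.mul_mem hm hcE; rwa [mul_assoc, hc2, mul_one] at this
      rcases hgp with e1 | e1
      · exact ⟨t * c, hmem, g⁻¹ * (t * c), h3, p, hp,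
          by rw [hWc _ h3 p (hP0A hp), ← e1, mul_inv_cancel_left], htcc⟩
      · exact ⟨t * c, hmem, a * (g⁻¹ * (t * c)), mul_mem hinW h3, p, hp, by
          rw [mul_assoc, hWc _ h3 p (hP0A hp), ← mul_assoc, ← e1, mul_inv_cancel_left], htcc⟩
  obtain ⟨htup, ht'c⟩ := ht'
  apply ht'E
  rw [htup] at ht'c ⊢
  have hci := inv_eq_of_mul_self hc2
  have hcd' := hcd c hcN hcβ hcW
  have hpc : c * p * c⁻¹ ∈ P0 := by
    rcases hP0cases p hp with e1 | e1 | e1 | e1 <;> rw [e1]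
    · rw [mul_one, mul_inv_cancel]; exact one_mem _
    · rw [hc0 c, mul_inv_cancel_right]; exact hz0P0
    · rw [hcd']; exact mul_mem hz0P0 hdP0
    · rw [← mul_assoc, hc0 c, mul_assoc z0, mul_assoc z0, hcd']
      exact mul_mem hz0P0 (mul_mem hz0P0 hdP0)
  have h1 : c * u * c⁻¹ * (c * p * c⁻¹) = u * p := by
    rw [show c * u * c⁻¹ * (c * p * c⁻¹) = c * (u * p) * c⁻¹ by group, ← ht'c, mul_inv_cancel_right]
  obtain ⟨hu', hp'⟩ := huniq _ (hWnorm c hcN u hu) _ hpc u hu p hp h1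
  have hcmove : c * b' * c⁻¹ = b' * a := by
    obtain ⟨v, hv, rfl⟩ : ∃ v ∈ W, c = c₀ * v := ⟨c₀⁻¹ * c, hNβ2 c hcN hcβ hcW, by rw [mul_inv_cancel_left]⟩
    have hvb : v * b' * v⁻¹ = b' := by
      have hvb' : v * b' * (v * b') = 1 := hW2 _ (mul_mem hv hb')
      have h2 : v * b' = b' * v := by
        rw [← inv_eq_of_mul_self hvb', mul_inv_rev, inv_eq_of_mul_self (hW2 v hv), inv_eq_of_mul_self hb2]
      rw [h2, mul_inv_cancel_right]
    rw [show c₀ * v * b' * (c₀ * v)⁻¹ = c₀ * (v * b' * v⁻¹) * c₀⁻¹ by group, hvb, hmove]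
  refine mul_mem ?_ ?_
  · rcases hWset u hu with e1 | e1 | e1 | e1 <;> rw [e1]
    · exact one_mem _
    · exact hE₀E haE
    · rw [e1, hcmove, mul_eq_left] at hu'; exact absurd hu' ha₀1
    · rw [e1, show c * (b' * a) * c⁻¹ = c * b' * c⁻¹ * (c * a * c⁻¹) by group, hcmove, hNa c hcN,
        mul_inv_cancel_right, mul_eq_left] at hu'
      exact absurd hu' ha₀1
  · rcases hP0cases p hp with e1 | e1 | e1 | e1 <;> rw [e1]
    · exact one_mem _
    · exact hE₀E hE₀z
    · rw [e1, hcd', mul_eq_right] at hp'; exact absurd hp' hz01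
    · rw [e1, ← mul_assoc c z0 d, hc0 c, mul_assoc z0, mul_assoc z0, hcd'] at hp'
      exact absurd (mul_eq_right.mp (mul_left_cancel hp')) hz01


end quad

/-- No central four-fixing involution, but some four-fixing involution: sectional rank at most four. -/
theorem free_case {x : P} (hx : Four Ω x) : Cfsg.SectionalPRankLE 2 4 P := by
  by_contra hr
  obtain ⟨V, hVn, hVc, hV2, hV⟩ : ∃ V : Subgroup P, V.Normal ∧ (∀ a ∈ V, ∀ b ∈ V, a * b = b * a) ∧
      (∀ a ∈ V, a ^ 2 = 1) ∧ 4 < Nat.card V := by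
    by_contra hn
    push_neg at hn
    exact hr (Sectional.sectionalPRankLE_of_no_normal_eight hP hn)
  obtain ⟨A, hAn, hAV, hA8⟩ := exists_normal_eight hP hVc hV2 hV
  have hA : NormalEight A := ⟨hAn, fun a ha b hb => hVc a (hAV ha) b (hAV hb), fun a ha => hV2 a (hAV ha), hA8⟩
  obtain ⟨b₀, hb₀⟩ := Set.nonempty_of_ncard_ne_zero (s := fixedBy Ω x) (by rw [hx.ncard]; norm_num)
  by_cases hfree : ∀ a ∈ A, a • b₀ = b₀ → a = 1
  · exact hr (free_small hP hfix hz hB (GoodPair.card_le hP hfix hz hA hr ⟨hx.1, hb₀, hfree⟩) hx)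
  push_neg at hfree
  obtain ⟨a₀, ha₀, hab, ha₀1⟩ := hfree
  have ha₀F := hz.four (orderOf_eq_two (hA.mul_self ha₀) ha₀1) hab
  -- either some stabiliser has index two or all have index four and equal the centralisers
  have hcond : ∀ a ∈ A, Four Ω a → Nat.card (stabilizer P (fixedBy Ω a)) * 2 < Nat.card P := by
    intro a ha haF
    by_contra hn
    push_neg at hn
    obtain ⟨-, -, h64, -⟩ := index_two_bounds hP hfix hz hB haF (by omega)
    exact hr (free_small hP hfix hz hB h64 hx)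
  have hNC : ∀ a ∈ A, Four Ω a → Nat.card P = 4 * Nat.card (centralizer ({a} : Set P)) ∧
      stabilizer P (fixedBy Ω a) = centralizer ({a} : Set P) := by
    intro a ha haF
    have hle : centralizer ({a} : Set P) ≤ stabilizer P (fixedBy Ω a) := fun u hu =>
      mem_stabilizer_iff.mpr (fixedBy_invariant (mem_centralizer_singleton_iff.mp hu))
    have h1 := card_le_four_centralizer hP (hA := hAn) hA8 ha haF.ne_one
    have h2 := card_le_of_le hle
    have h3 := hcond a ha haF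
    obtain ⟨n, hn⟩ := hP.exists_card_eq
    have : Fact (Nat.Prime 2) := ⟨Nat.prime_two⟩
    obtain ⟨k, hk⟩ := (hP.to_subgroup (centralizer ({a} : Set P))).exists_card_eq
    obtain ⟨j, hj⟩ := (hP.to_subgroup (stabilizer P (fixedBy Ω a))).exists_card_eq
    rw [hn, hj] at h3
    rw [hk, hj] at h2
    rw [hn, hk] at h1
    have e1 : j + 1 < n := (Nat.pow_lt_pow_iff_right (show 1 < 2 by norm_num)).mp (by rw [pow_succ]; exact h3)
    have e2 : n ≤ k + 2 := (Nat.pow_le_pow_iff_right (show 1 < 2 by norm_num)).mp (by rw [pow_add]; norm_num; omega)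
    have e3 : k ≤ j := (Nat.pow_le_pow_iff_right (show 1 < 2 by norm_num)).mp h2
    refine ⟨?_, (eq_of_le_of_card_ge hle (by rw [hk, hj]; exact Nat.pow_le_pow_right (by norm_num) (by omega))).symm⟩
    rw [hn, hk, show n = k + 2 by omega, pow_add]; norm_num; ring
  -- the normal subgroup of order four
  obtain ⟨z0, hz0A, hz01, hc0⟩ := exists_central_in hP hA
  have hz0F : ¬ Four Ω z0 := fun h => by obtain ⟨s, hs⟩ := hB z0 h; exact hs (hc0 s)
  set Z := zpowers z0
  have : Z.Normal := ⟨fun u hu s => by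
    obtain ⟨i, rfl⟩ := mem_zpowers_iff.mp hu
    have : s * z0 ^ i = z0 ^ i * s := ((show Commute s z0 from hc0 s).zpow_right i).eq
    rw [this, mul_inv_cancel_right]; exact hu⟩
  have hZcard : Nat.card Z = 2 := by
    rw [Nat.card_zpowers]; exact orderOf_eq_two (hA.mul_self hz0A) hz01
  have hZmem : ∀ u ∈ Z, u = 1 ∨ u = z0 := fun u hu => by
    by_contra hne
    push_neg at hne
    have hsub : ({1, z0, u} : Set P) ⊆ (Z : Set P) := by
      rintro e (rfl | rfl | rfl)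
      · exact one_mem _
      · exact mem_zpowers _
      · exact hu
    have h5 := Set.ncard_le_ncard hsub (Set.toFinite _)
    rw [Set.ncard_eq_three.mpr ⟨1, z0, u, hz01.symm, hne.1.symm, hne.2.symm, rfl⟩, ← Nat.card_coe_set_eq] at h5
    simp only [SetLike.coe_sort_coe, hZcard] at h5
    omega
  have hZA : Z < A := lt_of_le_of_ne (zpowers_le.mpr hz0A) fun e => by rw [e, hA8] at hZcard; omega
  obtain ⟨d, hdA, hdZ, hd2, hdc⟩ := exists_central_step hP Z A hZA
  obtain ⟨hP0card, hP0mem⟩ := card_sup_step hdZ hd2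
  set P0 := Z ⊔ zpowers d
  rw [hZcard] at hP0card
  have hP0A : P0 ≤ A := sup_le (zpowers_le.mpr hz0A) (zpowers_le.mpr hdA)
  have hdP0 : d ∈ P0 := mem_sup_right (mem_zpowers d)
  have hz0P0 : z0 ∈ P0 := mem_sup_left (mem_zpowers z0)
  have hP0cases : ∀ p ∈ P0, p = 1 ∨ p = z0 ∨ p = d ∨ p = z0 * d := fun p hp => by
    rcases hP0mem p hp with h | h
    · rcases hZmem p h with e | e
      · exact Or.inl e
      · exact Or.inr (Or.inl e)
    · rcases hZmem _ h with e | e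
      · exact Or.inr (Or.inr (Or.inl (mul_inv_eq_one.mp e)))
      · exact Or.inr (Or.inr (Or.inr (by rw [← e, inv_mul_cancel_right])))
  have hdconj : ∀ s : P, s * d * s⁻¹ = d ∨ s * d * s⁻¹ = z0 * d := fun s => by
    rcases hZmem _ (hdc s) with e | e
    · exact Or.inl (mul_inv_eq_one.mp e)
    · exact Or.inr (mul_inv_eq_iff_eq_mul.mp e)
  have hP0free : ∀ p ∈ P0, ¬ Four Ω p := by
    intro p hp hpF
    have hC2 : ∀ p : P, p ∈ A → (∀ s : P, s * p * s⁻¹ ∈ ({p, z0 * p} : Set P)) → ¬ Four Ω p := by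
      intro p hpA hconj hpF
      have h1 := card_le_centralizer_mul p {p, z0 * p} hconj
      have h2 := hNC p hpA hpF
      have h3 : ({p, z0 * p} : Set P).ncard ≤ 2 := (Set.ncard_insert_le _ _).trans (by simp)
      have h4 : 0 < Nat.card (centralizer ({p} : Set P)) := Nat.card_pos
      have h5 := h1.trans (Nat.mul_le_mul_right _ h3)
      omega
    rcases hP0cases p hp with e | e | e | e <;> subst e
    · exact hpF.ne_one rfl
    · exact hz0F hpF
    · exact hC2 p (hP0A hp) (fun s => (hdconj s).imp id id) hpF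
    · refine hC2 _ (hP0A hp) (fun s => ?_) hpF
      have h1 : s * (z0 * d) * s⁻¹ = z0 * (s * d * s⁻¹) := by
        rw [← mul_assoc s z0 d, hc0 s]; simp only [mul_assoc]
      rw [h1]
      rcases hdconj s with e | e <;> rw [e]
      · exact Or.inl rfl
      · exact Or.inr rfl
  -- `a := a₀` and its conjugates
  set a := a₀ with ha_def
  obtain ⟨hPC, hNeq⟩ := hNC a ha₀ ha₀F
  have haP0 : a ∉ P0 := fun h => hP0free a h ha₀F
  have hdouble : Nat.card A ≤ 2 * Nat.card P0 := by omega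
  have hout : ((A : Set P) \ (P0 : Set P)).ncard = 4 := by
    rw [Set.ncard_sdiff (fun x hx => hP0A hx) (Set.toFinite _), ← Nat.card_coe_set_eq, ← Nat.card_coe_set_eq]
    simp only [SetLike.coe_sort_coe, hP0card, hA8]
  have hclass : ∀ g ∈ A, g ∉ P0 → ∃ s : P, s * a * s⁻¹ = g := by
    set T := Set.range (fun s : P => s * a * s⁻¹)
    have hTsub : T ⊆ (A : Set P) \ (P0 : Set P) := by
      rintro _ ⟨s, rfl⟩
      exact ⟨hA.normal.conj_mem a ha₀ s, fun hm => hP0free _ hm (ha₀F.conj s)⟩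
    have hTcard : 4 ≤ T.ncard := by
      have h1 := card_le_centralizer_mul a T fun s => ⟨s, rfl⟩
      rw [hPC] at h1
      exact Nat.le_of_mul_le_mul_right h1 Nat.card_pos
    intro g hg hg'
    have hTeq := Set.eq_of_subset_of_ncard_le hTsub (by omega) (Set.toFinite _)
    exact hTeq.symm.subset ⟨hg, hg'⟩
  have hF : ∀ g ∈ A, g ∉ P0 → Four Ω g := fun g hg hg' => by
    obtain ⟨s, rfl⟩ := hclass g hg hg'; exact ha₀F.conj s
  exact hr (Quad.sectional hP hfix hz hB (A := A) (P0 := P0) (a := a) (z0 := z0) (d := d)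
    ⟨hA, ha₀, ha₀F, hNeq, hPC, hz0A, hz01, hc0, hP0A, by omega, hz0P0, hdA, hdP0, hP0cases, hdconj, hP0free, hclass,
      not_le.mp fun h => hr (free_small hP hfix hz hB h hx)⟩)

end Cfsg.Agent.FixityFour
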