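import Cfsg.Agent.Lib.FixityFour.GoodPoint
/-!
# Fixity four: the order bound from a good point (helper20)

With three transvections at every good point and sectional rank above four, the fixed part `A₀` is the same
for all good points, `C_P(y)` has order at most `16` for the transvections `y`, `|C_P(A)| ≤ 16` and
`|P| ≤ 64`.
-/

set_option autoImplicit false

namespace Cfsg.Agent.FixityFour

open MulAction Subgroup
open scoped Pointwise

variable {P : Type*} [Group P] [Finite P] {Ω : Type*} [MulAction P Ω] [Finite Ω]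

/-- In a 2-group an element permuting three things cyclically cannot exist. -/
theorem mem_of_pow_three (hP : IsPGroup 2 P) {g : P} {K : Subgroup P} (h3 : g ^ 3 ∈ K) : g ∈ K := by
  obtain ⟨k, hk⟩ := hP g
  have h1 : g ^ (2 ^ k % 3) ∈ K := by
    have h2 : g ^ (3 * (2 ^ k / 3)) * g ^ (2 ^ k % 3) = 1 := by rw [← pow_add, Nat.div_add_mod, hk]
    rw [eq_inv_of_mul_eq_one_right h2, pow_mul]
    exact K.inv_mem (K.pow_mem h3 _)
  have hne : 2 ^ k % 3 ≠ 0 := fun e => by
    have : 3 ∣ 2 ^ k := Nat.dvd_of_mod_eq_zero e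
    have := Nat.le_of_dvd (by norm_num) ((Nat.prime_three).dvd_of_dvd_pow this)
    omega
  have hlt : 2 ^ k % 3 < 3 := Nat.mod_lt _ (by norm_num)
  interval_cases hm : 2 ^ k % 3
  · exact absurd rfl hne
  · simpa using h1
  · have := K.mul_mem h3 (K.inv_mem h1)
    rwa [show g ^ 3 * (g ^ 2)⁻¹ = g by group] at this

variable {A : Subgroup P} {b : Ω} {c : P}
variable (hP : IsPGroup 2 P) (hfix : FixLE P Ω) (hz : ZeroFour P Ω) (hA : NormalEight A)
  (hr : ¬ Cfsg.SectionalPRankLE 2 4 P) (h : GoodPair A b c)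
include hP hfix hz hA hr h

omit hfix hz hr h in
theorem exists_central_in : ∃ z0 ∈ A, z0 ≠ 1 ∧ ∀ s : P, s * z0 = z0 * s := by
  have := hA.normal
  have hlt : (⊥ : Subgroup P) < A := by
    refine bot_lt_iff_ne_bot.mpr fun e => ?_
    have := hA.card
    rw [e, card_bot] at this
    omega
  obtain ⟨d, hd, hd1, -, hcen⟩ := exists_central_step hP ⊥ A hlt
  refine ⟨d, hd, fun e => hd1 (by rw [e]; exact one_mem _), fun s => ?_⟩
  have h1 := hcen s
  rw [mem_bot, mul_inv_eq_one, mul_inv_eq_iff_eq_mul] at h1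
  exact h1

omit hr in
theorem GoodPair.central_mem {z0 : P} (hz0 : z0 ∈ A) (hc0 : ∀ s : P, s * z0 = z0 * s) :
    z0 ∈ fixPart A c :=
  Subgroup.mem_inf.mpr ⟨hz0, mem_centralizer_singleton_iff.mpr (hc0 c).symm⟩

theorem GoodPair.unique {b' : Ω} {c' : P} (h' : GoodPair A b' c') : fixPart A c' = fixPart A c := by
  have := hA.normal
  obtain ⟨z0, hz0, hz01, hc0⟩ := exists_central_in hP hA
  have h4 := (h.card_fixPart hP hfix hz hA).1
  have h4' := (h'.card_fixPart hP hfix hz hA).1
  by_contra hne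
  obtain ⟨m, hm, hm'⟩ : ∃ m ∈ fixPart A c, m ∉ fixPart A c' := by
    by_contra hn
    push_neg at hn
    exact hne (eq_of_le_of_card_ge (fun x hx => hn x hx) (by rw [h4, h4'])).symm
  obtain ⟨a, ha, ha'⟩ : ∃ a ∈ fixPart A c', a ∉ fixPart A c := by
    by_contra hn
    push_neg at hn
    exact hne (eq_of_le_of_card_ge (fun x hx => hn x hx) (by rw [h4, h4']))
  obtain ⟨y, hy, hya⟩ := h.exists_trans hP hfix hz hA hr hm ha.1 ha'
  obtain ⟨y', hy', hym⟩ := h'.exists_trans hP hfix hz hA hr ha hm.1 hm'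
  have hya' := hya a ha.1 ha'
  have hym' := hym m hm.1 hm'
  have hyfix : y * m * y⁻¹ = m := by rw [(mem_transGroup.mp hy).2 m hm, mul_inv_cancel_right]
  have hy'fix : y' * a * y'⁻¹ = a := by rw [(mem_transGroup.mp hy').2 a ha, mul_inv_cancel_right]
  set g := y * y' with hg
  have hconj : ∀ u : P, g * u * g⁻¹ = y * (y' * u * y'⁻¹) * y⁻¹ := fun u => by rw [hg]; group
  have hmm : m * m = 1 := hA.mul_self hm.1
  have hma : m * a = a * m := hA.comm m hm.1 a ha.1
  have g1 : g * m * g⁻¹ = a := by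
    rw [hconj, hym', show y * (m * a) * y⁻¹ = y * m * y⁻¹ * (y * a * y⁻¹) by group, hyfix, hya',
      ← mul_assoc, hma, mul_assoc, hmm, mul_one]
  have g2 : g * a * g⁻¹ = a * m := by rw [hconj, hy'fix, hya']
  have g3 : g * (a * m) * g⁻¹ = m := by
    rw [show g * (a * m) * g⁻¹ = g * a * g⁻¹ * (g * m * g⁻¹) by group, g1, g2, mul_assoc, hma, ← mul_assoc,
      hA.mul_self ha.1, one_mul]
  have h3 : g ^ 3 ∈ centralizer ({m} : Set P) := by
    rw [mem_centralizer_singleton_iff, ← mul_inv_eq_iff_eq_mul,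
      show g ^ 3 = g * g * g by rw [pow_succ, pow_two],
      show g * g * g * m * (g * g * g)⁻¹ = g * (g * (g * m * g⁻¹) * g⁻¹) * g⁻¹ by group, g1, g2, g3]
  have hgm := mem_centralizer_singleton_iff.mp (mem_of_pow_three hP h3)
  rw [hgm, mul_inv_cancel_right] at g1
  exact ha' (g1 ▸ hm)

omit hP hfix hz hr in
theorem GoodPair.conj (s : P) : GoodPair A (s • b) (s * c * s⁻¹) where
  ord := (orderOf_conj s c).trans h.ord
  fixes := by rw [smul_smul, inv_mul_cancel_right, mul_smul, h.fixes]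
  free a ha hab := by
    have h1 := h.free (s⁻¹ * a * s) (by simpa using hA.normal.conj_mem a ha s⁻¹) (by
      rw [mul_smul, mul_smul, hab, inv_smul_smul])
    calc a = s * (s⁻¹ * a * s) * s⁻¹ := by group
      _ = 1 := by rw [h1]; group

theorem GoodPair.fixPart_normal : (fixPart A c).Normal := by
  refine ⟨fun a ha s => ?_⟩
  rw [← h.unique hP hfix hz hA hr (h.conj hA s)]
  refine Subgroup.mem_inf.mpr ⟨hA.normal.conj_mem a ha.1 s, mem_centralizer_singleton_iff.mpr ?_⟩
  calc s * a * s⁻¹ * (s * c * s⁻¹) = s * (a * c) * s⁻¹ := by group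
    _ = s * c * s⁻¹ * (s * a * s⁻¹) := by rw [mem_centralizer_singleton_iff.mp ha.2]; group

omit hr in
theorem GoodPair.of_trans {y : P} (hy : y ∈ transGroup A b c) (hy1 : y ≠ 1) : GoodPair A b y where
  ord := orderOf_eq_two ((h.trans_props hP hfix hz hA).1 y hy) hy1
  fixes := (mem_transGroup.mp hy).1
  free := h.free

/-- The fixed part consists of the centre element and one pair. -/
theorem GoodPair.fixPart_cases {z0 w x : P} (hz0 : z0 ∈ fixPart A c) (hz01 : z0 ≠ 1) (hw : w ∈ fixPart A c)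
    (hw1 : w ≠ 1) (hwz : w ≠ z0) (hx : x ∈ fixPart A c) : x = 1 ∨ x = z0 ∨ x = w ∨ x = w * z0 := by
  have hsub : ({1, z0, w, w * z0} : Set P) ⊆ (fixPart A c : Set P) := by
    rintro u (rfl | rfl | rfl | rfl)
    · exact one_mem _
    · exact hz0
    · exact hw
    · exact mul_mem hw hz0
  have n3 : w * z0 ≠ 1 := fun e => hwz (by
    rw [← mul_inv_eq_one, inv_eq_of_mul_self (hA.mul_self hz0.1)]; exact e)
  have hcard : ({1, z0, w, w * z0} : Set P).ncard = 4 := Set.ncard_eq_four.mpr ⟨1, z0, w, w * z0, hz01.symm,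
    hw1.symm, n3.symm, hwz.symm, fun e => hw1 (mul_right_cancel (b := z0) (by rw [one_mul]; exact e.symm)),
    fun e => hz01 (mul_left_cancel (a := w) (by rw [mul_one]; exact e.symm)), rfl⟩
  have heq := Set.eq_of_subset_of_ncard_le hsub (by
    rw [hcard, ← Nat.card_coe_set_eq]; exact (h.card_fixPart hP hfix hz hA).1.le) (Set.toFinite _)
  have := heq.symm.subset (hx : x ∈ (fixPart A c : Set P))
  simpa using this

theorem GoodPair.stab_le {y : P} (hy : y ∈ transGroup A b c) (hy1 : y ≠ 1) {l : P} (hlb : l • b = b)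
    (hly : l * y = y * l) : l ∈ transGroup A b c := by
  obtain ⟨hsq, hYc, -, -⟩ := h.trans_props hP hfix hz hA
  have hN := h.fixPart_normal hP hfix hz hA hr
  have hinv : ∀ g : P, g * g = 1 → g • b = b → g ∈ transGroup A b c := by
    intro g hg hgb
    by_cases hg1 : g = 1
    · rw [hg1]; exact one_mem _
    have hgood : GoodPair A b g := ⟨orderOf_eq_two hg hg1, hgb, h.free⟩
    refine mem_transGroup.mpr ⟨hgb, fun a ha => ?_⟩
    rw [← h.unique hP hfix hz hA hr hgood] at ha
    exact (mem_centralizer_singleton_iff.mp ha.2).symm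
  by_contra hl
  obtain ⟨z0, hz0A, hz01, hc0⟩ := exists_central_in hP hA
  have hz0 := h.central_mem hP hfix hz hA hz0A hc0
  -- `l` moves an element of the fixed part
  obtain ⟨w, hw, hlw⟩ : ∃ w ∈ fixPart A c, l * w ≠ w * l := by
    by_contra hn
    push_neg at hn
    exact hl (mem_transGroup.mpr ⟨hlb, hn⟩)
  have hw1 : w ≠ 1 := fun e => hlw (by rw [e, mul_one, one_mul])
  have hwz : w ≠ z0 := fun e => hlw (by rw [e]; exact hc0 l)
  have hlwz : l * w * l⁻¹ = w * z0 := by
    rcases h.fixPart_cases hP hfix hz hA hr hz0 hz01 hw hw1 hwz (hN.conj_mem w hw l) with e | e | e | e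
    · exact absurd (conj_eq_one_iff.mp e) hw1
    · refine absurd ?_ hwz
      calc w = l⁻¹ * (l * w * l⁻¹) * l := by group
        _ = z0 := by rw [e, mul_assoc, ← hc0 l, inv_mul_cancel_left]
    · exact absurd (mul_inv_eq_iff_eq_mul.mp e) hlw
    · exact e
  have hnorm : ∀ u ∈ transGroup A b c, l * u * l⁻¹ ∈ transGroup A b c := by
    intro u hu
    have hlb' : l⁻¹ • b = b := inv_smul_eq_iff.mpr hlb.symm
    refine mem_transGroup.mpr ⟨by rw [mul_smul, mul_smul, hlb', (mem_transGroup.mp hu).1, hlb], fun a ha => ?_⟩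
    have h1 := (mem_transGroup.mp hu).2 (l⁻¹ * a * l) (by simpa using hN.conj_mem a ha l⁻¹)
    calc l * u * l⁻¹ * a = l * (u * (l⁻¹ * a * l)) * l⁻¹ := by group
      _ = l * (l⁻¹ * a * l * u) * l⁻¹ := by rw [h1]
      _ = a * (l * u * l⁻¹) := by group
  obtain ⟨a, ha, ha'⟩ := h.exists_outside hP hfix hz hA
  -- `l` does not centralise the transvections
  obtain ⟨y1, hy1m, hly1⟩ : ∃ u ∈ transGroup A b c, l * u ≠ u * l := by
    by_contra hn
    push_neg at hn
    obtain ⟨u, hu, hua⟩ := h.exists_trans hP hfix hz hA hr hw ha ha'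
    have hla : l * a * l⁻¹ ∈ A := hA.normal.conj_mem a ha l
    have hla' : l * a * l⁻¹ ∉ fixPart A c := fun hm => ha' (by
      have := hN.conj_mem _ hm l⁻¹
      rwa [show l⁻¹ * (l * a * l⁻¹) * l⁻¹⁻¹ = a by group] at this)
    have h1 := hua _ hla hla'
    have h2 : u * (l * a * l⁻¹) * u⁻¹ = l * (u * a * u⁻¹) * l⁻¹ := by
      calc u * (l * a * l⁻¹) * u⁻¹ = (u * l) * a * (u * l)⁻¹ := by group
        _ = (l * u) * a * (l * u)⁻¹ := by rw [hn u hu]
        _ = l * (u * a * u⁻¹) * l⁻¹ := by group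
    rw [h2, hua a ha ha', show l * (a * w) * l⁻¹ = l * a * l⁻¹ * (l * w * l⁻¹) by group] at h1
    exact hlw (mul_inv_eq_iff_eq_mul.mp (mul_left_cancel h1))
  have hy1n : y1 ≠ 1 := fun e => hly1 (by rw [e, mul_one, one_mul])
  have hy1y : y1 ≠ y := fun e => hly1 (by rw [e]; exact hly)
  have hyy : y1 * y ≠ 1 := fun e => hy1y (by
    rw [← mul_inv_eq_one, inv_eq_of_mul_self (hsq y hy)]; exact e)
  have hset : ∀ u ∈ transGroup A b c, u = 1 ∨ u = y ∨ u = y1 ∨ u = y1 * y := by
    intro u hu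
    have hsub : ({1, y, y1, y1 * y} : Set P) ⊆ (transGroup A b c : Set P) := by
      rintro v (rfl | rfl | rfl | rfl)
      · exact one_mem _
      · exact hy
      · exact hy1m
      · exact mul_mem hy1m hy
    have hcard : ({1, y, y1, y1 * y} : Set P).ncard = 4 := Set.ncard_eq_four.mpr ⟨1, y, y1, y1 * y, hy1.symm,
      hy1n.symm, hyy.symm, hy1y.symm, fun e => hy1n (mul_right_cancel (b := y) (by rw [one_mul]; exact e.symm)),
      fun e => hy1 (mul_left_cancel (a := y1) (by rw [mul_one]; exact e.symm)), rfl⟩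
    have heq := Set.eq_of_subset_of_ncard_le hsub (by
      rw [hcard, ← Nat.card_coe_set_eq]; exact (h.trans_card hP hfix hz hA hr).le) (Set.toFinite _)
    have := heq.symm.subset (hu : u ∈ (transGroup A b c : Set P))
    simpa using this
  have hl1 : l * y1 * l⁻¹ = y1 * y := by
    rcases hset _ (hnorm y1 hy1m) with e | e | e | e
    · exact absurd (conj_eq_one_iff.mp e) hy1n
    · refine absurd ?_ hy1y
      calc y1 = l⁻¹ * (l * y1 * l⁻¹) * l := by group
        _ = y := by rw [e, mul_assoc, ← hly, inv_mul_cancel_left]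
    · exact absurd (mul_inv_eq_iff_eq_mul.mp e) hly1
    · exact e
  -- the square of `l` lies among the transvections
  have hl2w : l * l * w = w * (l * l) := by
    rw [← mul_inv_eq_iff_eq_mul]
    calc l * l * w * (l * l)⁻¹ = l * (l * w * l⁻¹) * l⁻¹ := by group
      _ = l * (w * z0) * l⁻¹ := by rw [hlwz]
      _ = l * w * l⁻¹ * (l * z0 * l⁻¹) := by group
      _ = w := by rw [hlwz, hc0 l, mul_inv_cancel_right, mul_assoc, hA.mul_self hz0A, mul_one]
  have hl2 : l * l ∈ transGroup A b c := by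
    refine mem_transGroup.mpr ⟨by rw [mul_smul, hlb, hlb], fun x hx => ?_⟩
    rcases h.fixPart_cases hP hfix hz hA hr hz0 hz01 hw hw1 hwz hx with e | e | e | e <;> rw [e]
    · rw [mul_one, one_mul]
    · exact hc0 _
    · exact hl2w
    · rw [← mul_assoc, hl2w, mul_assoc, hc0 (l * l), ← mul_assoc]
  have hcases : l * l = 1 ∨ l * l = y := by
    rcases hset _ hl2 with e | e | e | e
    · exact Or.inl e
    · exact Or.inr e
    · exact absurd (by rw [← e, mul_assoc]) hly1
    · refine absurd ?_ hly1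
      have e' : y1 = l * l * y := by rw [e, mul_assoc, hsq y hy, mul_one]
      rw [e', mul_assoc (l * l) y l, ← hly, ← mul_assoc, ← mul_assoc, ← mul_assoc]
  rcases hcases with e | e
  · exact hl (hinv l e hlb)
  · have hinvol : l * y1 * (l * y1) = 1 := by
      calc l * y1 * (l * y1) = l * y1 * l⁻¹ * (l * l) * y1 := by group
        _ = y1 * (y * y) * y1 := by rw [hl1, e]; group
        _ = 1 := by rw [hsq y hy, mul_one, hsq y1 hy1m]
    have hm := hinv _ hinvol (by rw [mul_smul, (mem_transGroup.mp hy1m).1, hlb])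
    have := mul_mem hm hy1m
    rw [mul_assoc, hsq y1 hy1m, mul_one] at this
    exact hl this

theorem GoodPair.card_centralizer {y : P} (hy : y ∈ transGroup A b c) (hy1 : y ≠ 1) :
    Nat.card (centralizer ({y} : Set P)) ≤ 16 := by
  have hgood := h.of_trans hP hfix hz hA hy hy1
  have h1 := card_le_orbit (centralizer ({y} : Set P)) b (fixedBy Ω y) fun s hs =>
    smul_mem_fixedBy_of_commute (mem_centralizer_singleton_iff.mp hs) hgood.fixes
  have h2 : Nat.card (centralizer ({y} : Set P) ⊓ stabilizer P b : Subgroup P) ≤ 4 := by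
    have hle : centralizer ({y} : Set P) ⊓ stabilizer P b ≤ transGroup A b c := fun l hl => ?_
    · exact (card_le_of_le hle).trans (h.trans_props hP hfix hz hA).2.2.2
    exact h.stab_le hP hfix hz hA hr hy hy1 hl.2 (mem_centralizer_singleton_iff.mp hl.1)
  rw [← Nat.card_coe_set_eq, (hgood.four hfix hz hA).2] at h1
  exact h1.trans (Nat.mul_le_mul_left 4 h2)

omit hr in
theorem GoodPair.centralizer_eight {y : P} (hy : y ∈ transGroup A b c) {d : P}
    (hd : d ∈ centralizer (A : Set P)) (hdy : d * y = y * d) (heq : fixPart A y = fixPart A c) (hy1 : y ≠ 1) :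
    d ∈ fixPart A c := by
  have hgood := h.of_trans hP hfix hz hA hy hy1
  rw [mem_centralizer_iff] at hd
  obtain ⟨a, ha, hY⟩ := hgood.centralizer_decomp hP hfix hz hA (s := d) (fun x hx => (hd x hx.1).symm) hdy
  have h1 := hgood.eq_one_of_centralizes hP hfix hz hA hY fun x hx => by
    rw [mul_assoc, ← hd x hx, ← mul_assoc, hA.comm _ (A.inv_mem ha.1) x hx, mul_assoc]
  rw [inv_mul_eq_one] at h1
  rw [← h1, ← heq]
  exact ha

theorem GoodPair.card_centralizer_eight : Nat.card (centralizer (A : Set P)) ≤ 16 := by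
  have := hA.normal
  have hD : (centralizer (A : Set P)).Normal := ⟨fun d hd s => by
    rw [mem_centralizer_iff] at hd ⊢
    intro a ha
    have h1 := hd (s⁻¹ * a * s) (by simpa using hA.normal.conj_mem a ha s⁻¹)
    calc a * (s * d * s⁻¹) = s * (s⁻¹ * a * s * d) * s⁻¹ := by group
      _ = s * (d * (s⁻¹ * a * s)) * s⁻¹ := by rw [h1]
      _ = s * d * s⁻¹ * a := by group⟩
  have hAD : A ≤ centralizer (A : Set P) := fun a ha => mem_centralizer_iff.mpr fun x hx => hA.comm x hx a ha
  by_contra hlt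
  push_neg at hlt
  obtain ⟨d1, hd1, hd1A, hd1sq, hd1c⟩ := exists_central_step hP A (centralizer (A : Set P))
    (lt_of_le_of_ne hAD fun e => by rw [← e, hA.card] at hlt; omega)
  obtain ⟨hD1card, hD1mem⟩ := card_sup_step hd1A hd1sq
  set D1 := A ⊔ zpowers d1
  have : D1.Normal := ⟨fun u hu s => by
    rcases hD1mem u hu with hu' | hu'
    · exact mem_sup_left (hA.normal.conj_mem u hu' s)
    · have h1 : s * (u * d1⁻¹) * s⁻¹ * (s * d1 * s⁻¹ * d1⁻¹) * d1 = s * u * s⁻¹ := by group
      rw [← h1]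
      exact mul_mem (mul_mem (mem_sup_left (hA.normal.conj_mem _ hu' s)) (mem_sup_left (hd1c s)))
        (mem_sup_right (mem_zpowers d1))⟩
  have hlt' : D1 < centralizer (A : Set P) := lt_of_le_of_ne (sup_le hAD (zpowers_le.mpr hd1)) fun e => by
    rw [← e, hD1card, hA.card] at hlt; omega
  obtain ⟨e, he, heD, hesq, hec⟩ := exists_central_step hP D1 (centralizer (A : Set P)) hlt'
  set π := QuotientGroup.mk' A
  -- some transvection centralises `e` modulo `A`
  obtain ⟨y, hy, hy1, hye⟩ : ∃ y ∈ transGroup A b c, y ≠ 1 ∧ y * e * y⁻¹ * e⁻¹ ∈ A := by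
    obtain ⟨a, ha, ha'⟩ := h.exists_outside hP hfix hz hA
    obtain ⟨z0, hz0A, hz01, hc0⟩ := exists_central_in hP hA
    have hz0 := h.central_mem hP hfix hz hA hz0A hc0
    obtain ⟨w, hw, hw0⟩ : ∃ w ∈ fixPart A c, w ≠ 1 ∧ w ≠ z0 := by
      by_contra hn
      push_neg at hn
      have h1 : (fixPart A c : Set P) ⊆ {1, z0} := fun x hx => by
        by_cases hx1 : x = 1
        · exact Or.inl hx1
        · exact Or.inr (hn x hx hx1)
      have h2 := Set.ncard_le_ncard h1 (Set.toFinite _)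
      rw [← Nat.card_coe_set_eq, Set.ncard_pair hz01.symm] at h2
      simp only [SetLike.coe_sort_coe, (h.card_fixPart hP hfix hz hA).1] at h2
      omega
    obtain ⟨u, hu, hua⟩ := h.exists_trans hP hfix hz hA hr hw ha ha'
    obtain ⟨v, hv, hva⟩ := h.exists_trans hP hfix hz hA hr hz0 ha ha'
    have hu1 : u ≠ 1 := fun e1 => hw0.1 (by
      have := hua a ha ha'; rwa [e1, one_mul, inv_one, mul_one, left_eq_mul] at this)
    have hv1 : v ≠ 1 := fun e1 => hz01 (by
      have := hva a ha ha'; rwa [e1, one_mul, inv_one, mul_one, left_eq_mul] at this)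
    have huv : u * v ≠ 1 := fun e1 => hw0.2 (by
      have hueq : u = v := by
        rw [← mul_inv_eq_one, inv_eq_of_mul_self ((h.trans_props hP hfix hz hA).1 v hv)]; exact e1
      have h1 := hua a ha ha'
      rw [hueq, hva a ha ha'] at h1
      exact (mul_left_cancel h1).symm)
    by_cases h1 : u * e * u⁻¹ * e⁻¹ ∈ A
    · exact ⟨u, hu, hu1, h1⟩
    by_cases h2 : v * e * v⁻¹ * e⁻¹ ∈ A
    · exact ⟨v, hv, hv1, h2⟩
    refine ⟨u * v, mul_mem hu hv, huv, ?_⟩
    have e1 : π (u * e * u⁻¹ * e⁻¹) = π d1 := by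
      have h3 := (hD1mem _ (hec u)).resolve_left h1
      exact (QuotientGroup.eq_iff_div_mem.mpr (by rwa [div_eq_mul_inv]))
    have e2 : π (v * e * v⁻¹ * e⁻¹) = π d1 := by
      have h3 := (hD1mem _ (hec v)).resolve_left h2
      exact (QuotientGroup.eq_iff_div_mem.mpr (by rwa [div_eq_mul_inv]))
    have e3 : π u * π d1 * (π u)⁻¹ * (π d1)⁻¹ = 1 := by
      rw [← map_mul, ← map_inv, ← map_mul, ← map_inv, ← map_mul]
      exact (QuotientGroup.eq_one_iff _).mpr (hd1c u)
    have e4 : π d1 * π d1 = 1 := by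
      rw [← map_mul, ← pow_two]; exact (QuotientGroup.eq_one_iff _).mpr hd1sq
    refine (QuotientGroup.eq_one_iff _).mp (?_ : π _ = 1)
    rw [show u * v * e * (u * v)⁻¹ * e⁻¹ = u * (v * e * v⁻¹ * e⁻¹) * u⁻¹ * (u * e * u⁻¹ * e⁻¹) by group,
      map_mul, map_mul, map_mul, e1, e2, map_inv, mul_inv_eq_one.mp e3, e4]
  -- the elements commuting with `y` modulo `A`
  set U := (centralizer ({π y} : Set (P ⧸ A))).comap π ⊓ centralizer (A : Set P)
  have hUmem : ∀ s, π (y * s * y⁻¹ * s⁻¹) = 1 → s ∈ centralizer (A : Set P) → s ∈ U := fun s hs hsD => by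
    refine Subgroup.mem_inf.mpr ⟨?_, hsD⟩
    rw [mem_comap, mem_centralizer_singleton_iff]
    rw [map_mul, map_mul, map_mul, map_inv, map_inv, mul_inv_eq_one, mul_inv_eq_iff_eq_mul] at hs
    exact hs.symm
  have hU32 : 16 < Nat.card U := by
    have hAU : A ≤ U := fun a ha => hUmem a ((QuotientGroup.eq_one_iff _).mpr
      (A.mul_mem (hA.normal.conj_mem a ha y) (A.inv_mem ha))) (hAD ha)
    have hdU : d1 ∈ U := hUmem d1 ((QuotientGroup.eq_one_iff _).mpr (hd1c y)) hd1
    have heU : e ∈ U := hUmem e ((QuotientGroup.eq_one_iff _).mpr hye) he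
    have hle : D1 ⊔ zpowers e ≤ U := sup_le (sup_le hAU (zpowers_le.mpr hdU)) (zpowers_le.mpr heU)
    have := card_le_of_le hle
    rw [(card_sup_step heD hesq).1, hD1card, hA.card] at this
    omega
  have hgood := h.of_trans hP hfix hz hA hy hy1
  have hy2 : y * y = 1 := (h.trans_props hP hfix hz hA).1 y hy
  have heq := h.unique hP hfix hz hA hr hgood
  have hU16 : Nat.card U ≤ 16 := by
    refine (card_le_mul_of_fibers U (fixPart A c) (fixPart A c : Set P) (Set.toFinite _)
      (fun s => y * s * y⁻¹ * s⁻¹) (fun s hs => ?_) fun s hs t ht he' => ?_).trans_eq (by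
        rw [← Nat.card_coe_set_eq]; simp only [SetLike.coe_sort_coe, (h.card_fixPart hP hfix hz hA).1])
    · have hA' : y * s * y⁻¹ * s⁻¹ ∈ A := by
        refine (QuotientGroup.eq_one_iff _).mp (?_ : π _ = 1)
        have h1 := mem_centralizer_singleton_iff.mp (mem_comap.mp hs.1)
        rw [map_mul, map_mul, map_mul, map_inv, map_inv, ← h1]
        group
      show y * s * y⁻¹ * s⁻¹ ∈ fixPart A c
      rw [← heq]
      refine Subgroup.mem_inf.mpr ⟨hA', mem_centralizer_singleton_iff.mpr ?_⟩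
      set q := y * s * y⁻¹ * s⁻¹ with hq
      have hqq : q * q = 1 := hA.mul_self hA'
      have hyq : y * q * y⁻¹ = q := by
        calc y * q * y⁻¹ = (y * y) * s * y⁻¹ * s⁻¹ * y⁻¹ := by rw [hq]; group
          _ = s * y⁻¹ * s⁻¹ * y⁻¹ := by rw [hy2, one_mul]
          _ = q⁻¹ := by rw [hq, mul_inv_rev, mul_inv_rev, mul_inv_rev, inv_inv, inv_inv, inv_eq_of_mul_self hy2]; simp only [mul_assoc]
          _ = q := inv_eq_of_mul_self hqq
      exact (mul_inv_eq_iff_eq_mul.mp hyq).symm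
    · have hst : s⁻¹ * t ∈ centralizer (A : Set P) :=
        mul_mem (inv_mem hs.2) ht.2
      refine h.centralizer_eight hP hfix hz hA hy hst ?_ heq hy1
      have he'' : y * s * y⁻¹ * s⁻¹ = y * t * y⁻¹ * t⁻¹ := he'
      rw [← mul_inv_eq_iff_eq_mul]
      calc s⁻¹ * t * y * (s⁻¹ * t)⁻¹ = s⁻¹ * (y * t⁻¹⁻¹ * y⁻¹ * t⁻¹)⁻¹ * y * s := by group
        _ = s⁻¹ * (y * s * y⁻¹ * s⁻¹)⁻¹ * y * s := by rw [inv_inv, he'']
        _ = y := by group
  omega

theorem GoodPair.card_le : Nat.card P ≤ 64 := by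
  have := hA.normal
  obtain ⟨z0, hz0A, hz01, hc0⟩ := exists_central_in hP hA
  have hz0 := h.central_mem hP hfix hz hA hz0A hc0
  have hN := h.fixPart_normal hP hfix hz hA hr
  obtain ⟨a, ha, ha'⟩ := h.exists_outside hP hfix hz hA
  have hD16 := h.card_centralizer_eight hP hfix hz hA hr
  obtain ⟨w, hw, hw0⟩ : ∃ w ∈ fixPart A c, w ≠ 1 ∧ w ≠ z0 := by
    by_contra hn
    push_neg at hn
    have h1 : (fixPart A c : Set P) ⊆ {1, z0} := fun x hx => by
      by_cases hx1 : x = 1
      · exact Or.inl hx1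
      · exact Or.inr (hn x hx hx1)
    have h2 := Set.ncard_le_ncard h1 (Set.toFinite _)
    rw [← Nat.card_coe_set_eq, Set.ncard_pair hz01.symm] at h2
    simp only [SetLike.coe_sort_coe, (h.card_fixPart hP hfix hz hA).1] at h2
    omega
  have hout : ∀ s : P, s * a * s⁻¹ ∈ (A : Set P) \ (fixPart A c : Set P) := fun s =>
    ⟨hA.normal.conj_mem a ha s, fun hm => ha' (by
      have := hN.conj_mem _ hm s⁻¹
      rwa [show s⁻¹ * (s * a * s⁻¹) * s⁻¹⁻¹ = a by group] at this)⟩
  have hcard4 : ((A : Set P) \ (fixPart A c : Set P)).ncard = 4 := by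
    rw [Set.ncard_sdiff (fun x hx => hx.1) (Set.toFinite _), ← Nat.card_coe_set_eq, ← Nat.card_coe_set_eq]
    simp only [SetLike.coe_sort_coe, (h.card_fixPart hP hfix hz hA).1, hA.card]
  have hgen : ∀ s : P, s * a = a * s → s * w = w * s → s ∈ centralizer (A : Set P) := by
    intro s hsa hsw
    have h0 : ∀ x ∈ fixPart A c, s * x = x * s := fun x hx => by
      rcases h.fixPart_cases hP hfix hz hA hr hz0 hz01 hw hw0.1 hw0.2 hx with e | e | e | e <;> rw [e]
      · rw [mul_one, one_mul]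
      · exact hc0 s
      · exact hsw
      · rw [← mul_assoc, hsw, mul_assoc, hc0 s, ← mul_assoc]
    rw [mem_centralizer_iff]
    intro x hx
    by_cases hx' : x ∈ fixPart A c
    · exact (h0 x hx').symm
    · have hu := h.coset hP hfix hz hA ha ha' hx hx'
      calc x * s = a * ((a⁻¹ * x) * s) := by rw [mul_assoc (a⁻¹), mul_inv_cancel_left]
        _ = a * s * (a⁻¹ * x) := by rw [← h0 _ hu, mul_assoc]
        _ = s * x := by rw [← hsa, mul_assoc, mul_inv_cancel_left]
  have hmap : ∀ u v : P, u * w * u⁻¹ = v * w * v⁻¹ → u * a * u⁻¹ = v * a * v⁻¹ →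
      u⁻¹ * v ∈ centralizer (A : Set P) := fun u v e1 e2 =>
    hgen _ (by
      calc u⁻¹ * v * a = u⁻¹ * (v * a * v⁻¹) * v := by group
        _ = u⁻¹ * (u * a * u⁻¹) * v := by rw [e2]
        _ = a * (u⁻¹ * v) := by group) (by
      calc u⁻¹ * v * w = u⁻¹ * (v * w * v⁻¹) * v := by group
        _ = u⁻¹ * (u * w * u⁻¹) * v := by rw [e1]
        _ = w * (u⁻¹ * v) := by group)
  by_cases hall : ∀ s : P, s * w = w * s
  · have hw' : ∀ s : P, s * w * s⁻¹ = w := fun s => by rw [hall s, mul_inv_cancel_right]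
    have h1 := card_le_mul_of_fibers (⊤ : Subgroup P) (centralizer (A : Set P))
      ((A : Set P) \ (fixPart A c : Set P)) (Set.toFinite _) (fun s => s * a * s⁻¹) (fun s _ => hout s)
      fun u _ v _ e => hmap u v (by rw [hw', hw']) e
    rw [card_top, hcard4] at h1
    omega
  push_neg at hall
  obtain ⟨t, ht⟩ := hall
  -- the transvection with central centre
  obtain ⟨y0, hy0, hy0a⟩ := h.exists_trans hP hfix hz hA hr hz0 ha ha'
  have hy01 : y0 ≠ 1 := fun e1 => hz01 (by
    have := hy0a a ha ha'; rwa [e1, one_mul, inv_one, mul_one, left_eq_mul] at this)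
  obtain ⟨hsq, -, -, -⟩ := h.trans_props hP hfix hz hA
  have hy2 := hsq y0 hy0
  have hyi := inv_eq_of_mul_self hy2
  have hfix0 : ∀ x ∈ fixPart A c, y0 * x * y0⁻¹ = x := fun x hx => by
    rw [(mem_transGroup.mp hy0).2 x hx, mul_inv_cancel_right]
  have hcenA : ∀ x ∈ A, (∀ s : P, s * x = x * s) → x = 1 ∨ x = z0 := by
    intro x hx hcx
    have hx0 : x ∈ fixPart A c := Subgroup.mem_inf.mpr ⟨hx, mem_centralizer_singleton_iff.mpr (hcx c).symm⟩
    rcases h.fixPart_cases hP hfix hz hA hr hz0 hz01 hw hw0.1 hw0.2 hx0 with e | e | e | e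
    · exact Or.inl e
    · exact Or.inr e
    · exact absurd (e ▸ hcx t) ht
    · refine absurd ?_ ht
      have h1 := e ▸ hcx t
      rw [mul_assoc, ← hc0 t, ← mul_assoc, ← mul_assoc] at h1
      exact mul_right_cancel h1
  have hgood0 := h.of_trans hP hfix hz hA hy0 hy01
  have heq0 := h.unique hP hfix hz hA hr hgood0
  have hclass : ∀ s : P, s * y0 * s⁻¹ * y0 ∈ fixPart A c := by
    intro s
    set d := s * y0 * s⁻¹ * y0 with hd
    -- conjugates of `y0` induce the same transvection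
    have hdD : d ∈ centralizer (A : Set P) := by
      have hact : ∀ x ∈ A, s * y0 * s⁻¹ * x * (s * y0 * s⁻¹)⁻¹ = y0 * x * y0⁻¹ := by
        intro x hx
        have hx1 : s⁻¹ * x * s ∈ A := by simpa using hA.normal.conj_mem x hx s⁻¹
        by_cases hx' : x ∈ fixPart A c
        · have hx2 : s⁻¹ * x * s ∈ fixPart A c := by simpa using hN.conj_mem x hx' s⁻¹
          calc s * y0 * s⁻¹ * x * (s * y0 * s⁻¹)⁻¹ = s * (y0 * (s⁻¹ * x * s) * y0⁻¹) * s⁻¹ := by group
            _ = x := by rw [hfix0 _ hx2]; group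
            _ = y0 * x * y0⁻¹ := (hfix0 x hx').symm
        · have hx2 : s⁻¹ * x * s ∉ fixPart A c := fun hm => hx' (by
            have := hN.conj_mem _ hm s
            rwa [show s * (s⁻¹ * x * s) * s⁻¹ = x by group] at this)
          calc s * y0 * s⁻¹ * x * (s * y0 * s⁻¹)⁻¹ = s * (y0 * (s⁻¹ * x * s) * y0⁻¹) * s⁻¹ := by group
            _ = x * (s * z0 * s⁻¹) := by rw [hy0a _ hx1 hx2]; group
            _ = y0 * x * y0⁻¹ := by rw [hy0a x hx hx', hc0 s, mul_inv_cancel_right]
      rw [mem_centralizer_iff]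
      intro x hx
      have hx1 : y0 * x * y0⁻¹ ∈ A := hA.normal.conj_mem x hx y0
      have h1 := hact _ hx1
      have h2 : y0 * (y0 * x * y0⁻¹) * y0⁻¹ = x := by
        calc y0 * (y0 * x * y0⁻¹) * y0⁻¹ = (y0 * y0) * x * (y0 * y0)⁻¹ := by group
          _ = x := by rw [hy2]; group
      rw [h2] at h1
      have h3 : d * x * d⁻¹ = x := by
        calc d * x * d⁻¹ = s * y0 * s⁻¹ * (y0 * x * y0⁻¹) * (s * y0 * s⁻¹)⁻¹ := by rw [hd]; group
          _ = x := h1
      exact (mul_inv_eq_iff_eq_mul.mp h3).symm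
    have hinv : y0 * d * y0⁻¹ = d⁻¹ := by
      calc y0 * d * y0⁻¹ = y0 * (s * y0 * s⁻¹) * (y0 * y0⁻¹) := by rw [hd]; group
        _ = d⁻¹ := by rw [hd, hyi, hy2, mul_one, mul_inv_rev, mul_inv_rev, mul_inv_rev, inv_inv, hyi]; group
    by_cases hdA : d ∈ A
    · rw [inv_eq_of_mul_self (hA.mul_self hdA)] at hinv
      rw [← heq0]
      exact Subgroup.mem_inf.mpr ⟨hdA, mem_centralizer_singleton_iff.mpr (mul_inv_eq_iff_eq_mul.mp hinv).symm⟩
    exfalso
    have hAD : A ≤ centralizer (A : Set P) := fun a ha => mem_centralizer_iff.mpr fun x hx => hA.comm x hx a ha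
    have hdouble : Nat.card (centralizer (A : Set P)) ≤ 2 * Nat.card A := by rw [hA.card]; exact hD16
    have hd2A : d * d ∈ A := by
      have hdi : d⁻¹ ∈ centralizer (A : Set P) := inv_mem hdD
      have := mem_of_double hAD hdouble hdi (fun hm => hdA (by simpa using A.inv_mem hm)) hdD hdA
      rwa [inv_inv] at this
    have hd2c : ∀ u : P, u * (d * d) = d * d * u := by
      intro u
      rw [← mul_inv_eq_iff_eq_mul]
      have hud : u * d * u⁻¹ ∈ centralizer (A : Set P) := by
        rw [mem_centralizer_iff] at hdD ⊢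
        intro x hx
        have h1 := hdD (u⁻¹ * x * u) (by simpa using hA.normal.conj_mem x hx u⁻¹)
        calc x * (u * d * u⁻¹) = u * (u⁻¹ * x * u * d) * u⁻¹ := by group
          _ = u * (d * (u⁻¹ * x * u)) * u⁻¹ := by rw [h1]
          _ = u * d * u⁻¹ * x := by group
      have hudA : u * d * u⁻¹ ∉ A := fun hm => hdA (by
        have := hA.normal.conj_mem _ hm u⁻¹
        rwa [show u⁻¹ * (u * d * u⁻¹) * u⁻¹⁻¹ = d by group] at this)
      have hα := mem_of_double hAD hdouble hdD hdA hud hudA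
      set α := d⁻¹ * (u * d * u⁻¹) with hαdef
      have hcomm : α * d = d * α := (mem_centralizer_iff.mp hdD) α hα
      calc u * (d * d) * u⁻¹ = (d * α) * (d * α) := by rw [hαdef]; group
        _ = d * (α * d) * α := by simp only [mul_assoc]
        _ = d * d * (α * α) := by rw [hcomm]; simp only [mul_assoc]
        _ = d * d := by rw [hA.mul_self hα, mul_one]
    rcases hcenA _ hd2A hd2c with e | e
    · rw [inv_eq_of_mul_self e] at hinv
      exact hdA (h.centralizer_eight hP hfix hz hA hy0 hdD (mul_inv_eq_iff_eq_mul.mp hinv).symm heq0 hy01).1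
    · have h1 : y0 * (d * a) * y0⁻¹ = d * a := by
        have hdi : d⁻¹ = d * z0 := inv_eq_of_mul_eq_one_right (by rw [← mul_assoc, e, hA.mul_self hz0A])
        calc y0 * (d * a) * y0⁻¹ = y0 * d * y0⁻¹ * (y0 * a * y0⁻¹) := by group
          _ = d * z0 * (a * z0) := by rw [hinv, hdi, hy0a a ha ha']
          _ = d * a := by rw [hA.comm a ha z0 hz0A, mul_assoc d, ← mul_assoc z0, hA.mul_self hz0A, one_mul]
      have h2 := h.centralizer_eight hP hfix hz hA hy0 (mul_mem hdD (hAD ha))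
        (mul_inv_eq_iff_eq_mul.mp h1).symm heq0 hy01
      exact hdA (by simpa [mul_assoc, hA.mul_self ha] using A.mul_mem h2.1 ha)
  have h1 := card_le_mul_of_fibers (⊤ : Subgroup P) (centralizer ({y0} : Set P)) (fixPart A c : Set P)
    (Set.toFinite _) (fun s => s * y0 * s⁻¹ * y0) (fun s _ => hclass s) fun u _ v _ e => by
      have e' : u * y0 * u⁻¹ = v * y0 * v⁻¹ := mul_right_cancel e
      rw [mem_centralizer_singleton_iff]
      calc u⁻¹ * v * y0 = u⁻¹ * (v * y0 * v⁻¹) * v := by group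
        _ = u⁻¹ * (u * y0 * u⁻¹) * v := by rw [e']
        _ = y0 * (u⁻¹ * v) := by group
  rw [card_top, ← Nat.card_coe_set_eq] at h1
  simp only [SetLike.coe_sort_coe, (h.card_fixPart hP hfix hz hA).1] at h1
  have := h.card_centralizer hP hfix hz hA hr hy0 hy01
  omega

end Cfsg.Agent.FixityFour
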