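import Cfsg.Agent.Lib.FixityFour.Counting
/-!
# Fixity four: a normal `2³` meeting a point stabiliser trivially (helper20)

Let `A` be a normal elementary abelian subgroup of order eight of the 2-group `P` and `b` a point fixed by
an involution `c`, with `A ∩ P_b = 1`.  Then `A₀ = C_A(c)` is regular on the four fixed points of `c`, the
elements of `P_b` centralising `A₀` form a group `Y` of transvections, and either `Y = ⟨c⟩`, so that
`A₀ × ⟨c⟩` is self-centralising and `P` has sectional rank at most four, or `Y` has order four; then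
`A₀` is normal, `C_P(y)` has order at most `16` and `|P| ≤ 64`.
-/

set_option autoImplicit false

namespace Cfsg.Agent.FixityFour

open MulAction Subgroup
open scoped Pointwise

variable {P : Type*} [Group P] [Finite P] {Ω : Type*} [MulAction P Ω] [Finite Ω]

/-- A normal elementary abelian subgroup of order eight. -/
structure NormalEight (A : Subgroup P) : Prop where
  normal : A.Normal
  comm : ∀ a ∈ A, ∀ b ∈ A, a * b = b * a
  sq : ∀ a ∈ A, a ^ 2 = 1
  card : Nat.card A = 8

theorem NormalEight.mul_self {A : Subgroup P} (hA : NormalEight A) {a : P} (ha : a ∈ A) : a * a = 1 := by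
  rw [← pow_two]; exact hA.sq a ha

/-- The basic data: `c` is an involution fixing `b`, and `A` meets the stabiliser of `b` trivially. -/
structure GoodPair (A : Subgroup P) (b : Ω) (c : P) : Prop where
  ord : orderOf c = 2
  fixes : c • b = b
  free : ∀ a ∈ A, a • b = b → a = 1

/-- The fixed part of `A`. -/
abbrev fixPart (A : Subgroup P) (c : P) : Subgroup P := A ⊓ centralizer ({c} : Set P)

/-- The stabiliser elements centralising the fixed part. -/
abbrev transGroup (A : Subgroup P) (b : Ω) (c : P) : Subgroup P :=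
  stabilizer P b ⊓ centralizer (fixPart A c : Set P)

theorem mem_transGroup {A : Subgroup P} {b : Ω} {c y : P} :
    y ∈ transGroup A b c ↔ y • b = b ∧ ∀ a ∈ fixPart A c, y * a = a * y := by
  simp only [transGroup, Subgroup.mem_inf, mem_stabilizer_iff, mem_centralizer_iff, SetLike.mem_coe]
  exact and_congr Iff.rfl ⟨fun h a ha => (h a ha).symm, fun h a ha => (h a ha).symm⟩

variable {A : Subgroup P} {b : Ω} {c : P}
variable (hP : IsPGroup 2 P) (hfix : FixLE P Ω) (hz : ZeroFour P Ω) (hA : NormalEight A) (h : GoodPair A b c)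
include hP hfix hz hA h

omit hP in
theorem GoodPair.four : Four Ω c := hz.four h.ord h.fixes

theorem GoodPair.card_fixPart :
    Nat.card (fixPart A c) = 4 ∧ ∀ e ∈ fixedBy Ω c, ∃ a ∈ fixPart A c, a • b = e := by
  have := hA.normal
  have hc2 : c * c = 1 := (h.four hfix hz hA).mul_self
  have hci := inv_eq_of_mul_self hc2
  have himg : ∀ a ∈ A, c * a * c⁻¹ * a⁻¹ ∈ fixPart A c := fun a ha => by
    have hca : c * a * c⁻¹ ∈ A := hA.normal.conj_mem a ha c
    refine Subgroup.mem_inf.mpr ⟨A.mul_mem hca (A.inv_mem ha), mem_centralizer_singleton_iff.mpr ?_⟩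
    have hai : a⁻¹ = a := inv_eq_of_mul_self (hA.mul_self ha)
    have hcomm := hA.comm _ hca _ ha
    rw [hai, hci] at *
    calc c * a * c * a * c = c * a * (c * a * c) := by simp only [mul_assoc]
      _ = c * (a * (c * a * c)) := by simp only [mul_assoc]
      _ = c * (c * a * c * a) := by rw [← hcomm]
  have h1 : Nat.card A ≤ Nat.card (fixPart A c) * Nat.card (fixPart A c) := by
    refine (card_le_mul_of_fibers A _ (fixPart A c : Set P) (Set.toFinite _) (fun a => c * a * c⁻¹ * a⁻¹)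
      himg fun u hu v hv e => Subgroup.mem_inf.mpr ⟨A.mul_mem (A.inv_mem hu) hv,
        mem_centralizer_singleton_iff.mpr ?_⟩).trans_eq (by rw [← Nat.card_coe_set_eq]; rfl)
    have e' : c * u * c⁻¹ * u⁻¹ = c * v * c⁻¹ * v⁻¹ := e
    have hw : u⁻¹ * v ∈ A := A.mul_mem (A.inv_mem hu) hv
    have hcv : c * v * c⁻¹ ∈ A := hA.normal.conj_mem v hv c
    have e2 : c * (u⁻¹ * v) * c⁻¹ = u⁻¹ * v := by
      have e3 : c * u * c⁻¹ = c * v * c⁻¹ * v⁻¹ * u := by rw [← e', inv_mul_cancel_right]
      calc c * (u⁻¹ * v) * c⁻¹ = (c * u * c⁻¹)⁻¹ * (c * v * c⁻¹) := by group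
        _ = u⁻¹ * v * ((c * v * c⁻¹)⁻¹ * (c * v * c⁻¹)) := by rw [e3]; group
        _ = u⁻¹ * v := by rw [inv_mul_cancel, mul_one]
    exact (mul_inv_eq_iff_eq_mul.mp e2).symm
  have hsub : ∀ a ∈ fixPart A c, a • b ∈ fixedBy Ω c := fun a ha =>
    smul_mem_fixedBy_of_commute (mem_centralizer_singleton_iff.mp ha.2) h.fixes
  have h4 : (fixedBy Ω c).ncard = 4 := by rw [← Nat.card_coe_set_eq]; exact (h.four hfix hz hA).2
  have hbot : fixPart A c ⊓ stabilizer P b = ⊥ := (Subgroup.eq_bot_iff_forall _).mpr fun a ha => h.free a ha.1.1 ha.2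
  have h2 : Nat.card (fixPart A c) ≤ 4 := by
    have := card_le_orbit (fixPart A c) b _ hsub
    rwa [h4, hbot, card_bot, mul_one] at this
  have h3 : 4 ≤ Nat.card (fixPart A c) := by
    refine pow_two_ge hP _ (n := 1) ?_
    rw [hA.card] at h1
    nlinarith
  refine ⟨le_antisymm h2 h3, fun e he => ?_⟩
  have hinj : Set.InjOn (fun a : P => a • b) (fixPart A c : Set P) := fun u hu v hv e => by
    have := h.free (u⁻¹ * v) (A.mul_mem (A.inv_mem hu.1) hv.1) (by rw [mul_smul, ← show u • b = v • b from e, inv_smul_smul])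
    exact inv_mul_eq_one.mp this
  have himg : (fun a : P => a • b) '' (fixPart A c : Set P) = fixedBy Ω c :=
    Set.eq_of_subset_of_ncard_le (Set.image_subset_iff.mpr hsub)
      (by rw [hinj.ncard_image, h4, ← Nat.card_coe_set_eq]; exact h3) (Set.toFinite _)
  rw [← himg] at he
  exact he

theorem GoodPair.not_mem : c ∉ A := fun hc => by
  have := h.free c hc h.fixes
  exact (h.four hfix hz hA).ne_one this

omit hP in
theorem GoodPair.fixes_all (hsurj : ∀ e ∈ fixedBy Ω c, ∃ a ∈ fixPart A c, a • b = e) {y : P}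
    (hy : y ∈ transGroup A b c) {e : Ω} (he : e ∈ fixedBy Ω c) : y • e = e := by
  obtain ⟨a, ha, rfl⟩ := hsurj e he
  rw [mem_transGroup] at hy
  rw [smul_smul, hy.2 a ha, mul_smul, hy.1]

theorem GoodPair.eq_one_of_centralizes {y : P} (hy : y ∈ transGroup A b c)
    (hA' : ∀ a ∈ A, y * a = a * y) : y = 1 := by
  refine eq_one_of_five hfix (s := (fun a : P => a • b) '' (A : Set P)) ?_ ?_
  · rw [Set.InjOn.ncard_image fun u hu v hv e => by
      have := h.free (u⁻¹ * v) (A.mul_mem (A.inv_mem hu) hv) (by rw [mul_smul, ← show u • b = v • b from e, inv_smul_smul])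
      exact inv_mul_eq_one.mp this, ← Nat.card_coe_set_eq]
    simp only [SetLike.coe_sort_coe, hA.card]
    norm_num
  · rintro _ ⟨a, ha, rfl⟩
    show y • a • b = a • b
    rw [smul_smul, hA' a ha, mul_smul, (mem_transGroup.mp hy).1]

theorem GoodPair.exists_outside : ∃ a ∈ A, a ∉ fixPart A c := by
  by_contra hn
  push_neg at hn
  have := card_le_of_le (fun a ha => hn a ha : A ≤ fixPart A c)
  rw [hA.card, (h.card_fixPart hP hfix hz hA).1] at this
  omega

theorem GoodPair.coset {a a' : P} (ha : a ∈ A) (ha' : a ∉ fixPart A c) (hb : a' ∈ A)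
    (hb' : a' ∉ fixPart A c) : a⁻¹ * a' ∈ fixPart A c :=
  mem_of_double inf_le_left (by rw [hA.card, (h.card_fixPart hP hfix hz hA).1]) ha ha' hb hb'

/-- The centre of the transvection `y`. -/
theorem GoodPair.centre_mem {y : P} (hy : y ∈ transGroup A b c) {a : P} (ha : a ∈ A) (ha' : a ∉ fixPart A c) :
    y * a * y⁻¹ * a⁻¹ ∈ fixPart A c := by
  have := hA.normal
  have h1 : y * a * y⁻¹ ∈ A := hA.normal.conj_mem a ha y
  have h2 : y * a * y⁻¹ ∉ fixPart A c := fun hm => ha' (by
    have h3 := (mem_transGroup.mp hy).2 _ hm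
    have : a = y * a * y⁻¹ := by
      have h4 : y⁻¹ * (y * (y * a * y⁻¹)) = y⁻¹ * (y * a * y⁻¹ * y) := by rw [h3]
      rw [inv_mul_cancel_left] at h4
      simpa [mul_assoc] using h4.symm
    rw [this]; exact hm)
  have h3 := h.coset hP hfix hz hA ha ha' h1 h2
  rwa [hA.comm _ (A.inv_mem ha) _ h1] at h3

/-- The homomorphism to the centres does not depend on the element outside. -/
theorem GoodPair.centre_eq {y : P} (hy : y ∈ transGroup A b c) {a a' : P} (ha : a ∈ A)
    (ha' : a ∉ fixPart A c) (hb : a' ∈ A) (hb' : a' ∉ fixPart A c) :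
    y * a' * y⁻¹ * a'⁻¹ = y * a * y⁻¹ * a⁻¹ := by
  have := hA.normal
  have hw := h.coset hP hfix hz hA ha ha' hb hb'
  have h1 := (mem_transGroup.mp hy).2 _ hw
  have h2 : a' = a * (a⁻¹ * a') := by rw [mul_inv_cancel_left]
  have h3 : y * a' * y⁻¹ = (y * a * y⁻¹) * (a⁻¹ * a') := by
    conv_lhs => rw [h2]
    rw [show y * (a * (a⁻¹ * a')) * y⁻¹ = y * a * y⁻¹ * (y * (a⁻¹ * a') * y⁻¹) by group, h1, mul_inv_cancel_right]
  have h4 : a⁻¹ * a' * a'⁻¹ = a⁻¹ := by rw [mul_inv_cancel_right]
  rw [h3, mul_assoc, h4]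

theorem GoodPair.trans_props :
    (∀ y ∈ transGroup A b c, y * y = 1) ∧ (∀ y ∈ transGroup A b c, ∀ y' ∈ transGroup A b c, y * y' = y' * y) ∧
      c ∈ transGroup A b c ∧ Nat.card (transGroup A b c) ≤ 4 := by
  have := hA.normal
  obtain ⟨a, ha, ha'⟩ := h.exists_outside hP hfix hz hA
  set f : P → P := fun y => y * a * y⁻¹ * a⁻¹ with hf
  have hmul : ∀ y ∈ transGroup A b c, ∀ y' ∈ transGroup A b c, f (y * y') = f y * f y' := by
    intro y hy y' hy'
    have hm := h.centre_mem hP hfix hz hA hy' ha ha'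
    have h1 : y * f y' * y⁻¹ = f y' := by rw [(mem_transGroup.mp hy).2 _ hm, mul_inv_cancel_right]
    have h2 : f (y * y') = (y * f y' * y⁻¹) * f y := by simp only [hf]; group
    rw [h2, h1]
    exact hA.comm _ hm.1 _ (h.centre_mem hP hfix hz hA hy ha ha').1
  have hinj : ∀ y ∈ transGroup A b c, ∀ y' ∈ transGroup A b c, f y = f y' → y⁻¹ * y' ∈ (⊥ : Subgroup P) := by
    intro y hy y' hy' e
    rw [mem_bot]
    refine h.eq_one_of_centralizes hP hfix hz hA ((transGroup A b c).mul_mem ((transGroup A b c).inv_mem hy) hy') ?_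
    have hca : y⁻¹ * y' * a = a * (y⁻¹ * y') := by
      have e' : y * a * y⁻¹ = y' * a * y'⁻¹ := mul_right_cancel e
      calc y⁻¹ * y' * a = y⁻¹ * (y' * a * y'⁻¹) * y' := by group
        _ = y⁻¹ * (y * a * y⁻¹) * y' := by rw [e']
        _ = a * (y⁻¹ * y') := by group
    intro x hx
    have hY := (mem_transGroup.mp ((transGroup A b c).mul_mem ((transGroup A b c).inv_mem hy) hy')).2
    by_cases hx' : x ∈ fixPart A c
    · exact hY x hx'
    · have hw := h.coset hP hfix hz hA ha ha' hx hx'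
      calc y⁻¹ * y' * x = y⁻¹ * y' * a * (a⁻¹ * x) := by rw [mul_assoc _ a, mul_inv_cancel_left]
        _ = a * (y⁻¹ * y' * (a⁻¹ * x)) := by rw [hca, mul_assoc]
        _ = a * (a⁻¹ * x) * (y⁻¹ * y') := by rw [hY _ hw]; simp only [mul_assoc]
        _ = x * (y⁻¹ * y') := by rw [mul_inv_cancel_left]
  have hone : f 1 = 1 := by simp [hf]
  refine ⟨fun y hy => ?_, fun y hy y' hy' => ?_, ?_, ?_⟩
  · have h1 : f (y * y) = f 1 := by
      rw [hmul y hy y hy, hone]
      exact hA.mul_self (h.centre_mem hP hfix hz hA hy ha ha').1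
    have := hinj _ ((transGroup A b c).mul_mem hy hy) _ (one_mem _) h1
    rw [mem_bot, mul_one] at this
    exact inv_eq_one.mp this
  · have h1 : f (y * y') = f (y' * y) := by
      rw [hmul y hy y' hy', hmul y' hy' y hy]
      exact hA.comm _ (h.centre_mem hP hfix hz hA hy ha ha').1 _ (h.centre_mem hP hfix hz hA hy' ha ha').1
    have := hinj _ ((transGroup A b c).mul_mem hy hy') _ ((transGroup A b c).mul_mem hy' hy) h1
    rw [mem_bot] at this
    exact inv_mul_eq_one.mp this
  · refine mem_transGroup.mpr ⟨h.fixes, fun x hx => ?_⟩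
    exact (mem_centralizer_singleton_iff.mp hx.2).symm
  · refine (card_le_mul_of_fibers _ ⊥ (fixPart A c : Set P) (Set.toFinite _) f
      (fun y hy => h.centre_mem hP hfix hz hA hy ha ha') hinj).trans_eq ?_
    rw [card_bot, mul_one, ← Nat.card_coe_set_eq]
    exact (h.card_fixPart hP hfix hz hA).1

/-- The centraliser of `C_A(c)` and `c`. -/
theorem GoodPair.centralizer_decomp {s : P} (hsA : ∀ a ∈ fixPart A c, s * a = a * s) (hsc : s * c = c * s) :
    ∃ a ∈ fixPart A c, a⁻¹ * s ∈ transGroup A b c := by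
  obtain ⟨-, hsurj⟩ := h.card_fixPart hP hfix hz hA
  obtain ⟨a, ha, hab⟩ := hsurj (s • b) (smul_mem_fixedBy_of_commute hsc h.fixes)
  refine ⟨a, ha, mem_transGroup.mpr ⟨by rw [mul_smul, ← hab, inv_smul_smul], fun x hx => ?_⟩⟩
  calc a⁻¹ * s * x = a⁻¹ * x * s := by rw [mul_assoc, hsA x hx, ← mul_assoc]
    _ = x * (a⁻¹ * s) := by rw [hA.comm _ (A.inv_mem ha.1) _ hx.1, mul_assoc]

/-- Either the sectional rank is at most four, or there are three transvections. -/
theorem GoodPair.rank_or_four :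
    Cfsg.SectionalPRankLE 2 4 P ∨ Nat.card (transGroup A b c) = 4 := by
  obtain ⟨hsq, -, hcY, hY⟩ := h.trans_props hP hfix hz hA
  by_cases h4 : Nat.card (transGroup A b c) = 4
  · exact Or.inr h4
  refine Or.inl ?_
  have h2 : Nat.card (transGroup A b c) ≤ 2 := pow_two_le hP _ (n := 1) (by omega)
  have hc2 : c * c = 1 := hsq c hcY
  obtain ⟨E, hEc, hE2, hEcard, hAE, hcE, hEmem⟩ := exists_extend (A := fixPart A c) hc2
    (fun hm => h.not_mem hP hfix hz hA hm.1) (fun a ha => (mem_centralizer_singleton_iff.mp ha.2).symm)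
    (fun a ha a' ha' => hA.comm a ha.1 a' ha'.1) (fun a ha => hA.sq a ha.1)
  have hpair : ∀ y ∈ transGroup A b c, y = 1 ∨ y = c := by
    intro y hy
    by_contra hne
    push_neg at hne
    have hsub : ({1, c, y} : Set P) ⊆ (transGroup A b c : Set P) := by
      rintro x (rfl | rfl | rfl)
      · exact one_mem _
      · exact hcY
      · exact hy
    have h3 := Set.ncard_le_ncard hsub (Set.toFinite _)
    rw [Set.ncard_eq_three.mpr ⟨1, c, y, ?_, Ne.symm hne.1, Ne.symm hne.2, rfl⟩, ← Nat.card_coe_set_eq] at h3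
    · simp only [SetLike.coe_sort_coe] at h3; omega
    · exact Ne.symm (h.four hfix hz hA).ne_one
  refine Sectional.sectionalPRankLE_of_self_centralizing_eight (A := E) ⟨hP, hEc, hE2, ?_, fun s hs => ?_⟩
  · rw [hEcard, (h.card_fixPart hP hfix hz hA).1]
  · rw [mem_centralizer_iff] at hs
    obtain ⟨a, ha, hY'⟩ := h.centralizer_decomp hP hfix hz hA (s := s)
      (fun x hx => (hs x (hAE hx)).symm) (hs c hcE).symm
    have : s = a * (a⁻¹ * s) := by rw [mul_inv_cancel_left]
    rw [this]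
    rcases hpair _ hY' with e | e <;> rw [e]
    · rw [mul_one]; exact hAE ha
    · exact mul_mem (hAE ha) hcE

variable (hr : ¬ Cfsg.SectionalPRankLE 2 4 P)
include hr

theorem GoodPair.trans_card : Nat.card (transGroup A b c) = 4 :=
  (h.rank_or_four hP hfix hz hA).resolve_left hr

/-- All transvections with the given hyperplane occur. -/
theorem GoodPair.exists_trans {v : P} (hv : v ∈ fixPart A c) {a : P} (ha : a ∈ A) (ha' : a ∉ fixPart A c) :
    ∃ y ∈ transGroup A b c, ∀ a' ∈ A, a' ∉ fixPart A c → y * a' * y⁻¹ = a' * v := by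
  have := hA.normal
  set f : P → P := fun y => y * a * y⁻¹ * a⁻¹ with hf
  have hmaps : Set.MapsTo f (transGroup A b c) (fixPart A c) := fun y hy => h.centre_mem hP hfix hz hA hy ha ha'
  have hinjOn : Set.InjOn f (transGroup A b c : Set P) := by
    intro y hy y' hy' e
    have e' : y * a * y⁻¹ = y' * a * y'⁻¹ := mul_right_cancel e
    have hm : y⁻¹ * y' ∈ transGroup A b c := (transGroup A b c).mul_mem ((transGroup A b c).inv_mem hy) hy'
    refine inv_mul_eq_one.mp (h.eq_one_of_centralizes hP hfix hz hA hm fun x hx => ?_)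
    by_cases hx' : x ∈ fixPart A c
    · exact (mem_transGroup.mp hm).2 x hx'
    · have h1 := h.centre_eq hP hfix hz hA hm ha ha' hx hx'
      have h2 : y⁻¹ * y' * a * (y⁻¹ * y')⁻¹ * a⁻¹ = 1 := by
        calc y⁻¹ * y' * a * (y⁻¹ * y')⁻¹ * a⁻¹ = y⁻¹ * (y' * a * y'⁻¹) * y * a⁻¹ := by group
          _ = 1 := by rw [← e']; group
      rw [h2, mul_inv_eq_one, mul_inv_eq_iff_eq_mul] at h1
      exact h1
  have himg : f '' (transGroup A b c : Set P) = (fixPart A c : Set P) := by
    refine Set.eq_of_subset_of_ncard_le hmaps.image_subset ?_ (Set.toFinite _)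
    rw [hinjOn.ncard_image, ← Nat.card_coe_set_eq, ← Nat.card_coe_set_eq]
    simp only [SetLike.coe_sort_coe]
    rw [(h.card_fixPart hP hfix hz hA).1, h.trans_card hP hfix hz hA hr]
  obtain ⟨y, hy, hyv⟩ := himg.symm.subset hv
  refine ⟨y, hy, fun a' hb hb' => ?_⟩
  rw [hA.comm a' hb v hv.1, ← mul_inv_eq_iff_eq_mul, h.centre_eq hP hfix hz hA hy ha ha' hb hb']
  exact hyv

end Cfsg.Agent.FixityFour
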