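import Cfsg.Agent.Lib.FixityFour.SmallCentralizer
import Cfsg.Agent.Lib.TwoFusion.Transfer
/-!
# Fixity four: point stabilisers of odd order divisible by three (helper20)

Either the setwise stabiliser of a fixed point set is strongly 3-embedded, or the Sylow 3-subgroup is
elementary abelian of order nine.
-/

set_option autoImplicit false

namespace Cfsg.Agent.FixityFour

open Subgroup MulAction
open scoped Pointwise

variable {G : Type*} [Group G] {Ω : Type*} [MulAction G Ω]

/-- An element of odd order does not invert, unless the square is trivial. -/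
theorem sq_eq_one_of_inverted {M : Type*} [Group M] {g s : M} {m : ℕ} (hm : Odd m) (hg : g ^ m = 1)
    (h : g * s * g⁻¹ = s⁻¹) : s * s = 1 := by
  have h2 : Commute (g * g) s := by
    show g * g * s = s * (g * g)
    rw [← mul_inv_eq_iff_eq_mul, show g * g * s * (g * g)⁻¹ = g * (g * s * g⁻¹) * g⁻¹ by group, h,
      show g * s⁻¹ * g⁻¹ = (g * s * g⁻¹)⁻¹ by group, h, inv_inv]
  obtain ⟨j, rfl⟩ := hm
  have hgj : Commute (g ^ (2 * j)) s := by rw [pow_mul, pow_two]; exact h2.pow_left j
  rw [pow_succ] at hg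
  have hc : Commute g s := by rw [← inv_eq_of_mul_eq_one_right hg]; exact hgj.inv_left
  rw [hc.eq, mul_inv_cancel_right] at h
  conv_lhs => rw [h]
  rw [← h, ← mul_inv_cancel s]
  congr 1

variable [Finite G] [Finite Ω]

/-- The hypotheses of this part: fixity four and no involution with a fixed point. -/
structure OddFix (G : Type*) [Group G] (Ω : Type*) [MulAction G Ω] : Prop where
  fix : FixLE G Ω
  free : ∀ u : G, orderOf u = 2 → ∀ b : Ω, u • b ≠ b

theorem OddFix.odd_of_fixed (h : OddFix G Ω) {g : G} {b : Ω} (hb : g • b = b) : Odd (orderOf g) := by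
  rw [← Nat.not_even_iff_odd]
  intro he
  obtain ⟨y, hy, hy2⟩ := exists_involution_zpowers (even_iff_two_dvd.mp he) (isOfFinOrder_of_finite g)
  exact h.free y hy2 b (smul_eq_of_mem_zpowers hy hb)

/-- An element stabilising a set of odd size has odd order. -/
theorem OddFix.odd_of_stable (h : OddFix G Ω) {g : G} {T : Set Ω} (hT : Odd T.ncard) (hg : g • T = T) :
    Odd (orderOf g) := by
  rw [← Nat.not_even_iff_odd]
  intro he
  obtain ⟨y, hy, hy2⟩ := exists_involution_zpowers (even_iff_two_dvd.mp he) (isOfFinOrder_of_finite g)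
  have hyT : y • T = T := (zpowers_le.mpr (mem_stabilizer_iff.mpr hg) : zpowers g ≤ stabilizer G T) hy
  classical
  let σ : Equiv.Perm T := ((toPermHom G Ω) y).subtypePerm fun b => by
    show y • b ∈ T ↔ b ∈ T
    conv_lhs => rw [← hyT]
    exact Set.smul_mem_smul_set_iff
  have hσ : σ ^ 2 ^ 1 = 1 := Equiv.ext fun b => Subtype.ext (by
    show y • y • (b : Ω) = b
    rw [smul_smul, ← pow_two, ← hy2, pow_orderOf_eq_one, one_smul])
  have : Fintype T := Fintype.ofFinite T
  have : Fact (Nat.Prime 2) := ⟨Nat.prime_two⟩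
  obtain ⟨b, hb⟩ := Equiv.Perm.exists_fixed_point_of_prime (p := 2) (n := 1) (by
    rw [← Nat.card_eq_fintype_card, Nat.card_coe_set_eq]
    exact fun hd => Nat.not_even_iff_odd.mpr hT (even_iff_two_dvd.mpr hd)) hσ
  exact h.free y hy2 b (congrArg Subtype.val hb)

omit [Finite G] in
theorem fix_mod_three {y : G} {k : ℕ} (hy : y ^ 3 ^ k = 1) :
    (fixedBy Ω y).ncard ≡ Nat.card Ω [MOD 3] := by
  have : Fact (Nat.Prime 3) := ⟨Nat.prime_three⟩
  obtain ⟨j, -, hj⟩ := (Nat.dvd_prime_pow Nat.prime_three).mp (orderOf_dvd_of_pow_eq_one hy)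
  have hp : IsPGroup 3 (zpowers y) := IsPGroup.of_card (n := j) (by rw [Nat.card_zpowers, hj])
  refine Nat.ModEq.trans (show Nat.ModEq 3 _ _ from congrArg (fun t => t % 3) ?_) (hp.card_modEq_card_fixedPoints Ω).symm
  rw [← Nat.card_coe_set_eq]
  refine congrArg (fun s : Set Ω => Nat.card s) (Set.ext fun b => ?_)
  simp only [mem_fixedBy, mem_fixedPoints]
  refine ⟨fun hb u => ?_, fun hb => hb ⟨y, mem_zpowers y⟩⟩
  exact smul_eq_of_mem_zpowers u.2 hb

theorem mem_sylow_pow (P : Sylow 3 G) {y : G} (hy : y ∈ P) : ∃ k : ℕ, y ^ 3 ^ k = 1 := by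
  obtain ⟨k, hk⟩ := P.2 ⟨y, hy⟩
  exact ⟨k, congrArg Subtype.val hk⟩

omit [Finite Ω] in
theorem exists_mem_sylow (P : Sylow 3 G) {y : G} (hy : orderOf y = 3) :
    ∃ g : G, g * y * g⁻¹ ∈ P := by
  have : Fact (Nat.Prime 3) := ⟨Nat.prime_three⟩
  have hp : IsPGroup 3 (zpowers y) := IsPGroup.of_card (n := 1) (by rw [Nat.card_zpowers, hy, pow_one])
  obtain ⟨Q, hQ⟩ := hp.exists_le_sylow
  obtain ⟨g, hg⟩ := MulAction.exists_smul_eq G Q P
  refine ⟨g, ?_⟩
  have h1 : g * y * g⁻¹ ∈ ((g • Q : Sylow 3 G) : Subgroup G) := by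
    rw [Sylow.coe_subgroup_smul]
    exact Subgroup.smul_mem_pointwise_smul _ (MulAut.conj g) _ (hQ (mem_zpowers _))
  rwa [hg] at h1

/-- The strongly 3-embedded conclusion. -/
def StrongThree (G : Type*) [Group G] : Prop :=
  ∃ H : Subgroup G, H ≠ ⊤ ∧ 3 ∣ Nat.card H ∧
    ∀ g : G, g ∉ H → ¬ 3 ∣ Nat.card ↥(H ⊓ H.map (MulAut.conj g).toMonoidHom)

omit [Finite G] in
theorem stable_proper [IsPretransitive G Ω] {T : Set Ω} (hT : T.Nonempty) (hlt : T.ncard < Nat.card Ω) :
    stabilizer G T ≠ ⊤ := by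
  intro e
  have hall : T = Set.univ := Set.eq_univ_of_forall fun b => by
    obtain ⟨c, hc⟩ := hT
    obtain ⟨g, rfl⟩ := exists_smul_eq G c b
    have hg : g • T = T := mem_stabilizer_iff.mp (e ▸ mem_top g)
    rw [← hg]
    exact Set.smul_mem_smul_set hc
  rw [hall, Set.ncard_univ] at hlt
  omega

/-- The stabiliser of the common fixed set of the elements of order three is strongly 3-embedded. -/
theorem strongThree [IsPretransitive G Ω] (hn : 4 < Nat.card Ω) (P : Sylow 3 G) {T : Set Ω} (hT : T.Nonempty)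
    (hT4 : T.ncard ≤ 4) (hPT : ∀ s ∈ P, s • T = T) (h3 : 3 ∣ Nat.card G)
    (hall : ∀ y ∈ P, orderOf y = 3 → fixedBy Ω y = T) : StrongThree G := by
  have hp3 : Fact (Nat.Prime 3) := ⟨Nat.prime_three⟩
  set K := stabilizer G T with hK
  have hPK : (P : Subgroup G) ≤ K := fun s hs => hPT s hs
  have hfixK : ∀ y : G, y ∈ K → orderOf y = 3 → fixedBy Ω y = T := by
    intro y hy hyo
    have hp : IsPGroup 3 (zpowers (⟨y, hy⟩ : K)) := IsPGroup.of_card (n := 1) (by
      rw [Nat.card_zpowers, ← Subgroup.orderOf_coe, pow_one]; exact hyo)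
    obtain ⟨Q, hQ⟩ := hp.exists_le_sylow
    obtain ⟨k, hk⟩ := MulAction.exists_smul_eq K Q (P.subtype hPK)
    have hm : (k : G) * y * (k : G)⁻¹ ∈ P := by
      have h1 : k * ⟨y, hy⟩ * k⁻¹ ∈ ((k • Q : Sylow 3 K) : Subgroup K) := by
        rw [Sylow.coe_subgroup_smul]
        exact Subgroup.smul_mem_pointwise_smul _ (MulAut.conj k) _ (hQ (mem_zpowers _))
      rw [hk] at h1
      exact h1
    have h1 := hall _ hm ((orderOf_conj _ _).trans hyo)
    rw [fixedBy_conj, smul_eq_iff_eq_inv_smul] at h1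
    rw [h1]
    exact mem_stabilizer_iff.mp (K.inv_mem k.2)
  refine ⟨K, stable_proper hT (by omega), ?_, fun g hg hd => ?_⟩
  · exact (P.dvd_card_of_dvd_card h3).trans (card_dvd_of_le hPK)
  · obtain ⟨⟨y, hyK, hyg⟩, hy⟩ := exists_prime_orderOf_dvd_card' 3 hd
    rw [← Subgroup.orderOf_coe] at hy
    obtain ⟨u, hu, rfl⟩ := hyg
    have h1 : fixedBy Ω (g * u * g⁻¹) = T := hfixK _ hyK hy
    have h2 : orderOf (g * u * g⁻¹) = 3 := hy
    rw [orderOf_conj] at h2
    rw [fixedBy_conj, hfixK u hu h2] at h1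
    exact hg h1

section main

variable [IsSimpleGroup G] [IsPretransitive G Ω]
variable (hna : ¬ IsMulCommutative G) (h : OddFix G Ω) (hn : 4 < Nat.card Ω) (P : Sylow 3 G)
  {a₀ : Ω} (h3 : 3 ∣ Nat.card (stabilizer G a₀))
include hna h hn h3

omit hna hn h3 [IsSimpleGroup G] [IsPretransitive G Ω] in
theorem fix_cases {y : G} (hy : y ∈ P) (hy1 : y ≠ 1) :
    (fixedBy Ω y).ncard ≤ 4 ∧ (fixedBy Ω y).ncard % 3 = Nat.card Ω % 3 := by
  obtain ⟨k, hk⟩ := mem_sylow_pow P hy
  refine ⟨?_, fix_mod_three hk⟩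
  rw [← Nat.card_coe_set_eq]; exact h.fix y hy1

omit hna h hn h3 [Finite Ω] [IsSimpleGroup G] [IsPretransitive G Ω] in
/-- A 3-subgroup stabilising at most four points has image of order at most three. -/
theorem card_le_three_mul (U : Subgroup G) (hU : IsPGroup 3 U) {T : Set Ω} [Finite T] (hT : T.ncard ≤ 4)
    (hst : ∀ u ∈ U, u • T = T) :
    Nat.card U ≤ 3 * Nat.card (U ⊓ fixingSubgroup G T : Subgroup G) := by
  classical
  have : Fact (Nat.Prime 3) := ⟨Nat.prime_three⟩
  let ρ : U →* Equiv.Perm T :=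
    { toFun := fun u => ((toPermHom G Ω) (u : G)).subtypePerm fun b => by
        show (u : G) • b ∈ T ↔ b ∈ T
        conv_lhs => rw [← hst u u.2]
        exact Set.smul_mem_smul_set_iff
      map_one' := by ext b; simp
      map_mul' := fun a b => Equiv.ext fun c => Subtype.ext (show ((a * b : U) : G) • (c : Ω) = (a : G) • (b : G) • (c : Ω) by rw [Subgroup.coe_mul, mul_smul]) }
  have hval : ∀ (u : U) (b : T), ((ρ u b : T) : Ω) = (u : G) • (b : Ω) := fun u b => rfl
  have hker : ∀ u : U, ρ u = 1 → (u : G) ∈ U ⊓ fixingSubgroup G T := fun u hu =>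
    Subgroup.mem_inf.mpr ⟨u.2, (mem_fixingSubgroup_iff G).mpr fun b hb => by
      rw [← hval u ⟨b, hb⟩, hu]; rfl⟩
  have h1 := ρ.ker.card_mul_index
  rw [index_ker] at h1
  have h8 : Nat.card ρ.range ≤ 3 := by
    obtain ⟨k, hk⟩ := (hU.of_surjective ρ.rangeRestrict ρ.rangeRestrict_surjective).exists_card_eq
    have hd := card_subgroup_dvd_card ρ.range
    rw [Nat.card_perm, Nat.card_coe_set_eq, hk] at hd
    have hd' := hd.trans (Nat.factorial_dvd_factorial hT)
    rw [show Nat.factorial 4 = 3 ^ 1 * 8 from rfl] at hd'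
    rw [hk]
    exact Nat.le_of_dvd (by norm_num)
      ((Nat.Coprime.pow_left k (by norm_num : Nat.Coprime 3 8)).dvd_of_dvd_mul_right hd')
  have h2 : Nat.card ρ.ker ≤ Nat.card (U ⊓ fixingSubgroup G T : Subgroup G) := by
    refine Nat.card_le_card_of_injective (fun u : ρ.ker => (⟨(u : U), hker u u.2⟩ : (U ⊓ fixingSubgroup G T : Subgroup G)))
      fun a b e => ?_
    exact Subtype.ext (Subtype.ext (congrArg (Subtype.val : (U ⊓ fixingSubgroup G T : Subgroup G) → G) e))
  rw [← h1, mul_comm 3]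
  exact Nat.mul_le_mul h2 h8

omit hna h hn h3 [Finite G] [Finite Ω] [IsSimpleGroup G] [IsPretransitive G Ω] in
theorem stable_of_commute {x s : G} (h' : s * x = x * s) : s • fixedBy Ω x = fixedBy Ω x := by
  rw [← fixedBy_conj, h', mul_inv_cancel_right]

omit hna hn h3 [IsSimpleGroup G] [IsPretransitive G Ω] in
/-- Strictly inside a fixed set of a 3-element, the remaining count is the smaller one. -/
theorem fix_eq_or (r : ℕ) (hr : Nat.card Ω % 3 = r) (hr1 : r ≤ 1) {y : G} (hy : y ∈ P) (hy1 : y ≠ 1) :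
    (fixedBy Ω y).ncard = r ∨ (fixedBy Ω y).ncard = r + 3 := by
  obtain ⟨h4, hm⟩ := fix_cases h P hy hy1
  omega

/-- The data of the obstruction: a big element with centraliser of order nine in `P`. -/
structure NineData (P : Sylow 3 G) (Ω : Type*) [MulAction G Ω] (r : ℕ) (x z : G) : Prop where
  xP : x ∈ P
  zP : z ∈ P
  xo : orderOf x = 3
  zo : orderOf z = 3
  cen : ∀ s ∈ P, s * z = z * s
  big : (fixedBy Ω x).ncard = r + 3
  moves : ¬ fixedBy Ω x ⊆ fixedBy Ω z
  indep : z ∉ zpowers x
  card : Nat.card ↥((P : Subgroup G) ⊓ centralizer ({x} : Set G)) = 9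
  conjs : ∀ c : G, c * z = z * c → c * x * c⁻¹ ∈ P →
    Nat.card ↥((P : Subgroup G) ⊓ centralizer ({c * x * c⁻¹} : Set G)) ≤ 9

omit h hn h3 in
/-- Fusion preserves the classes modulo `W`: contradiction by transfer. -/
theorem false_of_preserved {W : Subgroup G} (hW : ∀ s ∈ P, ∀ w ∈ W, s * w * s⁻¹ ∈ W)
    (hidx : ∀ a ∈ P, a ∉ W → ∀ b ∈ P, b ∉ W → a⁻¹ * b ∈ W ∨ a * b ∈ W)
    (hcube : ∀ a ∈ P, a * a ∈ W → a ∈ W)
    (hpres : ∀ y ∈ P, ∀ g : G, g * y * g⁻¹ ∈ P → y⁻¹ * (g * y * g⁻¹) ∈ W)
    {y : G} (hy : y ∈ P) (hyW : y ∉ W) : False := by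
  have : Fact (Nat.Prime 3) := ⟨Nat.prime_three⟩
  set V : Subgroup (P : Subgroup G) := W.subgroupOf P
  have hVn : V.Normal := ⟨fun w hw s => hW s s.2 w hw⟩
  have hcomm : ∀ a b : (P : Subgroup G) ⧸ V, a * b = b * a := by
    intro a b
    obtain ⟨u, rfl⟩ := QuotientGroup.mk'_surjective V a
    obtain ⟨v, rfl⟩ := QuotientGroup.mk'_surjective V b
    have hone : ∀ w : (P : Subgroup G), (w : G) ∈ W → QuotientGroup.mk' V w = 1 := fun w hw =>
      (QuotientGroup.eq_one_iff w).mpr hw
    by_cases hu : (u : G) ∈ W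
    · rw [hone u hu, one_mul, mul_one]
    by_cases hv : (v : G) ∈ W
    · rw [hone v hv, one_mul, mul_one]
    rcases hidx u u.2 hu v v.2 hv with h1 | h1
    · have h2 : QuotientGroup.mk' V u = QuotientGroup.mk' V v := QuotientGroup.eq.mpr h1
      rw [h2]
    · have h2 : QuotientGroup.mk' V u * QuotientGroup.mk' V v = 1 := by rw [← map_mul]; exact hone _ h1
      rw [h2, mul_eq_one_comm.mp h2]
  letI : CommGroup ((P : Subgroup G) ⧸ V) :=
    { (inferInstance : Group ((P : Subgroup G) ⧸ V)) with mul_comm := hcomm }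
  set φ : (P : Subgroup G) →* (P : Subgroup G) ⧸ V := QuotientGroup.mk' V
  have key : ∀ (k : ℕ) (a : G) (hm : a * y ^ k * a⁻¹ ∈ (P : Subgroup G)),
      φ ⟨a * y ^ k * a⁻¹, hm⟩ = φ ⟨y, hy⟩ ^ k := by
    intro k a hm
    rw [← map_pow]
    refine (QuotientGroup.eq (s := V)).mpr ?_
    show (a * y ^ k * a⁻¹)⁻¹ * y ^ k ∈ W
    have h1 := hpres _ (pow_mem hy k) a hm
    have h2 := W.inv_mem h1
    rwa [mul_inv_rev, inv_inv] at h2
  have h1 := Cfsg.Agent.TwoFusion.transfer_eq_pow_of_controlled φ ⟨y, hy⟩ key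
  rw [transfer_eq_one hna] at h1
  obtain ⟨k, hk⟩ := mem_sylow_pow P hy
  have h2 : φ ⟨y, hy⟩ ^ 3 ^ k = 1 := by
    rw [← map_pow, show (⟨y, hy⟩ : (P : Subgroup G)) ^ 3 ^ k = 1 from Subtype.ext hk, map_one]
  have h3 : φ ⟨y, hy⟩ = 1 := Cfsg.Agent.TwoFusion.eq_one_of_pow_eq_one_of_coprime h1.symm h2
    ((Nat.Coprime.pow_left k ((Nat.prime_three.coprime_iff_not_dvd).mpr P.not_dvd_index)).symm)
  exact hyW ((QuotientGroup.eq_one_iff (N := V) ⟨y, hy⟩).mp h3)

omit hna h hn h3 [Finite Ω] [IsSimpleGroup G] [IsPretransitive G Ω] in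
/-- A pair of independent commuting elements of order three inside a subgroup. -/
theorem nine_le_card {x z : G} (hx : orderOf x = 3) (hz : orderOf z = 3) (hc : x * z = z * x) (hi : z ∉ zpowers x)
    {U : Subgroup G} (hxU : x ∈ U) (hzU : z ∈ U) : 9 ≤ Nat.card U := by
  have hinj : Function.Injective (fun p : zpowers x × zpowers z =>
      (⟨(p.1 : G) * p.2, mul_mem (zpowers_le.mpr hxU p.1.2) (zpowers_le.mpr hzU p.2.2)⟩ : U)) := by
    rintro ⟨a, b⟩ ⟨a', b'⟩ e
    have e' : (a : G) * b = a' * b' := congrArg Subtype.val e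
    have h1 : (a' : G)⁻¹ * a = b' * (b : G)⁻¹ := by rw [eq_mul_inv_iff_mul_eq, mul_assoc, e', inv_mul_cancel_left]
    have h2 : (b' : G) * (b : G)⁻¹ ∈ zpowers x ⊓ zpowers z :=
      Subgroup.mem_inf.mpr ⟨h1 ▸ mul_mem (inv_mem a'.2) a.2, mul_mem b'.2 (inv_mem b.2)⟩
    have h3 : zpowers x ⊓ zpowers z = ⊥ := by
      by_contra hne
      have hle : zpowers x ⊓ zpowers z ≤ zpowers z := inf_le_right
      have : Fact (Nat.Prime (Nat.card (zpowers z))) := ⟨by rw [Nat.card_zpowers, hz]; exact Nat.prime_three⟩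
      have h4 := ((zpowers x ⊓ zpowers z).subgroupOf (zpowers z)).eq_bot_or_eq_top_of_prime_card
      rcases h4 with h5 | h5
      · rw [subgroupOf_eq_bot, disjoint_iff, inf_assoc, inf_idem] at h5; exact hne h5
      · rw [subgroupOf_eq_top] at h5
        exact hi (h5 (mem_zpowers z)).1
    rw [h3, mem_bot, mul_inv_eq_one] at h2
    rw [h2] at e'
    exact Prod.ext (Subtype.ext (mul_right_cancel e')) (Subtype.ext h2.symm)
  have h1 := Nat.card_le_card_of_injective _ hinj
  rwa [Nat.card_prod, Nat.card_zpowers, Nat.card_zpowers, hx, hz] at h1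

omit hna h hn h3 [Finite Ω] [IsSimpleGroup G] [IsPretransitive G Ω] in
theorem pow_three_le {U : Subgroup G} (hU : IsPGroup 3 U) {n : ℕ} (h' : Nat.card U < 3 ^ (n + 1)) :
    Nat.card U ≤ 3 ^ n := by
  have : Fact (Nat.Prime 3) := ⟨Nat.prime_three⟩
  obtain ⟨k, hk⟩ := hU.exists_card_eq
  rw [hk] at h' ⊢
  have := (Nat.pow_lt_pow_iff_right (show 1 < 3 by norm_num)).mp h'
  exact Nat.pow_le_pow_right (by norm_num) (by omega)

omit hna hn h3 [IsSimpleGroup G] [IsPretransitive G Ω] in
/-- A non-identity element of the pointwise stabiliser of a big fixed set fixes exactly that set. -/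
theorem pointwise_fix (r : ℕ) (hr : Nat.card Ω % 3 = r) (hr1 : r ≤ 1) {T : Set Ω} (hT : T.ncard = r + 3)
    {w : G} (hwP : w ∈ P) (hw : w ∈ fixingSubgroup G T) (hw1 : w ≠ 1) : fixedBy Ω w = T := by
  have hsub : T ⊆ fixedBy Ω w := fun b hb => (mem_fixingSubgroup_iff G).mp hw b hb
  have h1 := Set.ncard_le_ncard hsub (Set.toFinite _)
  rcases fix_eq_or h P r hr hr1 hwP hw1 with h2 | h2
  · omega
  · exact (Set.eq_of_subset_of_ncard_le hsub (by omega) (Set.toFinite _)).symm

omit hna h hn h3 [Finite Ω] [IsSimpleGroup G] [IsPretransitive G Ω] in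
/-- The orbit bound. -/
theorem card_le_orbit_three (U : Subgroup G) (b : Ω) (T : Set Ω) [Finite T] (hT : ∀ u ∈ U, u • b ∈ T)
    (hfree : ∀ u ∈ U, u • b = b → u = 1) : Nat.card U ≤ T.ncard := by
  rw [← Nat.card_coe_set_eq]
  refine Nat.card_le_card_of_injective (fun u : U => (⟨(u : G) • b, hT u u.2⟩ : T)) fun u v e => ?_
  have e' : (u : G) • b = (v : G) • b := congrArg Subtype.val e
  have h1 := hfree _ (mul_mem (inv_mem u.2) v.2) (by rw [mul_smul, ← e', inv_smul_smul])
  exact Subtype.ext (inv_mul_eq_one.mp h1)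

/-- Either a strongly 3-embedded subgroup, or the data. -/
theorem three_dichotomy (r : ℕ) (hr : Nat.card Ω % 3 = r) (hr1 : r ≤ 1) :
    StrongThree G ∨ ∃ x z : G, NineData P Ω r x z := by
  have hp3 : Fact (Nat.Prime 3) := ⟨Nat.prime_three⟩
  have h3G : 3 ∣ Nat.card G := h3.trans (card_subgroup_dvd_card _)
  -- a big element in `P`
  by_cases hbig : ∃ w ∈ P, orderOf w = 3 ∧ (fixedBy Ω w).ncard = r + 3
  swap
  · -- then `n ≡ 1` and `P` fixes a single point
    push_neg at hbig
    have hne : r = 1 := by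
      by_contra hne
      obtain ⟨⟨y, hy⟩, hyo⟩ := exists_prime_orderOf_dvd_card' 3 h3
      rw [← Subgroup.orderOf_coe] at hyo
      obtain ⟨g, hg⟩ := exists_mem_sylow P hyo
      have h1 := hbig _ hg ((orderOf_conj g y).trans hyo)
      have h2 : (fixedBy Ω (g * y * g⁻¹)).Nonempty := ⟨g • a₀, by
        rw [mem_fixedBy, smul_smul, inv_mul_cancel_right, mul_smul, show y • a₀ = a₀ from hy]⟩
      have hy1 : g * y * g⁻¹ ≠ 1 := fun e => by
        have := (orderOf_conj g y).trans hyo
        rw [e, orderOf_one] at this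
        omega
      rcases fix_eq_or h P r hr hr1 hg hy1 with h3' | h3'
      · have h2' : 0 < r := h3' ▸ (Set.ncard_pos (Set.toFinite (fixedBy Ω (g * y * g⁻¹)))).mpr h2
        omega
      · exact h1 h3'
    subst hne
    have hall : ∀ y ∈ P, orderOf y = 3 → (fixedBy Ω y).ncard = 1 := fun y hy hyo =>
      (fix_eq_or h P 1 hr le_rfl hy (fun e => by rw [e, orderOf_one] at hyo; omega)).resolve_right (hbig y hy hyo)
    -- `P` fixes a point
    have hmod := P.2.card_modEq_card_fixedPoints Ω
    have hne : (fixedPoints (P : Subgroup G) Ω).Nonempty := by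
      rw [← Set.ncard_pos, ← Nat.card_coe_set_eq]
      unfold Nat.ModEq at hmod
      omega
    obtain ⟨a, ha⟩ := hne
    refine Or.inl (strongThree hn P (T := {a}) ⟨a, rfl⟩ (by simp) (fun s hs => by
      rw [Set.smul_set_singleton, show s • a = a from ha ⟨s, hs⟩]) h3G fun y hy hyo => ?_)
    obtain ⟨b, hb⟩ := Set.ncard_eq_one.mp (hall y hy hyo)
    have : a ∈ fixedBy Ω y := ha ⟨y, hy⟩
    rw [hb] at this ⊢
    rw [show a = b from this]
  by_cases hA : ∃ z ∈ P, orderOf z = 3 ∧ (fixedBy Ω z).ncard = r + 3 ∧ ∀ s ∈ P, s * z = z * s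
  · obtain ⟨z, hzP, hzo, hzbig, hzc⟩ := hA
    set Δ := fixedBy Ω z with hΔ
    have hinv : ∀ s ∈ P, s • Δ = Δ := fun s hs => stable_of_commute (hzc s hs)
    set W := (P : Subgroup G) ⊓ fixingSubgroup G Δ with hW
    have hΔ4 : Δ.ncard ≤ 4 := by omega
    have hPW := card_le_three_mul (P : Subgroup G) P.2 hΔ4 hinv
    by_cases hWtop : (P : Subgroup G) ≤ fixingSubgroup G Δ
    · refine Or.inl (strongThree hn P (T := Δ) (Set.nonempty_of_ncard_ne_zero (by omega)) hΔ4 hinv h3G
        fun y hy hyo => pointwise_fix h P r hr hr1 hzbig hy (hWtop hy) fun e => by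
          rw [e, orderOf_one] at hyo; omega)
    by_cases hA1 : ∀ x ∈ P, orderOf x = 3 → (fixedBy Ω x).ncard = r + 3 → fixedBy Ω x = Δ
    · -- fusion is controlled modulo `W`
      exfalso
      have hfW : ∀ y ∈ P, y ≠ 1 → (y ∈ W ↔ (fixedBy Ω y).ncard = r + 3) := by
        intro y hy hy1
        refine ⟨fun hm => by rw [pointwise_fix h P r hr hr1 hzbig hy hm.2 hy1]; exact hzbig, fun hb => ?_⟩
        refine Subgroup.mem_inf.mpr ⟨hy, (mem_fixingSubgroup_iff G).mpr fun b hb' => ?_⟩
        obtain ⟨k, hk⟩ := mem_sylow_pow P hy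
        obtain ⟨j, -, hj⟩ := (Nat.dvd_prime_pow Nat.prime_three).mp (orderOf_dvd_of_pow_eq_one hk)
        have hj0 : j ≠ 0 := fun e => hy1 (orderOf_eq_one_iff.mp (by rw [hj, e, pow_zero]))
        set y' := y ^ 3 ^ (j - 1)
        have hy'P : y' ∈ P := pow_mem hy _
        have hy'o : orderOf y' = 3 := by
          rw [orderOf_pow, hj, Nat.gcd_eq_right (pow_dvd_pow 3 (by omega)), Nat.pow_div (by omega) (by norm_num),
            show j - (j - 1) = 1 by omega, pow_one]
        have hy'1 : y' ≠ 1 := fun e => by rw [e, orderOf_one] at hy'o; omega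
        have hsub : fixedBy Ω y ⊆ fixedBy Ω y' := fun c hc =>
          smul_eq_of_mem_zpowers (pow_mem (mem_zpowers y) _) hc
        have h1 := Set.ncard_le_ncard hsub (Set.toFinite _)
        have h2 := fix_eq_or h P r hr hr1 hy'P hy'1
        have h4 : fixedBy Ω y = fixedBy Ω y' :=
          Set.eq_of_subset_of_ncard_le hsub (by omega) (Set.toFinite _)
        have h5 : fixedBy Ω y = Δ := h4.trans (hA1 y' hy'P hy'o (by omega))
        exact h5.symm.subset hb'
      have hWle : W ≤ (P : Subgroup G) := inf_le_left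
      have hidx' : (W.subgroupOf (P : Subgroup G)).index = 3 := by
        have h1 := (W.subgroupOf (P : Subgroup G)).card_mul_index
        rw [Nat.card_congr (subgroupOfEquivOfLe hWle).toEquiv] at h1
        have h2 : (W.subgroupOf (P : Subgroup G)).index ≠ 1 := fun e => hWtop fun s hs =>
          ((subgroupOf_eq_top.mp (index_eq_one.mp e)) hs).2
        obtain ⟨k, hk⟩ := (P.2.index (W.subgroupOf (P : Subgroup G)))
        have h4 : 0 < Nat.card W := Nat.card_pos
        have h5 : (W.subgroupOf (P : Subgroup G)).index ≤ 3 :=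
          Nat.le_of_mul_le_mul_left (by rw [h1, mul_comm]; exact hPW) h4
        rw [hk] at h2 h5 ⊢
        rcases k with _ | _ | k
        · simp at h2
        · norm_num
        · exfalso
          have : 3 ^ 2 ≤ 3 ^ (k + 1 + 1) := Nat.pow_le_pow_right (by norm_num) (by omega)
          omega
      have hWn : ∀ s ∈ P, ∀ w ∈ W, s * w * s⁻¹ ∈ W := fun s hs w hw => by
        refine Subgroup.mem_inf.mpr ⟨mul_mem (mul_mem hs hw.1) (inv_mem hs), (mem_fixingSubgroup_iff G).mpr
          fun b hb => ?_⟩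
        have hb' : s⁻¹ • b ∈ Δ := by rw [← hinv _ (inv_mem hs)]; exact Set.smul_mem_smul_set hb
        rw [mul_smul, mul_smul, (mem_fixingSubgroup_iff G).mp hw.2 _ hb', smul_inv_smul]
      set V := W.subgroupOf (P : Subgroup G)
      have hVn : V.Normal := ⟨fun w hw s => hWn s s.2 w hw⟩
      have hQ3 : Nat.card ((P : Subgroup G) ⧸ V) = 3 := by rw [← index_eq_card]; exact hidx'
      have hidx : ∀ a ∈ P, a ∉ W → ∀ b ∈ P, b ∉ W → a⁻¹ * b ∈ W ∨ a * b ∈ W := by
        intro a ha haW b hb hbW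
        set qa := QuotientGroup.mk' V ⟨a, ha⟩ with hqa
        set qb := QuotientGroup.mk' V ⟨b, hb⟩ with hqb
        have ha1 : qa ≠ 1 := fun e => haW ((QuotientGroup.eq_one_iff (N := V) ⟨a, ha⟩).mp e)
        have hb1 : qb ≠ 1 := fun e => hbW ((QuotientGroup.eq_one_iff (N := V) ⟨b, hb⟩).mp e)
        have hcube : qa * qa * qa = 1 := by
          have h1 := pow_card_eq_one' (x := qa)
          rw [hQ3, pow_succ, pow_two] at h1
          exact h1
        by_contra hne
        push_neg at hne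
        have hne1 : qa ≠ qb := fun e => hne.1 ((QuotientGroup.eq (s := V) (a := ⟨a, ha⟩) (b := ⟨b, hb⟩)).mp e)
        have hne2 : qa * qb ≠ 1 := fun e => hne.2 ((QuotientGroup.eq_one_iff (N := V) (⟨a * b, mul_mem ha hb⟩ : (P : Subgroup G))).mp e)
        classical
        have hsub : ({1, qa, qa * qa, qb} : Set _).ncard ≤ Nat.card ((P : Subgroup G) ⧸ V) := by
          rw [← Set.ncard_univ]; exact Set.ncard_le_ncard (Set.subset_univ _) (Set.toFinite _)
        have hqaa : qa * qa ≠ 1 := fun e => ha1 (by rw [e, one_mul] at hcube; exact hcube)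
        rw [hQ3, Set.ncard_eq_four.mpr ⟨1, qa, qa * qa, qb, ha1.symm, hqaa.symm, hb1.symm,
          fun e => ha1 (mul_left_cancel (a := qa) (by rw [mul_one]; exact e.symm)), hne1,
          fun e => hne2 (by rw [← e, ← mul_assoc]; exact hcube), rfl⟩] at hsub
        omega
      have hpres : ∀ y ∈ P, ∀ g : G, g * y * g⁻¹ ∈ P → y⁻¹ * (g * y * g⁻¹) ∈ W := by
        intro y hy g hg
        by_cases hy1 : y = 1
        · rw [hy1, mul_one, mul_inv_cancel, mul_one, inv_one]; exact one_mem _
        have hg1 : g * y * g⁻¹ ≠ 1 := fun e => hy1 (conj_eq_one_iff.mp e)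
        have hcard : (fixedBy Ω (g * y * g⁻¹)).ncard = (fixedBy Ω y).ncard := by
          rw [fixedBy_conj, Set.ncard_smul_set]
        by_cases hyW : y ∈ W
        · refine mul_mem (inv_mem hyW) ((hfW _ hg hg1).mpr ?_)
          rw [hcard]; exact (hfW y hy hy1).mp hyW
        have hy'W : g * y * g⁻¹ ∉ W := fun hm => hyW ((hfW y hy hy1).mpr (by
          rw [← hcard]; exact (hfW _ hg hg1).mp hm))
        refine (hidx y hy hyW _ hg hy'W).resolve_right fun hinvW => ?_
        -- a conjugating element stabilising `Δ`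
        obtain ⟨k₀, hk₀Δ, hk₀⟩ : ∃ k₀ : G, k₀ • Δ = Δ ∧ k₀ * y * k₀⁻¹ = g * y * g⁻¹ := by
          set y' := g * y * g⁻¹ with hy'
          set C := centralizer ({y'} : Set G)
          have hzC : z ∈ C := mem_centralizer_singleton_iff.mpr (hzc _ hg).symm
          have hgzC : g * z * g⁻¹ ∈ C := mem_centralizer_singleton_iff.mpr (by
            calc g * z * g⁻¹ * y' = g * (z * y) * g⁻¹ := by rw [hy']; group
              _ = y' * (g * z * g⁻¹) := by rw [← hzc y hy, hy']; group)
          obtain ⟨R, hR⟩ := (show IsPGroup 3 (zpowers (⟨z, hzC⟩ : C)) from IsPGroup.of_card (n := 1) (by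
            rw [Nat.card_zpowers, ← Subgroup.orderOf_coe, pow_one]; exact hzo)).exists_le_sylow
          obtain ⟨R', hR'⟩ := (show IsPGroup 3 (zpowers (⟨g * z * g⁻¹, hgzC⟩ : C)) from
            IsPGroup.of_card (n := 1) (by
              rw [Nat.card_zpowers, ← Subgroup.orderOf_coe, pow_one]
              exact (orderOf_conj g z).trans hzo)).exists_le_sylow
          obtain ⟨c, hc⟩ := MulAction.exists_smul_eq C R' R
          have hm : c * ⟨g * z * g⁻¹, hgzC⟩ * c⁻¹ ∈ (R : Subgroup C) := by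
            rw [← hc, Sylow.coe_subgroup_smul]
            exact Subgroup.smul_mem_pointwise_smul _ (MulAut.conj c) _ (hR' (mem_zpowers _))
          obtain ⟨P2, hP2⟩ := (R.2.map C.subtype).exists_le_sylow
          obtain ⟨e, he⟩ := MulAction.exists_smul_eq G P2 P
          have hmove : ∀ v : G, v ∈ P2 → e * v * e⁻¹ ∈ P := fun v hv => by
            have h1 : e * v * e⁻¹ ∈ ((e • P2 : Sylow 3 G) : Subgroup G) := by
              rw [Sylow.coe_subgroup_smul]
              exact Subgroup.smul_mem_pointwise_smul _ (MulAut.conj e) _ hv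
            rwa [he] at h1
          have hfix : ∀ v : G, v ∈ P2 → orderOf v = 3 → (fixedBy Ω v).ncard = r + 3 → e • fixedBy Ω v = Δ :=
            fun v hv hvo hvb => by
              rw [← fixedBy_conj]
              exact hA1 _ (hmove v hv) ((orderOf_conj e v).trans hvo)
                (by rw [fixedBy_conj, Set.ncard_smul_set]; exact hvb)
          have h1 := hfix z (hP2 ⟨_, hR (mem_zpowers _), rfl⟩) hzo hzbig
          have h2 := hfix ((c : G) * (g * z * g⁻¹) * (c : G)⁻¹) (hP2 ⟨_, hm, rfl⟩)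
            (by rw [orderOf_conj, orderOf_conj]; exact hzo)
            (by rw [fixedBy_conj, fixedBy_conj, Set.ncard_smul_set, Set.ncard_smul_set]; exact hzbig)
          rw [fixedBy_conj, fixedBy_conj] at h2
          refine ⟨(c : G) * g, ?_, ?_⟩
          · have h3' := h2.trans h1.symm
            rw [smul_left_cancel_iff, smul_smul] at h3'
            exact h3'
          · calc (c : G) * g * y * ((c : G) * g)⁻¹ = (c : G) * y' * (c : G)⁻¹ := by rw [hy']; group
              _ = y' := by rw [mem_centralizer_singleton_iff.mp c.2, mul_inv_cancel_right]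
        -- its order is odd
        have hodd : Odd (orderOf k₀) := by
          rcases Nat.le_one_iff_eq_zero_or_eq_one.mp hr1 with rfl | rfl
          · exact h.odd_of_stable (T := Δ) (by rw [hzbig]; decide) hk₀Δ
          · have hone : ∀ v ∈ P, v ≠ 1 → v ∉ W → (fixedBy Ω v).ncard = 1 := fun v hv hv1 hvW =>
              (fix_eq_or h P 1 hr le_rfl hv hv1).resolve_right fun e => hvW ((hfW v hv hv1).mpr e)
            obtain ⟨b, hb⟩ := Set.ncard_eq_one.mp (hone y hy hy1 hyW)
            obtain ⟨b', hb'⟩ := Set.ncard_eq_one.mp (hone _ hg hg1 hy'W)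
            -- `P` fixes a point, necessarily both `b` and `b'`
            have hmod := P.2.card_modEq_card_fixedPoints Ω
            have hne : (fixedPoints (P : Subgroup G) Ω).Nonempty := by
              rw [← Set.ncard_pos, ← Nat.card_coe_set_eq]
              unfold Nat.ModEq at hmod
              omega
            obtain ⟨a, ha⟩ := hne
            have hab : a = b := by
              have : a ∈ fixedBy Ω y := ha ⟨y, hy⟩
              rw [hb] at this; exact this
            have hab' : a = b' := by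
              have : a ∈ fixedBy Ω (g * y * g⁻¹) := ha ⟨_, hg⟩
              rw [hb'] at this; exact this
            have h1 : fixedBy Ω (k₀ * y * k₀⁻¹) = k₀ • fixedBy Ω y := fixedBy_conj k₀ y
            rw [hk₀, hb, hb', Set.smul_set_singleton, ← hab, ← hab'] at h1
            exact h.odd_of_fixed (Set.singleton_eq_singleton_iff.mp h1).symm
        -- inversion on `Δ`
        classical
        set K := stabilizer G Δ
        let ρ : K →* Equiv.Perm Δ :=
          { toFun := fun u => ((toPermHom G Ω) (u : G)).subtypePerm fun b => by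
              show (u : G) • b ∈ Δ ↔ b ∈ Δ
              conv_lhs => rw [← show (u : G) • Δ = Δ from u.2]
              exact Set.smul_mem_smul_set_iff
            map_one' := by ext b; simp
            map_mul' := fun a b => Equiv.ext fun c => Subtype.ext (show ((a * b : K) : G) • (c : Ω) = (a : G) • (b : G) • (c : Ω) by rw [Subgroup.coe_mul, mul_smul]) }
        have hρ : ∀ u : K, (u : G) ∈ P → (ρ u = 1 ↔ (u : G) ∈ W) := fun u hu => by
          refine ⟨fun e => Subgroup.mem_inf.mpr ⟨hu, (mem_fixingSubgroup_iff G).mpr fun b hb => ?_⟩, fun hm => ?_⟩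
          · exact congrArg Subtype.val (Equiv.congr_fun e ⟨b, hb⟩)
          · exact Equiv.ext fun b => Subtype.ext ((mem_fixingSubgroup_iff G).mp hm.2 b b.2)
        set uy : K := ⟨y, hinv y hy⟩
        set uy' : K := ⟨g * y * g⁻¹, hinv _ hg⟩
        set uk : K := ⟨k₀, hk₀Δ⟩
        have h1 : ρ uy * ρ uy' = 1 := by rw [← map_mul]; exact (hρ (uy * uy') (mul_mem hy hg)).mpr hinvW
        have h2 : ρ uk * ρ uy * (ρ uk)⁻¹ = (ρ uy)⁻¹ := by
          rw [← map_inv ρ uk, ← map_mul, ← map_mul, show uk * uy * uk⁻¹ = uy' from Subtype.ext hk₀]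
          exact (inv_eq_of_mul_eq_one_right h1).symm
        have h3' := sq_eq_one_of_inverted (m := orderOf k₀) hodd (by
          rw [← map_pow, show uk ^ orderOf k₀ = 1 from Subtype.ext (pow_orderOf_eq_one k₀), map_one]) h2
        rw [← map_mul] at h3'
        have h4 := (hρ _ (mul_mem hy hy)).mp h3'
        obtain ⟨k, hk⟩ := mem_sylow_pow P hy
        obtain ⟨j, hj⟩ : Odd (3 ^ k) := Odd.pow (by decide)
        refine hyW ?_
        rw [hj, pow_succ] at hk
        have h5 : y⁻¹ = y ^ (2 * j) := inv_eq_of_mul_eq_one_left hk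
        rw [← inv_inv y, h5, pow_mul, pow_two]
        exact W.inv_mem (W.pow_mem h4 j)
      obtain ⟨y, hy, hyW⟩ := SetLike.not_le_iff_exists.mp hWtop
      refine false_of_preserved hna P hWn hidx (fun a ha ha2 => ?_) hpres hy fun hm => hyW hm.2
      obtain ⟨k, hk⟩ := mem_sylow_pow P ha
      obtain ⟨j, hj⟩ : Odd (3 ^ k) := Odd.pow (by decide)
      rw [hj, pow_succ] at hk
      rw [← inv_inv a, inv_eq_of_mul_eq_one_left hk, pow_mul, pow_two]
      exact W.inv_mem (W.pow_mem ha2 j)
    -- a big element outside with other fixed points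
    push_neg at hA1
    obtain ⟨x, hxP, hxo, hxbig, hxΔ⟩ := hA1
    have hx1 : x ≠ 1 := fun e => by rw [e, orderOf_one] at hxo; omega
    have hgen : ∀ x : G, x ∈ P → (fixedBy Ω x).ncard = r + 3 → fixedBy Ω x ≠ Δ → x ≠ 1 →
        Nat.card ↥((P : Subgroup G) ⊓ centralizer ({x} : Set G)) ≤ 9 := by
      intro x hxP hxbig hxΔ hx1
      set U := (P : Subgroup G) ⊓ centralizer ({x} : Set G)
      obtain ⟨b, hb, hbΔ⟩ : ∃ b ∈ fixedBy Ω x, b ∉ Δ := by
        by_contra hn'
        push_neg at hn'
        exact hxΔ (Set.eq_of_subset_of_ncard_le hn' (by omega) (Set.toFinite _))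
      have hU' : Nat.card (U ⊓ fixingSubgroup G Δ : Subgroup G) ≤ 3 := by
        have h1 := card_le_orbit_three (U ⊓ fixingSubgroup G Δ) b (fixedBy Ω x)
          (fun u hu => smul_mem_fixedBy_of_commute (mem_centralizer_singleton_iff.mp hu.1.2) hb)
          (fun u hu hub => by
            by_contra hu1
            exact hbΔ ((pointwise_fix h P r hr hr1 hzbig hu.1.1 hu.2 hu1).subset hub))
        exact pow_three_le (P.2.to_le (inf_le_left.trans inf_le_left)) (n := 1)
          (h1.trans_lt (show (fixedBy Ω x).ncard < 3 ^ (1 + 1) by norm_num; omega))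
      have h1 := card_le_three_mul U (P.2.to_le inf_le_left) hΔ4 fun u hu => hinv u hu.1
      omega
    have hxW : x ∉ fixingSubgroup G Δ := fun hm => hxΔ (pointwise_fix h P r hr hr1 hzbig hxP hm hx1)
    have hzW : z ∈ fixingSubgroup G Δ := (mem_fixingSubgroup_iff G).mpr fun b hb => hb
    have hind : z ∉ zpowers x := fun hm => by
      have : Fact (Nat.Prime (Nat.card (zpowers x))) := ⟨by rw [Nat.card_zpowers, hxo]; exact Nat.prime_three⟩
      rcases ((zpowers z).subgroupOf (zpowers x)).eq_bot_or_eq_top_of_prime_card with h1 | h1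
      · rw [subgroupOf_eq_bot, disjoint_iff, inf_eq_left.mpr (zpowers_le.mpr hm), zpowers_eq_bot] at h1
        rw [h1, orderOf_one] at hzo; omega
      · rw [subgroupOf_eq_top] at h1
        exact hxW (zpowers_le.mpr hzW (h1 (mem_zpowers x)))
    refine Or.inr ⟨x, z, hxP, hzP, hxo, hzo, hzc, hxbig, fun hs => hxΔ
      (Set.eq_of_subset_of_ncard_le hs (by omega) (Set.toFinite _)), hind, le_antisymm (hgen x hxP hxbig hxΔ hx1)
      (nine_le_card hxo hzo (hzc x hxP) hind (Subgroup.mem_inf.mpr ⟨hxP, mem_centralizer_singleton_iff.mpr rfl⟩)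
        (Subgroup.mem_inf.mpr ⟨hzP, mem_centralizer_singleton_iff.mpr (hzc x hxP).symm⟩)), fun c hcz hc => ?_⟩
    refine hgen _ hc (by rw [fixedBy_conj, Set.ncard_smul_set]; exact hxbig) (fun e => hxΔ ?_)
      fun e => hx1 (conj_eq_one_iff.mp e)
    rw [fixedBy_conj, smul_eq_iff_eq_inv_smul] at e
    rw [e, inv_smul_eq_iff, stable_of_commute hcz]
  · -- no central big element
    push_neg at hA
    obtain ⟨w, hwP, hwo, hwbig⟩ := hbig
    have hgen : ∀ w : G, w ∈ P → orderOf w = 3 → (fixedBy Ω w).ncard = r + 3 →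
        Nat.card ↥((P : Subgroup G) ⊓ centralizer ({w} : Set G)) ≤ 9 := by
      intro w hwP hwo hwbig
      set Δ := fixedBy Ω w with hΔ
      set N := (P : Subgroup G) ⊓ stabilizer G Δ with hN
      set W := (P : Subgroup G) ⊓ fixingSubgroup G Δ with hW
      have hΔ4 : Δ.ncard ≤ 4 := by omega
      have hw1 : w ≠ 1 := fun e => by rw [e, orderOf_one] at hwo; omega
      have hwW : w ∈ W := Subgroup.mem_inf.mpr ⟨hwP, (mem_fixingSubgroup_iff G).mpr fun b hb => hb⟩
      have hWN : W ≤ N := fun u hu => Subgroup.mem_inf.mpr ⟨hu.1, mem_stabilizer_iff.mpr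
        (Set.eq_of_subset_of_ncard_le (by
          rintro _ ⟨b, hb, rfl⟩
          show u • b ∈ Δ
          rw [(mem_fixingSubgroup_iff G).mp hu.2 b hb]; exact hb) (by rw [Set.ncard_smul_set]))⟩
      have hN3 : Nat.card N ≤ 3 * Nat.card W :=
        (card_le_three_mul N (P.2.to_le inf_le_left) hΔ4 fun u hu => hu.2).trans (Nat.mul_le_mul_left 3
          (card_le_of_le fun u hu => Subgroup.mem_inf.mpr ⟨hu.1.1, hu.2⟩))
      -- the stabiliser is proper
      have hNP : ¬ (P : Subgroup G) ≤ stabilizer G Δ := by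
        intro hle
        set V := W.subgroupOf (P : Subgroup G)
        have hVn : V.Normal := ⟨fun u hu s => by
          refine Subgroup.mem_inf.mpr ⟨(s * u * s⁻¹).2, (mem_fixingSubgroup_iff G).mpr fun b hb => ?_⟩
          have hb' : (s : G)⁻¹ • b ∈ Δ := by
            rw [← show (s : G)⁻¹ • Δ = Δ from hle (inv_mem s.2)]; exact Set.smul_mem_smul_set hb
          show ((s : G) * u * (s : G)⁻¹) • b = b
          rw [mul_smul, mul_smul, (mem_fixingSubgroup_iff G).mp (show (u : G) ∈ fixingSubgroup G Δ from hu.2) _ hb',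
            smul_inv_smul]⟩
        have hV : V ≠ ⊥ := fun e => hw1 (by
          have h1 : (⟨w, hwP⟩ : (P : Subgroup G)) ∈ V := hwW
          rw [e, mem_bot] at h1
          exact congrArg Subtype.val h1)
        have hne : V ⊓ center (P : Subgroup G) ≠ ⊥ := by
          intro e
          have : Nontrivial V := (Subgroup.nontrivial_iff_ne_bot V).mpr hV
          have hC : IsPGroup 3 (ConjAct (P : Subgroup G)) := P.2.of_equiv ConjAct.toConjAct
          have hdvd : 3 ∣ Nat.card V := by
            obtain ⟨k, hk⟩ := (P.2.to_subgroup V).exists_card_eq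
            rw [hk]
            refine dvd_pow_self 3 fun h0 => ?_
            rw [h0, pow_zero] at hk
            exact hV (V.eq_bot_of_card_eq hk)
          obtain ⟨b, hb, hne⟩ := hC.exists_fixed_point_of_prime_dvd_card_of_fixed_point V hdvd (a := 1) (fun g => smul_one g)
          have hb' : (b : (P : Subgroup G)) ∈ V ⊓ center (P : Subgroup G) := by
            refine ⟨b.2, mem_center_iff.mpr fun g => ?_⟩
            have h1 := congrArg Subtype.val (hb (ConjAct.toConjAct g))
            rw [ConjAct.Subgroup.val_conj_smul, ConjAct.smul_def, ConjAct.ofConjAct_toConjAct] at h1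
            exact mul_inv_eq_iff_eq_mul.mp h1
          rw [e, mem_bot] at hb'
          exact hne (Subtype.ext hb'.symm)
        obtain ⟨d, hd, hd1⟩ := (bot_or_exists_ne_one _).resolve_left hne
        obtain ⟨k, hk⟩ := IsPGroup.iff_orderOf.mp P.2 d
        have hk0 : k ≠ 0 := fun e => hd1 (orderOf_eq_one_iff.mp (by rw [hk, e, pow_zero]))
        set d' := d ^ 3 ^ (k - 1)
        have hd'o : orderOf d' = 3 := by
          rw [orderOf_pow, hk, Nat.gcd_eq_right (pow_dvd_pow 3 (by omega)), Nat.pow_div (by omega) (by norm_num),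
            show k - (k - 1) = 1 by omega, pow_one]
        have hd'V : d' ∈ V ⊓ center (P : Subgroup G) := pow_mem hd _
        have hd'1 : (d' : G) ≠ 1 := fun e => by
          have : orderOf (d' : G) = 1 := by rw [e, orderOf_one]
          rw [Subgroup.orderOf_coe] at this
          omega
        obtain ⟨s, hs, hsd⟩ := hA (d' : G) d'.2 (by rw [Subgroup.orderOf_coe]; exact hd'o)
          (by rw [pointwise_fix h P r hr hr1 hwbig d'.2 hd'V.1.2 hd'1]; exact hwbig)
        exact hsd (congrArg Subtype.val (mem_center_iff.mp hd'V.2 ⟨s, hs⟩))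
      have hlt : N.subgroupOf (P : Subgroup G) < ⊤ := lt_top_iff_ne_top.mpr fun e => hNP fun s hs =>
        ((subgroupOf_eq_top.mp e) hs).2
      haveI := P.2.isNilpotent
      obtain ⟨s, hsN, hs⟩ := SetLike.exists_of_lt ((Group.normalizerCondition_of_isNilpotent (G := (P : Subgroup G))) _ hlt)
      have hsΔ : (s : G) • Δ ≠ Δ := fun e => hs (Subgroup.mem_inf.mpr ⟨s.2, e⟩)
      have hnorm : ∀ u ∈ N, (s : G) * u * (s : G)⁻¹ ∈ N := fun u hu => by
        have := (mem_normalizer_iff.mp hsN ⟨u, hu.1⟩).mp hu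
        exact this
      -- the conjugate of `W` meets `W` trivially
      have hW3 : Nat.card W ≤ 3 := by
        set W' := W.map (MulAut.conj (s : G)).toMonoidHom
        have hW'N : W' ≤ N := by
          rintro _ ⟨u, hu, rfl⟩
          exact hnorm u (hWN hu)
        have hint : ∀ v ∈ W', v ∈ fixingSubgroup G Δ → v = 1 := by
          rintro _ ⟨u, hu, rfl⟩ hv
          have e : (MulAut.conj (s : G)).toMonoidHom u = (s : G) * u * (s : G)⁻¹ := rfl
          rw [e] at hv ⊢
          by_contra h1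
          have hu1 : u ≠ 1 := fun e' => h1 (by rw [e', mul_one, mul_inv_cancel])
          have hf := pointwise_fix h P r hr hr1 hwbig (mul_mem (mul_mem s.2 hu.1) (inv_mem s.2)) hv h1
          rw [fixedBy_conj, pointwise_fix h P r hr hr1 hwbig hu.1 hu.2 hu1] at hf
          exact hsΔ hf
        have h1 := card_le_three_mul W' (P.2.to_le (hW'N.trans inf_le_left)) hΔ4 fun u hu => (hW'N hu).2
        rw [card_map_of_injective (MulEquiv.injective _), (Subgroup.eq_bot_iff_forall (W' ⊓ fixingSubgroup G Δ)).mpr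
          (fun v hv => hint v hv.1 hv.2), card_bot, mul_one] at h1
        exact h1
      refine le_trans (card_le_of_le fun u hu => Subgroup.mem_inf.mpr ⟨hu.1,
        stable_of_commute (mem_centralizer_singleton_iff.mp hu.2)⟩) (hN3.trans (by omega))
    -- a central element of order three
    have : Nontrivial (P : Subgroup G) := ⟨⟨⟨w, hwP⟩, 1, fun e => by
      have e' : w = 1 := congrArg Subtype.val e
      rw [e', orderOf_one] at hwo; omega⟩⟩
    haveI := P.2.center_nontrivial
    obtain ⟨k, hk⟩ := (P.2.to_subgroup (center (P : Subgroup G))).exists_card_eq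
    have hk0 : k ≠ 0 := fun e => by
      rw [e, pow_zero] at hk
      have := Finite.one_lt_card (α := center (P : Subgroup G))
      omega
    obtain ⟨z, hzo⟩ := exists_prime_orderOf_dvd_card' (G := center (P : Subgroup G)) 3 (hk ▸ dvd_pow_self 3 hk0)
    have hzo' : orderOf ((z : (P : Subgroup G)) : G) = 3 := by rw [Subgroup.orderOf_coe, Subgroup.orderOf_coe]; exact hzo
    set zz : G := ((z : (P : Subgroup G)) : G)
    have hzP : zz ∈ P := (z : (P : Subgroup G)).2
    have hzc : ∀ s ∈ P, s * zz = zz * s := fun s hs =>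
      congrArg Subtype.val (mem_center_iff.mp z.2 ⟨s, hs⟩)
    have hzsmall : (fixedBy Ω zz).ncard ≠ r + 3 := fun e => by
      obtain ⟨s, hs, hsz⟩ := hA zz hzP hzo' e
      exact hsz (hzc s hs)
    have hind : zz ∉ zpowers w := fun hm => hzsmall (by
      have hsub : fixedBy Ω w ⊆ fixedBy Ω zz := fun b hb => smul_eq_of_mem_zpowers hm hb
      have h1 := Set.ncard_le_ncard hsub (Set.toFinite _)
      rcases fix_eq_or h P r hr hr1 hzP (fun e => by rw [e, orderOf_one] at hzo'; omega) with h2 | h2 <;> omega)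
    refine Or.inr ⟨w, zz, hwP, hzP, hwo, hzo', hzc, hwbig, fun hs => hzsmall ?_, hind,
      le_antisymm (hgen w hwP hwo hwbig) (nine_le_card hwo hzo' (hzc w hwP) hind
        (Subgroup.mem_inf.mpr ⟨hwP, mem_centralizer_singleton_iff.mpr rfl⟩)
        (Subgroup.mem_inf.mpr ⟨hzP, mem_centralizer_singleton_iff.mpr (hzc w hwP).symm⟩)), fun c _ hc =>
        hgen _ hc ((orderOf_conj c w).trans hwo) (by rw [fixedBy_conj, Set.ncard_smul_set]; exact hwbig)⟩
    have h1 := Set.ncard_le_ncard hs (Set.toFinite _)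
    rcases fix_eq_or h P r hr hr1 hzP (fun e => by rw [e, orderOf_one] at hzo'; omega) with h2 | h2 <;> omega

omit hn h3 [IsPretransitive G Ω] in
/-- With the data, the Sylow subgroup is elementary abelian of order nine. -/
theorem nine_data_order (r : ℕ) (hr : Nat.card Ω % 3 = r) (hr1 : r ≤ 1) {x z : G} (D : NineData P Ω r x z) :
    Nat.card P = 9 ∧ ∀ y ∈ (P : Subgroup G), y ^ 3 = 1 := by
  have hp3 : Fact (Nat.Prime 3) := ⟨Nat.prime_three⟩
  set C := (P : Subgroup G) ⊓ centralizer ({x} : Set G) with hC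
  set E := zpowers x ⊔ zpowers z with hE
  have hxz : x * z = z * x := D.cen x D.xP
  have hxC : x ∈ C := Subgroup.mem_inf.mpr ⟨D.xP, mem_centralizer_singleton_iff.mpr rfl⟩
  have hzC : z ∈ C := Subgroup.mem_inf.mpr ⟨D.zP, mem_centralizer_singleton_iff.mpr hxz.symm⟩
  have hEC : E = C := eq_of_le_of_card_ge (sup_le (zpowers_le.mpr hxC) (zpowers_le.mpr hzC))
    (D.card ▸ nine_le_card D.xo D.zo hxz D.indep (mem_sup_left (mem_zpowers x)) (mem_sup_right (mem_zpowers z)))
  have hcE : ∀ u ∈ E, u * x = x * u ∧ u * z = z * u := fun u hu => by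
    rw [hEC] at hu
    exact ⟨mem_centralizer_singleton_iff.mp hu.2, D.cen u hu.1⟩
  have hdec : ∀ u ∈ E, ∃ i j : ℕ, i < 3 ∧ j < 3 ∧ u = x ^ i * z ^ j := by
    intro u hu
    have hnorm : zpowers x ≤ normalizer (zpowers z : Set G) := zpowers_le.mpr (mem_normalizer_iff.mpr fun v => by
      constructor
      · intro hv
        obtain ⟨i, rfl⟩ := mem_zpowers_iff.mp hv
        rw [((show Commute x z from hxz).zpow_right i).eq, mul_inv_cancel_right]
        exact zpow_mem (mem_zpowers z) i
      · intro hv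
        obtain ⟨i, hi⟩ := mem_zpowers_iff.mp hv
        have : v = x⁻¹ * z ^ i * x := by rw [hi]; group
        rw [this, mul_assoc, ← ((show Commute x z from hxz).zpow_right i).eq, inv_mul_cancel_left]
        exact zpow_mem (mem_zpowers z) i)
    have hu' : u ∈ ((zpowers x : Set G) * (zpowers z : Set G)) :=
      (coe_mul_of_left_le_normalizer_right _ _ hnorm).subset hu
    obtain ⟨p, hp, q, hq, rfl⟩ := hu'
    obtain ⟨i, hi⟩ := (mem_powers_iff_mem_zpowers).mpr hp
    obtain ⟨j, hj⟩ := (mem_powers_iff_mem_zpowers).mpr hq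
    refine ⟨i % 3, j % 3, Nat.mod_lt _ (by norm_num), Nat.mod_lt _ (by norm_num), ?_⟩
    rw [← hi, ← hj]
    show x ^ i * z ^ j = x ^ (i % 3) * z ^ (j % 3)
    rw [pow_eq_pow_mod i (D.xo ▸ pow_orderOf_eq_one x), pow_eq_pow_mod j (D.zo ▸ pow_orderOf_eq_one z)]
  have hx3 : x ^ 3 = 1 := D.xo ▸ pow_orderOf_eq_one x
  have hz3 : z ^ 3 = 1 := D.zo ▸ pow_orderOf_eq_one z
  by_cases h9 : Nat.card P = 9
  · refine ⟨h9, fun y hy => ?_⟩
    have hCP : C = (P : Subgroup G) := eq_of_le_of_card_ge inf_le_left (by rw [D.card]; exact h9.le)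
    obtain ⟨i, j, -, -, rfl⟩ := hdec y (hEC.trans hCP ▸ hy)
    rw [((show Commute x z from hxz).pow_pow i j).mul_pow, ← pow_mul, ← pow_mul, mul_comm i, mul_comm j, pow_mul,
      pow_mul, hx3, hz3, one_pow, one_pow, one_mul]
  exfalso
  have h27 : 27 ≤ Nat.card P := by
    obtain ⟨k, hk⟩ := P.2.exists_card_eq
    have h1 : 9 ≤ Nat.card P := D.card ▸ card_le_of_le (inf_le_left : C ≤ (P : Subgroup G))
    have h2 : 3 ≤ k := by
      by_contra h3'
      have := Nat.pow_le_pow_right (show 1 ≤ 3 by norm_num) (show k ≤ 2 by omega)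
      have := hk
      omega
    rw [hk]
    exact le_trans (by norm_num) (Nat.pow_le_pow_right (show 1 ≤ 3 by norm_num) h2)
  have hx1 : x ≠ 1 := fun e => by have := D.xo; rw [e, orderOf_one] at this; omega
  -- no inverting element normalises `E`
  have hnoinv : ∀ g : G, (∀ e ∈ E, g * e * g⁻¹ ∈ E) → g * x * g⁻¹ ≠ x⁻¹ := by
    intro g hgE hg
    have hstab : g • fixedBy Ω x = fixedBy Ω x := by
      rw [← fixedBy_conj, hg, fixedBy_inv]
    have hodd : Odd (orderOf g) := by
      rcases Nat.le_one_iff_eq_zero_or_eq_one.mp hr1 with rfl | rfl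
      · exact h.odd_of_stable (by rw [D.big]; decide) hstab
      · -- the common fixed point
        set F := fixedBy Ω x ∩ fixedBy Ω z
        have hF1 : F.ncard = 1 := by
          have hzst : z • fixedBy Ω x = fixedBy Ω x := stable_of_commute hxz.symm
          classical
          let σ : Equiv.Perm (fixedBy Ω x) := ((toPermHom G Ω) z).subtypePerm fun b => by
            show z • b ∈ fixedBy Ω x ↔ b ∈ fixedBy Ω x
            conv_lhs => rw [← hzst]
            exact Set.smul_mem_smul_set_iff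
          have hσ : σ ^ 3 ^ 1 = 1 := Equiv.ext fun b => Subtype.ext (by
            show z • z • z • (b : Ω) = b
            rw [smul_smul, smul_smul, ← pow_two, ← pow_succ, hz3, one_smul])
          have : Fintype (fixedBy Ω x) := Fintype.ofFinite _
          obtain ⟨b, hb⟩ := Equiv.Perm.exists_fixed_point_of_prime (p := 3) (n := 1)
            (by rw [← Nat.card_eq_fintype_card, Nat.card_coe_set_eq, D.big]; norm_num) hσ
          have hge : 1 ≤ F.ncard := (Set.ncard_pos (Set.toFinite _)).mpr ⟨b, b.2, congrArg Subtype.val hb⟩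
          rcases fix_eq_or h P 1 hr le_rfl D.zP (fun e => by
            have := D.zo; rw [e, orderOf_one] at this; omega) with h2 | h2
          · have h3' := Set.ncard_le_ncard (show F ⊆ fixedBy Ω z from Set.inter_subset_right) (Set.toFinite _)
            omega
          · -- `z` moves at least two points of the four
            have hlt : F.ncard < 4 := by
              rw [show (4 : ℕ) = (fixedBy Ω x).ncard from D.big.symm]
              exact Set.ncard_lt_ncard ⟨Set.inter_subset_left, fun hs => D.moves fun b hb => (hs hb).2⟩ (Set.toFinite _)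
            have hmod : F.ncard % 3 = 1 := by
              have hp : IsPGroup 3 (zpowers σ) := by
                obtain ⟨j, -, hj⟩ := (Nat.dvd_prime_pow Nat.prime_three).mp (orderOf_dvd_of_pow_eq_one hσ)
                exact IsPGroup.of_card (n := j) (by rw [Nat.card_zpowers, hj])
              have h4 := hp.card_modEq_card_fixedPoints (fixedBy Ω x)
              have h5 : Nat.card (fixedPoints (zpowers σ) (fixedBy Ω x)) = F.ncard := by
                rw [← Nat.card_coe_set_eq]
                refine Nat.card_congr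
                  { toFun := fun b => ⟨(b.1 : Ω), b.1.2, congrArg Subtype.val (b.2 ⟨σ, mem_zpowers σ⟩)⟩
                    invFun := fun b => ⟨⟨b.1, b.2.1⟩, fun u => by
                      obtain ⟨i, hi⟩ := mem_zpowers_iff.mp u.2
                      show (u : Equiv.Perm (fixedBy Ω x)) _ = _
                      rw [← hi]
                      exact Equiv.Perm.zpow_apply_eq_self_of_apply_eq_self
                        (Subtype.ext (show z • (b : Ω) = b from b.2.2)) i⟩
                    left_inv := fun b => rfl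
                    right_inv := fun b => rfl }
              rw [h5, Nat.card_coe_set_eq, D.big] at h4
              exact h4.symm
            omega
        obtain ⟨a, ha⟩ := Set.ncard_eq_one.mp hF1
        have haF : a ∈ F := ha ▸ rfl
        refine h.odd_of_fixed (b := a) ?_
        have hmem : ∀ v ∈ E, v • (g • a) = g • a := by
          intro v hv
          have hv' : g⁻¹ * v * g ∈ E := by
            obtain ⟨m, hm⟩ : ∃ m : ℕ, g⁻¹ = g ^ m := by
              refine ⟨orderOf g - 1, inv_eq_of_mul_eq_one_right ?_⟩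
              rw [← pow_succ', show orderOf g - 1 + 1 = orderOf g by have := orderOf_pos g; omega, pow_orderOf_eq_one]
            have hiter : ∀ m : ℕ, ∀ v ∈ E, g ^ m * v * (g ^ m)⁻¹ ∈ E := by
              intro m
              induction m with
              | zero => intro v hv; simpa using hv
              | succ m ih =>
                intro v hv
                rw [pow_succ', show g * g ^ m * v * (g * g ^ m)⁻¹ = g * (g ^ m * v * (g ^ m)⁻¹) * g⁻¹ by group]
                exact hgE _ (ih v hv)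
            have := hiter m v hv
            rw [← hm] at this
            simpa using this
          obtain ⟨i, j, -, -, e⟩ := hdec _ hv'
          have hfx : (g⁻¹ * v * g) • a = a := by
            rw [e, mul_smul, smul_eq_of_mem_zpowers (pow_mem (mem_zpowers z) j) haF.2,
              smul_eq_of_mem_zpowers (pow_mem (mem_zpowers x) i) haF.1]
          calc v • g • a = g • ((g⁻¹ * v * g) • a) := by simp only [mul_smul, smul_inv_smul]
            _ = g • a := by rw [hfx]
        have : g • a ∈ F := ⟨hmem x (mem_sup_left (mem_zpowers x)), hmem z (mem_sup_right (mem_zpowers z))⟩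
        rw [ha] at this
        exact this
    have := sq_eq_one_of_inverted hodd (pow_orderOf_eq_one g) hg
    refine hx1 ?_
    rw [← pow_two] at this
    rw [pow_succ, this, one_mul] at hx3
    exact hx3
  -- no subgroup of order 27 centralises `E`
  have hR : ∀ R : Subgroup G, IsPGroup 3 R → x ∈ R → (∀ u ∈ R, u * x = x * u ∧ u * z = z * u) →
      Nat.card R ≤ 9 := by
    intro R hRp hxR hRc
    have hPZ : (P : Subgroup G) ≤ centralizer ({z} : Set G) := fun u hu =>
      mem_centralizer_singleton_iff.mpr (D.cen u hu)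
    have hRZ : R ≤ centralizer ({z} : Set G) := fun u hu => mem_centralizer_singleton_iff.mpr (hRc u hu).2
    obtain ⟨Q, hQ⟩ := (hRp.of_equiv (subgroupOfEquivOfLe hRZ).symm).exists_le_sylow
    obtain ⟨c, hc⟩ := MulAction.exists_smul_eq (centralizer ({z} : Set G)) Q (P.subtype hPZ)
    have hm : ∀ u ∈ R, (c : G) * u * (c : G)⁻¹ ∈ P := fun u hu => by
      have h1 : c * ⟨u, hRZ hu⟩ * c⁻¹ ∈ ((c • Q : Sylow 3 _) : Subgroup (centralizer ({z} : Set G))) := by
        rw [Sylow.coe_subgroup_smul]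
        exact Subgroup.smul_mem_pointwise_smul _ (MulAut.conj c) _ (hQ hu)
      rw [hc] at h1
      exact h1
    refine le_trans ?_ (D.conjs c (mem_centralizer_singleton_iff.mp c.2) (hm x hxR))
    rw [Nat.card_congr (R.equivMapOfInjective (MulAut.conj (c : G)).toMonoidHom (MulAut.conj (c : G)).injective).toEquiv]
    refine card_le_of_le ?_
    rintro _ ⟨u, hu, rfl⟩
    refine Subgroup.mem_inf.mpr ⟨hm u hu, mem_centralizer_singleton_iff.mpr ?_⟩
    show (c : G) * u * (c : G)⁻¹ * ((c : G) * x * (c : G)⁻¹) = (c : G) * x * (c : G)⁻¹ * ((c : G) * u * (c : G)⁻¹)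
    calc (c : G) * u * (c : G)⁻¹ * ((c : G) * x * (c : G)⁻¹) = (c : G) * (u * x) * (c : G)⁻¹ := by group
      _ = _ := by rw [(hRc u hu).1]; group
  -- the Sylow bound of the centraliser
  have h27C : ¬ 27 ∣ Nat.card (centralizer ({x} : Set G)) := by
    intro hd
    set Cx := centralizer ({x} : Set G)
    have hECx : E ≤ Cx := fun u hu => mem_centralizer_singleton_iff.mpr (hcE u hu).1
    have hEcard : Nat.card E = 9 := by rw [hEC]; exact D.card
    have hE0 : Nat.card (E.subgroupOf Cx) = 3 ^ 2 := by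
      rw [Nat.card_congr (subgroupOfEquivOfLe hECx).toEquiv, hEcard]; norm_num
    obtain ⟨Q, hQ, hEQ⟩ := Sylow.exists_subgroup_card_pow_succ (p := 3) (n := 2) (by simpa using hd) hE0
    have hQp : IsPGroup 3 Q := IsPGroup.of_card hQ
    have hlt : (E.subgroupOf Cx).subgroupOf Q < ⊤ := lt_top_iff_ne_top.mpr fun e => by
      have := card_le_of_le (subgroupOf_eq_top.mp e)
      rw [hQ, hE0] at this
      norm_num at this
    haveI := hQp.isNilpotent
    obtain ⟨⟨⟨q, hqC⟩, hqQ⟩, hqN, hq⟩ := SetLike.exists_of_lt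
      ((Group.normalizerCondition_of_isNilpotent (G := Q)) _ hlt)
    have hqE : q ∉ E := hq
    have hqnorm : ∀ e ∈ E, q * e * q⁻¹ ∈ E := fun e he =>
      (mem_normalizer_iff.mp hqN ⟨⟨e, hECx he⟩, hEQ he⟩).mp he
    have hqx : q * x = x * q := mem_centralizer_singleton_iff.mp hqC
    have hqodd : Odd (orderOf q) := by
      obtain ⟨k, hk⟩ := IsPGroup.iff_orderOf.mp hQp ⟨⟨q, hqC⟩, hqQ⟩
      have : orderOf q = 3 ^ k := by
        rw [← hk, ← Subgroup.orderOf_coe, ← Subgroup.orderOf_coe]
      rw [this]; exact Odd.pow (by decide)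
    have hqz : q * z ≠ z * q := by
      intro hc
      set R : Subgroup G := (Q.map Cx.subtype) ⊓ centralizer ({z} : Set G)
      have hRp : IsPGroup 3 R := (hQp.map Cx.subtype).to_le inf_le_left
      have h1 := hR R hRp
        (Subgroup.mem_inf.mpr ⟨⟨⟨x, hECx (mem_sup_left (mem_zpowers x))⟩, hEQ (show x ∈ E from mem_sup_left (mem_zpowers x)), rfl⟩,
          mem_centralizer_singleton_iff.mpr hxz⟩)
        (fun u hu => by
          obtain ⟨⟨v, hv, rfl⟩, hu2⟩ := Subgroup.mem_inf.mp hu
          exact ⟨mem_centralizer_singleton_iff.mp v.2, mem_centralizer_singleton_iff.mp hu2⟩)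
      have hER : E ≤ R := fun u hu => Subgroup.mem_inf.mpr
        ⟨⟨⟨u, hECx hu⟩, hEQ hu, rfl⟩, mem_centralizer_singleton_iff.mpr (hcE u hu).2⟩
      have heq : E = R := eq_of_le_of_card_ge hER (by rw [hEcard]; exact h1)
      exact hqE (heq.symm ▸ Subgroup.mem_inf.mpr ⟨⟨⟨q, hqC⟩, hqQ, rfl⟩, mem_centralizer_singleton_iff.mpr hc⟩)
    -- `u` fixes `x` and sends `z` to `z x`
    obtain ⟨u, huE, hux, huz⟩ : ∃ u : G, (∀ e ∈ E, u * e * u⁻¹ ∈ E) ∧ u * x * u⁻¹ = x ∧ u * z * u⁻¹ = z * x := by
      have hqfx : q * x * q⁻¹ = x := by rw [hqx, mul_inv_cancel_right]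
      obtain ⟨i, j, hi, hj, e⟩ := hdec _ (hqnorm z (mem_sup_right (mem_zpowers z)))
      have hconj : ∀ a b : ℕ, q * (x ^ a * z ^ b) * q⁻¹ = x ^ a * (q * z * q⁻¹) ^ b := fun a b => by
        rw [conj_pow, show q * (x ^ a * z ^ b) * q⁻¹ = (q * x ^ a * q⁻¹) * (q * z ^ b * q⁻¹) by group,
          ← conj_pow, hqfx]
      have hcomm : Commute (q * z * q⁻¹) x := by
        rw [e]; exact (((Commute.refl x).pow_left i).mul_left ((show Commute x z from hxz).symm.pow_left j))
      interval_cases j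
      · exfalso
        rw [pow_zero, mul_one] at e
        refine D.indep ?_
        have : z = q⁻¹ * x ^ i * q := by rw [← e]; group
        rw [this, mul_assoc, ← ((show Commute q x from hqx).pow_right i).eq, inv_mul_cancel_left]
        exact pow_mem (mem_zpowers x) i
      · rw [pow_one] at e
        have e' : q * z * q⁻¹ = z * x ^ i := by rw [e, ((show Commute x z from hxz).pow_left i).eq]
        interval_cases i
        · rw [pow_zero, mul_one, mul_inv_eq_iff_eq_mul] at e'; exact absurd e' hqz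
        · exact ⟨q, hqnorm, hqfx, by rw [e', pow_one]⟩
        · refine ⟨q * q, fun v hv => ?_, ?_, ?_⟩
          · rw [show q * q * v * (q * q)⁻¹ = q * (q * v * q⁻¹) * q⁻¹ by group]; exact hqnorm _ (hqnorm v hv)
          · rw [show q * q * x * (q * q)⁻¹ = q * (q * x * q⁻¹) * q⁻¹ by group, hqfx, hqfx]
          · rw [show q * q * z * (q * q)⁻¹ = q * (q * z * q⁻¹) * q⁻¹ by group, e',
              show q * (z * x ^ 2) * q⁻¹ = q * z * q⁻¹ * (q * x * q⁻¹) ^ 2 by rw [conj_pow]; group, e', hqfx,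
              mul_assoc, ← pow_add, pow_succ, hx3, one_mul]
      · exfalso
        have hz2 : z ^ 2 = z⁻¹ := eq_inv_of_mul_eq_one_left (by rw [← pow_succ]; exact hz3)
        rw [hz2] at e
        have h2 : q * q * z * (q * q)⁻¹ = z := by
          rw [show q * q * z * (q * q)⁻¹ = q * (q * z * q⁻¹) * q⁻¹ by group, e,
            show q * (x ^ i * z⁻¹) * q⁻¹ = (q * x ^ i * q⁻¹) * (q * z * q⁻¹)⁻¹ by group, ← conj_pow, hqfx, e,
            mul_inv_rev, inv_inv, ← mul_assoc, ((show Commute x z from hxz).pow_left i).eq, mul_inv_cancel_right]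
        obtain ⟨m, hm⟩ := hqodd
        have h3' : Commute (q * q) z := mul_inv_eq_iff_eq_mul.mp h2
        have h4 : q = (q * q)⁻¹ ^ m := by
          have h5 := pow_orderOf_eq_one q
          rw [hm, pow_succ, pow_mul, pow_two] at h5
          rw [inv_pow]
          exact (inv_eq_of_mul_eq_one_right h5).symm
        exact hqz (h4 ▸ (h3'.inv_left.pow_left m).eq)
    -- `v` fixes `z` and sends `x` to `x z`
    obtain ⟨v, hvE, hvx, hvz⟩ : ∃ v : G, (∀ e ∈ E, v * e * v⁻¹ ∈ E) ∧ v * x * v⁻¹ = x * z ∧ v * z * v⁻¹ = z := by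
      have hEP : E ≤ (P : Subgroup G) := hEC.le.trans inf_le_left
      have hlt' : E.subgroupOf (P : Subgroup G) < ⊤ := lt_top_iff_ne_top.mpr fun e => by
        have := card_le_of_le (subgroupOf_eq_top.mp e)
        omega
      haveI := P.2.isNilpotent
      obtain ⟨⟨s, hsP⟩, hsN, hsE⟩ := SetLike.exists_of_lt
        ((Group.normalizerCondition_of_isNilpotent (G := (P : Subgroup G))) _ hlt')
      have hsnorm : ∀ e ∈ E, s * e * s⁻¹ ∈ E := fun e he => (mem_normalizer_iff.mp hsN ⟨e, hEP he⟩).mp he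
      have hsx : s * x ≠ x * s := fun hc => hsE (hEC.symm ▸ Subgroup.mem_inf.mpr ⟨hsP, mem_centralizer_singleton_iff.mpr hc⟩ : s ∈ E)
      have hsz : s * z * s⁻¹ = z := by rw [D.cen s hsP, mul_inv_cancel_right]
      obtain ⟨i, j, hi, hj, e⟩ := hdec _ (hsnorm x (mem_sup_left (mem_zpowers x)))
      interval_cases i
      · exfalso
        rw [pow_zero, one_mul] at e
        refine D.indep ?_
        have hx' : x = z ^ j := by
          have : x = s⁻¹ * z ^ j * s := by rw [← e]; group
          rw [this, mul_assoc, ← ((show Commute s z from D.cen s hsP).pow_right j).eq, inv_mul_cancel_left]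
        interval_cases j
        · rw [pow_zero] at hx'; exact absurd hx' hx1
        · rw [pow_one] at hx'; rw [hx']; exact mem_zpowers z
        · refine mem_zpowers_iff.mpr ⟨2, ?_⟩
          rw [hx', show (2 : ℤ) = ((2 : ℕ) : ℤ) from rfl, zpow_natCast, ← pow_mul,
            show (2 * 2 : ℕ) = 3 + 1 by norm_num, pow_succ, hz3, one_mul]
      · rw [pow_one] at e
        interval_cases j
        · rw [pow_zero, mul_one, mul_inv_eq_iff_eq_mul] at e; exact absurd e hsx
        · exact ⟨s, hsnorm, by rw [e, pow_one], hsz⟩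
        · refine ⟨s * s, fun v hv => ?_, ?_, ?_⟩
          · rw [show s * s * v * (s * s)⁻¹ = s * (s * v * s⁻¹) * s⁻¹ by group]; exact hsnorm _ (hsnorm v hv)
          · rw [show s * s * x * (s * s)⁻¹ = s * (s * x * s⁻¹) * s⁻¹ by group, e,
              show s * (x * z ^ 2) * s⁻¹ = s * x * s⁻¹ * (s * z * s⁻¹) ^ 2 by rw [conj_pow]; group, e, hsz,
              mul_assoc, ← pow_add, pow_succ, hz3, one_mul]
          · rw [show s * s * z * (s * s)⁻¹ = s * (s * z * s⁻¹) * s⁻¹ by group, hsz, hsz]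
      · exfalso
        have hx2 : x ^ 2 = x⁻¹ := eq_inv_of_mul_eq_one_left (by rw [← pow_succ]; exact hx3)
        rw [hx2] at e
        have h2 : s * s * x * (s * s)⁻¹ = x := by
          rw [show s * s * x * (s * s)⁻¹ = s * (s * x * s⁻¹) * s⁻¹ by group, e,
            show s * (x⁻¹ * z ^ j) * s⁻¹ = (s * x * s⁻¹)⁻¹ * (s * z ^ j * s⁻¹) by group, ← conj_pow, hsz, e,
            mul_inv_rev, inv_inv, mul_assoc, ((show Commute x z from hxz).pow_right j).eq, inv_mul_cancel_left]
        obtain ⟨k, hk⟩ := mem_sylow_pow P hsP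
        obtain ⟨m, hm⟩ : Odd (3 ^ k) := Odd.pow (by decide)
        have h3' : Commute (s * s) x := mul_inv_eq_iff_eq_mul.mp h2
        have h4 : s = (s * s)⁻¹ ^ m := by
          rw [hm, pow_succ, pow_mul, pow_two] at hk
          rw [inv_pow]
          exact (inv_eq_of_mul_eq_one_right hk).symm
        exact hsx (h4 ▸ (h3'.inv_left.pow_left m).eq)
    -- `(u v⁻¹ u)²` inverts
    set M := u * v⁻¹ * u
    have hviE : ∀ e ∈ E, v⁻¹ * e * v ∈ E := by
      intro e he
      set f : E → E := fun w => ⟨v * w * v⁻¹, hvE w w.2⟩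
      have hf : Function.Bijective f := Finite.injective_iff_bijective.mp fun a b hab =>
        Subtype.ext (mul_left_cancel (mul_right_cancel (congrArg Subtype.val hab : v * (a : G) * v⁻¹ = v * b * v⁻¹)))
      obtain ⟨⟨w, hw⟩, hfw⟩ := hf.2 ⟨e, he⟩
      have : v * w * v⁻¹ = e := congrArg Subtype.val hfw
      rw [← this, show v⁻¹ * (v * w * v⁻¹) * v = w by group]
      exact hw
    have hME : ∀ e ∈ E, M * e * M⁻¹ ∈ E := fun e he => by
      rw [show M * e * M⁻¹ = u * (v⁻¹ * (u * e * u⁻¹) * v) * u⁻¹ by simp only [M]; group]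
      exact huE _ (hviE _ (huE e he))
    have hvix : v⁻¹ * x * v = x * z⁻¹ := by
      have h1 : v⁻¹ * (x * z) * v = x := by rw [← hvx]; group
      have h2 : v⁻¹ * z * v = z := by
        calc v⁻¹ * z * v = v⁻¹ * (v * z * v⁻¹) * v := by rw [hvz]
          _ = z := by group
      rw [eq_mul_inv_iff_mul_eq]
      calc v⁻¹ * x * v * z = v⁻¹ * x * v * (v⁻¹ * z * v) := by rw [h2]
        _ = v⁻¹ * (x * z) * v := by group
        _ = x := h1
    have hMx : M * x * M⁻¹ = z⁻¹ := by
      calc M * x * M⁻¹ = u * (v⁻¹ * (u * x * u⁻¹) * v) * u⁻¹ := by simp only [M]; group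
        _ = u * x * u⁻¹ * (u * z * u⁻¹)⁻¹ := by
          rw [show v⁻¹ * (u * x * u⁻¹) * v = x * z⁻¹ by rw [hux, hvix]]; group
        _ = z⁻¹ := by rw [huz, mul_inv_rev, hux, mul_inv_cancel_left]
    have hMz : M * z * M⁻¹ = x := by
      have h2 : v⁻¹ * z * v = z := by
        calc v⁻¹ * z * v = v⁻¹ * (v * z * v⁻¹) * v := by rw [hvz]
          _ = z := by group
      calc M * z * M⁻¹ = u * (v⁻¹ * (u * z * u⁻¹) * v) * u⁻¹ := by simp only [M]; group
        _ = u * (v⁻¹ * z * v * (v⁻¹ * x * v)) * u⁻¹ := by rw [huz]; group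
        _ = u * (z * (x * z⁻¹)) * u⁻¹ := by rw [h2, hvix]
        _ = u * x * u⁻¹ := by rw [← mul_assoc z x, ← hxz, mul_inv_cancel_right]
        _ = x := hux
    refine hnoinv (M * M) (fun e he => ?_) ?_
    · rw [show M * M * e * (M * M)⁻¹ = M * (M * e * M⁻¹) * M⁻¹ by group]; exact hME _ (hME e he)
    · rw [show M * M * x * (M * M)⁻¹ = M * (M * x * M⁻¹) * M⁻¹ by group, hMx,
        show M * z⁻¹ * M⁻¹ = (M * z * M⁻¹)⁻¹ by group, hMz]
  -- `x` is not real
  refine false_of_small_centralizer hna P D.xP D.xo D.card h27C (fun g hg => ?_) h27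
  -- move `E^g` back inside the centraliser
  set Cx := centralizer ({x} : Set G)
  have hECx : E ≤ Cx := fun u hu => mem_centralizer_singleton_iff.mpr (hcE u hu).1
  have hgE : E.map (MulAut.conj g).toMonoidHom ≤ Cx := by
    rintro _ ⟨u, hu, rfl⟩
    refine mem_centralizer_singleton_iff.mpr ?_
    show g * u * g⁻¹ * x = x * (g * u * g⁻¹)
    have hxg : x = g * x⁻¹ * g⁻¹ := by
      rw [← inv_inj, show (g * x⁻¹ * g⁻¹)⁻¹ = g * x * g⁻¹ by group, hg]
    rw [hxg]
    have hux' : u * x⁻¹ = x⁻¹ * u := (show Commute u x from (hcE u hu).1).inv_right.eq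
    calc g * u * g⁻¹ * (g * x⁻¹ * g⁻¹) = g * (u * x⁻¹) * g⁻¹ := by group
      _ = g * x⁻¹ * g⁻¹ * (g * u * g⁻¹) := by rw [hux']; group
  have hEp : IsPGroup 3 E := IsPGroup.of_card (n := 2) (by rw [hEC, D.card]; norm_num)
  -- `E` is a Sylow subgroup of the centraliser
  have hsyl : ∀ R : Subgroup G, IsPGroup 3 R → R ≤ Cx → Nat.card R ≤ 9 := by
    intro R hRp hRC
    by_contra hlt
    refine h27C ?_
    obtain ⟨k, hk⟩ := hRp.exists_card_eq
    have hk3 : 3 ≤ k := by
      by_contra h3'
      have := Nat.pow_le_pow_right (show 1 ≤ 3 by norm_num) (show k ≤ 2 by omega)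
      omega
    have h1 := card_dvd_of_le hRC
    rw [hk] at h1
    exact (pow_dvd_pow 3 hk3).trans h1
  obtain ⟨Q₁, hQ₁⟩ := (hEp.of_equiv (subgroupOfEquivOfLe hECx).symm).exists_le_sylow
  obtain ⟨Q₂, hQ₂⟩ := ((hEp.map (MulAut.conj g).toMonoidHom).of_equiv
    (subgroupOfEquivOfLe hgE).symm).exists_le_sylow
  obtain ⟨c, hc⟩ := MulAction.exists_smul_eq Cx Q₂ Q₁
  have hQ₁E : (Q₁ : Subgroup Cx).map Cx.subtype = E := by
    refine (eq_of_le_of_card_ge (show E ≤ (Q₁ : Subgroup Cx).map Cx.subtype from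
      fun u hu => ⟨⟨u, hECx hu⟩, hQ₁ hu, rfl⟩) ?_).symm
    rw [hEC, D.card]
    exact hsyl _ (Q₁.2.map Cx.subtype) (by rintro _ ⟨u, -, rfl⟩; exact u.2)
  refine hnoinv ((c : G) * g) (fun e he => ?_) ?_
  · have h1 : g * e * g⁻¹ ∈ E.map (MulAut.conj g).toMonoidHom := ⟨e, he, rfl⟩
    have h2 : c * ⟨g * e * g⁻¹, hgE h1⟩ * c⁻¹ ∈ ((c • Q₂ : Sylow 3 Cx) : Subgroup Cx) := by
      rw [Sylow.coe_subgroup_smul]
      exact Subgroup.smul_mem_pointwise_smul _ (MulAut.conj c) _ (hQ₂ h1)
    rw [hc] at h2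
    rw [← hQ₁E, show (c : G) * g * e * ((c : G) * g)⁻¹ = (c : G) * (g * e * g⁻¹) * (c : G)⁻¹ by group]
    exact ⟨_, h2, rfl⟩
  · rw [show (c : G) * g * x * ((c : G) * g)⁻¹ = (c : G) * (g * x * g⁻¹) * (c : G)⁻¹ by group, hg,
      ((show Commute (c : G) x from mem_centralizer_singleton_iff.mp c.2).inv_right).eq, mul_inv_cancel_right]

/-- The odd case. -/
theorem odd_three : StrongThree G ∨ (Nat.card P = 9 ∧ ∀ y ∈ (P : Subgroup G), y ^ 3 = 1) := by
  have hp3 : Fact (Nat.Prime 3) := ⟨Nat.prime_three⟩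
  have hr3 : Nat.card Ω % 3 < 3 := Nat.mod_lt _ (by norm_num)
  by_cases hr2 : Nat.card Ω % 3 = 2
  · left
    have h3G : 3 ∣ Nat.card G := h3.trans (card_subgroup_dvd_card _)
    have : Nontrivial (P : Subgroup G) := by
      rw [← Finite.one_lt_card_iff_nontrivial]
      have h1 := Nat.le_of_dvd Nat.card_pos (P.dvd_card_of_dvd_card h3G)
      omega
    haveI := P.2.center_nontrivial
    obtain ⟨⟨⟨z, hzP⟩, hzc⟩, hz1⟩ := exists_ne (1 : center (P : Subgroup G))
    have hz1' : z ≠ 1 := fun e => hz1 (Subtype.ext (Subtype.ext e))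
    have h2 : ∀ y ∈ P, y ≠ 1 → (fixedBy Ω y).ncard = 2 := fun y hy hy1 => by
      obtain ⟨h4, hm⟩ := fix_cases h P hy hy1
      omega
    set T := fixedBy Ω z
    have hinv : ∀ s ∈ P, s • T = T := fun s hs =>
      stable_of_commute (congrArg Subtype.val (mem_center_iff.mp hzc ⟨s, hs⟩))
    have hTfix : ∀ s ∈ P, ∀ b ∈ T, s • b = b := by
      intro s hs b hb
      by_contra hne
      obtain ⟨k, hk⟩ := mem_sylow_pow P hs
      classical
      let σ : Equiv.Perm T := ((toPermHom G Ω) s).subtypePerm fun b => by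
        show s • b ∈ T ↔ b ∈ T
        conv_lhs => rw [← hinv s hs]
        exact Set.smul_mem_smul_set_iff
      have hσs : ∀ (n : ℕ) (c : T), (((σ ^ n) c : T) : Ω) = s ^ n • (c : Ω) := fun n => by
        induction n with
        | zero => intro c; simp
        | succ n ih => intro c; rw [pow_succ', Equiv.Perm.mul_apply, pow_succ', mul_smul, ← ih c]; rfl
      have hσk : σ ^ 3 ^ k = 1 := Equiv.ext fun c => Subtype.ext (by rw [hσs, hk, one_smul]; rfl)
      have hcardT : Nat.card (Equiv.Perm T) = 2 := by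
        rw [Nat.card_perm, Nat.card_coe_set_eq, h2 z hzP hz1']
        rfl
      have h1 : σ = 1 := Cfsg.Agent.TwoFusion.eq_one_of_pow_eq_one_of_coprime (m := 2) (n := 3 ^ k)
        (hcardT ▸ pow_card_eq_one') hσk (Nat.Coprime.pow_right k (by norm_num))
      exact hne (congrArg Subtype.val (Equiv.congr_fun h1 ⟨b, hb⟩))
    refine strongThree hn P (T := T) (Set.nonempty_of_ncard_ne_zero (by rw [h2 z hzP hz1']; norm_num))
      (by rw [h2 z hzP hz1']; norm_num) hinv h3G fun y hy hyo => ?_
    refine (Set.eq_of_subset_of_ncard_le (fun b hb => hTfix y hy b hb) ?_ (Set.toFinite _)).symm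
    show (fixedBy Ω y).ncard ≤ (fixedBy Ω z).ncard
    rw [h2 z hzP hz1', h2 y hy fun e => by rw [e, orderOf_one] at hyo; omega]
  · rcases three_dichotomy hna h hn P h3 (Nat.card Ω % 3) rfl (by omega) with h1 | ⟨x, z, D⟩
    · exact Or.inl h1
    · exact Or.inr (nine_data_order hna h P (Nat.card Ω % 3) rfl (by omega) D)

end main

end Cfsg.Agent.FixityFour
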