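import Cfsg.Agent.Lib.FixityFour.Basic
import Cfsg.Agent.Lib.FixityFour.PermFour
import Cfsg.Agent.S0215
/-!
# Fixity four: confined involutions give a strongly embedded subgroup (helper20)

Let `z` be an involution central in a Sylow 2-subgroup `S` with exactly four fixed points `Δ`, and suppose
that every involution of `S` with four fixed points fixes exactly `Δ`.  On the cosets of the setwise
stabiliser `K` of `Δ` every such involution fixes exactly one point.  For two points, at most three of them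
interchange the pair (the products act on the four points without transposition and have order three or
four), which bounds the number of those fixing a given point by three; equality then shows that a fixed
point free involution fixing two cosets would centralise too many of them.  So `K` is strongly embedded.
-/

set_option autoImplicit false

namespace Cfsg.Agent.FixityFour

open MulAction Subgroup
open scoped Pointwise

section

variable {G : Type*} [Group G] {Ω : Type*} [MulAction G Ω]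

/-- The hypotheses: `z` is central in `S`, and every four-fixing involution of `S` fixes the points of `z`. -/
structure Confined (S : Sylow 2 G) (z : G) (Ω : Type*) [MulAction G Ω] : Prop where
  fix : FixLE G Ω
  zero : ZeroFour G Ω
  four : Four Ω z
  memS : z ∈ S
  cen : ∀ s ∈ S, s * z = z * s
  conf : ∀ s ∈ S, Four Ω s → fixedBy Ω s = fixedBy Ω z

/-- The setwise stabiliser of the fixed points of `z`. -/
abbrev blockStab (Ω : Type*) [MulAction G Ω] (z : G) : Subgroup G := stabilizer G (fixedBy Ω z)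

variable {S : Sylow 2 G} {z : G}

/-- The four points attached to a coset. -/
noncomputable def blk (Ω : Type*) [MulAction G Ω] (z : G) (p : G ⧸ blockStab Ω z) : Set Ω :=
  p.out • fixedBy Ω z

theorem blk_mk (g : G) : blk Ω z (g : G ⧸ blockStab Ω z) = g • fixedBy Ω z := by
  obtain ⟨k, hk⟩ := QuotientGroup.mk_out_eq_mul (blockStab Ω z) g
  have hk' : (k : G) • fixedBy Ω z = fixedBy Ω z := k.2
  rw [blk, hk, mul_smul, hk']

theorem blk_smul (g : G) (p : G ⧸ blockStab Ω z) : blk Ω z (g • p) = g • blk Ω z p := by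
  obtain ⟨h, rfl⟩ := QuotientGroup.mk_surjective p
  rw [MulAction.Quotient.smul_mk, blk_mk, blk_mk, smul_eq_mul, mul_smul]

theorem blk_injective : Function.Injective (blk Ω z) := by
  intro p q h
  obtain ⟨a, rfl⟩ := QuotientGroup.mk_surjective p
  obtain ⟨b, rfl⟩ := QuotientGroup.mk_surjective q
  rw [blk_mk, blk_mk] at h
  refine QuotientGroup.eq.mpr ?_
  rw [mem_stabilizer_iff, mul_smul, ← h, inv_smul_smul]

theorem Confined.ncard_blk (h : Confined S z Ω) (p : G ⧸ blockStab Ω z) : (blk Ω z p).ncard = 4 := by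
  rw [blk, Set.ncard_smul_set, ← Nat.card_coe_set_eq]; exact h.four.2

theorem Confined.sylow_le (h : Confined S z Ω) : (S : Subgroup G) ≤ blockStab Ω z := by
  intro s hs
  rw [mem_stabilizer_iff, ← fixedBy_conj, h.cen s hs, mul_inv_cancel_right]

variable [Finite G] [Finite Ω]

theorem Confined.fix_eq_of_mem (h : Confined S z Ω) {x : G} (hx : Four Ω x) (hxK : x ∈ blockStab Ω z) :
    fixedBy Ω x = fixedBy Ω z := by
  have : Fact (Nat.Prime 2) := ⟨Nat.prime_two⟩
  set K := blockStab Ω z
  have hp : IsPGroup 2 (zpowers (⟨x, hxK⟩ : K)) := IsPGroup.of_card (n := 1) (by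
    rw [Nat.card_zpowers, ← Subgroup.orderOf_coe, pow_one]; exact hx.1)
  obtain ⟨P, hP⟩ := hp.exists_le_sylow
  obtain ⟨k, hk⟩ := MulAction.exists_smul_eq K P (S.subtype h.sylow_le)
  have hm : (k : G) * x * (k : G)⁻¹ ∈ S := by
    have h1 : k * ⟨x, hxK⟩ * k⁻¹ ∈ ((k • P : Sylow 2 K) : Subgroup K) := by
      rw [Sylow.coe_subgroup_smul]
      exact Subgroup.smul_mem_pointwise_smul _ (MulAut.conj k) _ (hP (mem_zpowers _))
    rw [hk] at h1
    exact h1
  have h1 := h.conf _ hm (hx.conj _)
  rw [fixedBy_conj, smul_eq_iff_eq_inv_smul] at h1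
  rw [h1]
  exact mem_stabilizer_iff.mp (K.inv_mem k.2)

theorem Confined.exists_blk (h : Confined S z Ω) {x : G} (hx : Four Ω x) :
    ∃ p, blk Ω z p = fixedBy Ω x := by
  have : Fact (Nat.Prime 2) := ⟨Nat.prime_two⟩
  have hp : IsPGroup 2 (zpowers x) := IsPGroup.of_card (n := 1) (by rw [Nat.card_zpowers, pow_one]; exact hx.1)
  obtain ⟨P, hP⟩ := hp.exists_le_sylow
  obtain ⟨g, hg⟩ := MulAction.exists_smul_eq G P S
  have hm : g * x * g⁻¹ ∈ S := by
    have h1 : g * x * g⁻¹ ∈ ((g • P : Sylow 2 G) : Subgroup G) := by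
      rw [Sylow.coe_subgroup_smul]
      exact Subgroup.smul_mem_pointwise_smul _ (MulAut.conj g) _ (hP (mem_zpowers _))
    rwa [hg] at h1
  have h1 := h.conf _ hm (hx.conj _)
  rw [fixedBy_conj, smul_eq_iff_eq_inv_smul] at h1
  exact ⟨(g⁻¹ : G), by rw [blk_mk, h1]⟩

theorem Confined.smul_eq_iff (h : Confined S z Ω) {x : G} (hx : Four Ω x) {p : G ⧸ blockStab Ω z} :
    x • p = p ↔ fixedBy Ω x = blk Ω z p := by
  constructor
  · intro hp
    obtain ⟨g, rfl⟩ := QuotientGroup.mk_surjective p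
    have hK : g⁻¹ * x * g ∈ blockStab Ω z := by
      rw [MulAction.Quotient.smul_mk] at hp
      have h1 := QuotientGroup.eq.mp hp.symm
      rwa [smul_eq_mul, ← mul_assoc] at h1
    have h1 := h.fix_eq_of_mem (x := g⁻¹ * x * g) (by simpa using hx.conj g⁻¹) hK
    rw [show g⁻¹ * x * g = g⁻¹ * x * g⁻¹⁻¹ by rw [inv_inv], fixedBy_conj, inv_smul_eq_iff] at h1
    rw [blk_mk, h1]
  · intro hp
    refine blk_injective (Ω := Ω) ?_
    rw [blk_smul, ← hp, ← fixedBy_conj, mul_inv_cancel_right]

theorem Confined.unique (h : Confined S z Ω) {x : G} (hx : Four Ω x) {p q : G ⧸ blockStab Ω z}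
    (hp : x • p = p) (hq : x • q = q) : p = q :=
  blk_injective (((h.smul_eq_iff hx).mp hp).symm.trans ((h.smul_eq_iff hx).mp hq))

/-- The point fixed by a four-fixing involution. -/
theorem Confined.exists_fixed (h : Confined S z Ω) {x : G} (hx : Four Ω x) :
    ∃ p : G ⧸ blockStab Ω z, x • p = p := by
  obtain ⟨p, hp⟩ := h.exists_blk hx
  exact ⟨p, (h.smul_eq_iff hx).mpr hp.symm⟩

/-- An involution fixing two cosets has no fixed point. -/
theorem Confined.free_of_two (h : Confined S z Ω) {u : G} (hu : orderOf u = 2) {p q : G ⧸ blockStab Ω z}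
    (hpq : p ≠ q) (hp : u • p = p) (hq : u • q = q) (b : Ω) : u • b ≠ b := fun hb =>
  hpq (h.unique (h.zero.four hu hb) hp hq)

/-- Commuting involutions with four fixed points fix the same coset, so their product, if of order two,
has four fixed points. -/
theorem Confined.commuting (h : Confined S z Ω) {x y : G} (hx : Four Ω x) (hy : Four Ω y)
    (hc : x * y = y * x) : fixedBy Ω x = fixedBy Ω y := by
  obtain ⟨p, hp⟩ := h.exists_fixed hx
  have hyp : x • y • p = y • p := by rw [smul_smul, hc, mul_smul, hp]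
  have := h.unique hx hyp hp
  rw [(h.smul_eq_iff hx).mp hp, (h.smul_eq_iff hy).mp this]

theorem Confined.mul_four (h : Confined S z Ω) {x y : G} (hx : Four Ω x) (hy : Four Ω y) (hne : x ≠ y)
    (hc : x * y = y * x) : Four Ω (x * y) ∧ fixedBy Ω (x * y) = fixedBy Ω x := by
  have h1 : x * y ≠ 1 := fun e => hne (by rw [← mul_inv_eq_one, inv_eq_of_mul_self hy.mul_self]; exact e)
  have h2 : orderOf (x * y) = 2 := orderOf_eq_two (by
    rw [mul_assoc, ← mul_assoc y, ← hc, mul_assoc, hy.mul_self, mul_one, hx.mul_self]) h1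
  have hxy := h.commuting hx hy hc
  have hsub : fixedBy Ω x ⊆ fixedBy Ω (x * y) := fun b hb => by
    have hb' : b ∈ fixedBy Ω y := hxy ▸ hb
    simp only [mem_fixedBy] at hb hb' ⊢
    rw [mul_smul, hb', hb]
  have h4 : (fixedBy Ω x).ncard = 4 := by rw [← Nat.card_coe_set_eq]; exact hx.2
  have := fixedBy_eq_of_subset h.fix h1 h4 hsub
  exact ⟨⟨h2, by rw [this]; exact hx.2⟩, this⟩

/-! ### A pair of points -/

/-- The elements fixing two points. -/
abbrev pairStab (p q : G ⧸ blockStab Ω z) : Subgroup G := stabilizer G p ⊓ stabilizer G q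

theorem smul_blk_mem {d : G} {p : G ⧸ blockStab Ω z} (hd : d • p = p) {b : Ω} :
    b ∈ blk Ω z p ↔ d • b ∈ blk Ω z p := by
  conv_rhs => rw [← hd, blk_smul]
  exact (Set.smul_mem_smul_set_iff).symm

/-- The action on the four points, as permutations of `Fin 4`. -/
noncomputable def pairHom (p q : G ⧸ blockStab Ω z) (e : blk Ω z p ≃ Fin 4) :
    pairStab p q →* Equiv.Perm (Fin 4) where
  toFun d := e.permCongr (((toPermHom G Ω) (d : G)).subtypePerm fun b => by
    exact (smul_blk_mem d.2.1).symm)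
  map_one' := by ext i; simp
  map_mul' a b := by ext i; simp [mul_smul]

theorem pairHom_apply {p q : G ⧸ blockStab Ω z} (e : blk Ω z p ≃ Fin 4) (d : pairStab p q) (i : Fin 4) :
    ((e.symm (pairHom p q e d i) : blk Ω z p) : Ω) = (d : G) • ((e.symm i : blk Ω z p) : Ω) := by
  simp [pairHom]

theorem pairHom_eq_one {p q : G ⧸ blockStab Ω z} (e : blk Ω z p ≃ Fin 4) {d : pairStab p q}
    (hd : pairHom p q e d = 1) {b : Ω} (hb : b ∈ blk Ω z p) : (d : G) • b = b := by
  have h1 := pairHom_apply e d (e ⟨b, hb⟩)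
  rw [hd] at h1
  simpa using h1.symm

variable (h : Confined S z Ω)
include h

/-- An element inverted by an involution interchanging the pair, trivial on the four points, is trivial. -/
theorem Confined.inverted_eq_one {p q : G ⧸ blockStab Ω z} (e : blk Ω z p ≃ Fin 4) (hpq : p ≠ q)
    {x : G} (hx : x • p = q) {d : pairStab p q} (hd : pairHom p q e d = 1)
    (hinv : x * (d : G) * x⁻¹ = (d : G)⁻¹) : d = 1 := by
  refine Subtype.ext (eq_one_of_five h.fix
    (five_le_union (h.ncard_blk p) (h.ncard_blk q) fun e => hpq (blk_injective e)) ?_)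
  intro b hb
  simp only [mem_fixedBy]
  rcases hb with hb | hb
  · exact pairHom_eq_one e hd hb
  · rw [← hx, blk_smul] at hb
    obtain ⟨c, hc, rfl⟩ := hb
    have h1 : ((d : G)⁻¹) • x • c = x • c := by
      rw [← hinv, smul_smul, inv_mul_cancel_right, mul_smul, pairHom_eq_one e hd hc]
    exact (inv_smul_eq_iff.mp h1).symm

theorem Confined.no_transp {p q : G ⧸ blockStab Ω z} (e : blk Ω z p ≃ Fin 4) (hpq : p ≠ q)
    (d : pairStab p q) : ¬ IsTransp (pairHom p q e d) := by
  rintro ⟨h1, h2, i, hi⟩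
  have h0 : orderOf (pairHom p q e d) = 2 := orderOf_eq_two h2 h1
  have hdiv : 2 ∣ orderOf (d : G) := by
    rw [Subgroup.orderOf_coe, ← h0]; exact orderOf_map_dvd _ _
  obtain ⟨y, hy, hy2⟩ := exists_involution_zpowers hdiv (isOfFinOrder_of_finite _)
  have hdb : (d : G) • ((e.symm i : blk Ω z p) : Ω) = ((e.symm i : blk Ω z p) : Ω) := by
    rw [← pairHom_apply, hi]
  have hyD : y ∈ pairStab p q := (zpowers_le.mpr d.2) hy
  exact h.free_of_two hy2 hpq hyD.1 hyD.2 _ (smul_eq_of_mem_zpowers hy hdb)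

theorem Confined.swap_mem {p q : G ⧸ blockStab Ω z} {x y : G} (hx : Four Ω x) (hy : Four Ω y)
    (hxp : x • p = q) (hyp : y • p = q) : x * y ∈ pairStab p q := by
  have hxq : x • q = p := by rw [← hxp, smul_smul, hx.mul_self, one_smul]
  have hyq : y • q = p := by rw [← hyp, smul_smul, hy.mul_self, one_smul]
  constructor
  · show (x * y) • p = p
    rw [mul_smul, hyp, hxq]
  · show (x * y) • q = q
    rw [mul_smul, hyq, hxp]

theorem Confined.swap_good {p q : G ⧸ blockStab Ω z} (e : blk Ω z p ≃ Fin 4) (hpq : p ≠ q) {x y : G}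
    (hx : Four Ω x) (hy : Four Ω y) (hxp : x • p = q) (hyp : y • p = q) (hne : x ≠ y) :
    Good (pairHom p q e ⟨x * y, h.swap_mem hx hy hxp hyp⟩) := by
  intro hg
  rw [← map_mul] at hg
  have h1 := h.inverted_eq_one e hpq hxp hg (by
    show x * (x * y * (x * y)) * x⁻¹ = (x * y * (x * y))⁻¹
    rw [mul_inv_rev, mul_inv_rev, inv_eq_of_mul_self hy.mul_self, inv_eq_of_mul_self hx.mul_self]
    simp only [← mul_assoc, hx.mul_self, one_mul])
  have h2 : x * y * (x * y) = 1 := congrArg Subtype.val h1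
  have hc : x * y = y * x := by
    have := eq_inv_of_mul_eq_one_left h2
    rwa [mul_inv_rev, inv_eq_of_mul_self hy.mul_self, inv_eq_of_mul_self hx.mul_self] at this
  obtain ⟨h3, -⟩ := h.mul_four hx hy hne hc
  have := h.swap_mem hx hy hxp hyp
  exact hpq (h.unique h3 this.1 this.2)

/-- The rotation attached to two interchanging involutions. -/
theorem Confined.swap_quot {p q : G ⧸ blockStab Ω z} (e : blk Ω z p ≃ Fin 4) (hpq : p ≠ q) {o x y : G}
    (ho : Four Ω o) (hx : Four Ω x) (hy : Four Ω y) (hop : o • p = q) (hxp : x • p = q) (hyp : y • p = q)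
    (hne : x ≠ y) :
    Good ((pairHom p q e ⟨o * x, h.swap_mem ho hx hop hxp⟩)⁻¹ * pairHom p q e ⟨o * y, h.swap_mem ho hy hop hyp⟩) := by
  have heq : (⟨o * x, h.swap_mem ho hx hop hxp⟩ : pairStab p q)⁻¹ * ⟨o * y, h.swap_mem ho hy hop hyp⟩ =
      ⟨x * y, h.swap_mem hx hy hxp hyp⟩ := Subtype.ext (by
    show (o * x)⁻¹ * (o * y) = x * y
    rw [mul_inv_rev, inv_eq_of_mul_self hx.mul_self, mul_assoc, inv_mul_cancel_left])
  rw [← map_inv, ← map_mul, heq]
  exact h.swap_good e hpq hx hy hxp hyp hne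

theorem Confined.noTransp {p q : G ⧸ blockStab Ω z} (e : blk Ω z p ≃ Fin 4) (hpq : p ≠ q)
    (a b : pairStab p q) : NoTransp (pairHom p q e a) (pairHom p q e b) := by
  constructor
  · rw [← map_mul]; exact h.no_transp e hpq _
  · rw [← map_mul, ← map_mul]; exact h.no_transp e hpq _

omit h

/-- The involutions with four fixed points interchanging a pair. -/
def swappers (p q : G ⧸ blockStab Ω z) : Set G := {x | Four Ω x ∧ x • p = q}

include h

theorem Confined.equivBlk (p : G ⧸ blockStab Ω z) : Nonempty (blk Ω z p ≃ Fin 4) :=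
  ⟨(Finite.equivFin _).trans (finCongr (by rw [Nat.card_coe_set_eq]; exact h.ncard_blk p))⟩

theorem Confined.swappers_le {p q : G ⧸ blockStab Ω z} (hpq : p ≠ q) :
    (swappers p q).ncard ≤ 3 := by
  by_contra hlt
  obtain ⟨e⟩ := h.equivBlk p
  obtain ⟨t, hts, ht⟩ := Set.exists_subset_card_eq (show 4 ≤ (swappers p q).ncard by omega)
  obtain ⟨o, x, y, w, n1, n2, n3, n4, n5, n6, rfl⟩ := Set.ncard_eq_four.mp ht
  obtain ⟨ho, hop⟩ := hts (by simp : o ∈ ({o, x, y, w} : Set G))
  obtain ⟨hx, hxp⟩ := hts (by simp : x ∈ ({o, x, y, w} : Set G))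
  obtain ⟨hy, hyp⟩ := hts (by simp : y ∈ ({o, x, y, w} : Set G))
  obtain ⟨hw, hwp⟩ := hts (by simp : w ∈ ({o, x, y, w} : Set G))
  exact clique_triple_fin _ (h.swap_good e hpq ho hx hop hxp n1) _ (h.swap_good e hpq ho hy hop hyp n2)
    (h.swap_quot e hpq ho hx hy hop hxp hyp n4) (h.noTransp e hpq _ _) _
    (h.swap_good e hpq ho hw hop hwp n3) (h.swap_quot e hpq ho hx hw hop hxp hwp n5)
    (h.swap_quot e hpq ho hy hw hop hyp hwp n6) (h.noTransp e hpq _ _) (h.noTransp e hpq _ _)

theorem Confined.three_element {p q : G ⧸ blockStab Ω z} (e : blk Ω z p ≃ Fin 4) (hpq : p ≠ q)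
    (h3 : (swappers p q).ncard = 3) :
    ∃ d : pairStab p q, pairHom p q e d ≠ 1 ∧ pairHom p q e d * pairHom p q e d * pairHom p q e d = 1 := by
  obtain ⟨o, x, y, n1, n2, n3, hs⟩ := Set.ncard_eq_three.mp h3
  obtain ⟨ho, hop⟩ := (hs.symm ▸ (by simp) : o ∈ swappers p q)
  obtain ⟨hx, hxp⟩ := (hs.symm ▸ (by simp) : x ∈ swappers p q)
  obtain ⟨hy, hyp⟩ := (hs.symm ▸ (by simp) : y ∈ swappers p q)
  have g1 := h.swap_good e hpq ho hx hop hxp n1
  have g2 := h.swap_good e hpq ho hy hop hyp n2
  rcases clique_pair_fin _ g1 _ g2 (h.swap_quot e hpq ho hx hy hop hxp hyp n3) (h.noTransp e hpq _ _) with h1 | h1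
  · exact ⟨_, fun e1 => g1 (by rw [e1, mul_one]), h1⟩
  · exact ⟨_, fun e1 => g2 (by rw [e1, mul_one]), h1⟩

theorem Confined.pair_fpf {p q : G ⧸ blockStab Ω z} (e : blk Ω z p ≃ Fin 4) (hpq : p ≠ q)
    {u : pairStab p q} (hu : orderOf (u : G) = 2) :
    pairHom p q e u ≠ 1 ∧ pairHom p q e u * pairHom p q e u = 1 ∧ ∀ i, pairHom p q e u i ≠ i := by
  have hfree := h.free_of_two hu hpq u.2.1 u.2.2
  have hmove : ∀ i, pairHom p q e u i ≠ i := fun i hi => hfree _ (by rw [← pairHom_apply e u i, hi])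
  have hsq : u * u = 1 := Subtype.ext (by
    show (u : G) * u = 1
    rw [← pow_two, ← hu]; exact pow_orderOf_eq_one _)
  refine ⟨fun e1 => hmove 0 (by rw [e1]; rfl), ?_, hmove⟩
  rw [← map_mul, hsq, map_one]

theorem Confined.commuting_swappers_le {p q : G ⧸ blockStab Ω z} (hpq : p ≠ q) {u : G}
    (hu : orderOf u = 2) (hup : u • p = p) (huq : u • q = q) :
    (swappers p q ∩ {x | u * x = x * u}).ncard ≤ 2 := by
  by_contra hlt
  obtain ⟨e⟩ := h.equivBlk p
  obtain ⟨t, hts, ht⟩ := Set.exists_subset_card_eq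
    (show 3 ≤ (swappers p q ∩ {x | u * x = x * u}).ncard by omega)
  obtain ⟨o, x, y, n1, n2, n3, rfl⟩ := Set.ncard_eq_three.mp ht
  obtain ⟨⟨ho, hop⟩, hco⟩ := hts (by simp : o ∈ ({o, x, y} : Set G))
  obtain ⟨⟨hx, hxp⟩, hcx⟩ := hts (by simp : x ∈ ({o, x, y} : Set G))
  obtain ⟨⟨hy, hyp⟩, hcy⟩ := hts (by simp : y ∈ ({o, x, y} : Set G))
  have hu' : u ∈ pairStab p q := ⟨hup, huq⟩
  obtain ⟨f1, f2, f3⟩ := h.pair_fpf e hpq (u := ⟨u, hu'⟩) hu
  have hcomm : ∀ w : G, ∀ hw : o * w ∈ pairStab p q, u * w = w * u →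
      pairHom p q e ⟨u, hu'⟩ * pairHom p q e ⟨o * w, hw⟩ =
        pairHom p q e ⟨o * w, hw⟩ * pairHom p q e ⟨u, hu'⟩ := fun w hw hcw => by
    rw [← map_mul, ← map_mul]
    refine congrArg _ (Subtype.ext ?_)
    show u * (o * w) = o * w * u
    rw [← mul_assoc, show u * o = o * u from hco, mul_assoc, hcw, mul_assoc]
  exact clique_centralizing_fin _ f1 f2 f3 _ (hcomm x _ hcx) (h.swap_good e hpq ho hx hop hxp n1)
    _ (hcomm y _ hcy) (h.swap_good e hpq ho hy hop hyp n2)
    (h.swap_quot e hpq ho hx hy hop hxp hyp n3) (h.noTransp e hpq _ _)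

/-- With a fixed point free involution among them, the pair stabiliser acts faithfully on the four points. -/
theorem Confined.pairHom_injective {p q : G ⧸ blockStab Ω z} (e : blk Ω z p ≃ Fin 4) (hpq : p ≠ q) {u : G}
    (hu : orderOf u = 2) (hup : u • p = p) (huq : u • q = q) :
    Function.Injective (pairHom p q e) := by
  rw [injective_iff_map_eq_one]
  intro d hd
  by_contra hne
  -- pass to an element of prime order
  obtain ⟨ℓ, hℓ, hdvd⟩ := Nat.exists_prime_and_dvd (mt orderOf_eq_one_iff.mp hne)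
  set w : pairStab p q := d ^ (orderOf d / ℓ) with hw
  have hwo : orderOf w = ℓ := by
    rw [hw, orderOf_pow, Nat.gcd_eq_right (Nat.div_dvd_of_dvd hdvd),
      Nat.div_div_self hdvd (orderOf_pos d).ne']
  have hw1 : pairHom p q e w = 1 := by rw [hw, map_pow, hd, one_pow]
  have hwG : (w : G) ≠ 1 := fun e1 => by
    have : orderOf w = 1 := by rw [← Subgroup.orderOf_coe, e1, orderOf_one]
    rw [hwo] at this
    exact hℓ.one_lt.ne' this
  have hfix : fixedBy Ω (w : G) = blk Ω z p :=
    fixedBy_eq_of_subset h.fix hwG (h.ncard_blk p) fun b hb => pairHom_eq_one e hw1 hb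
  have hfree := h.free_of_two hu hpq hup huq
  rcases hℓ.eq_two_or_odd' with h2 | hodd
  · subst h2
    obtain ⟨i⟩ : Nonempty (blk Ω z p) := ⟨e.symm 0⟩
    exact h.free_of_two (by rw [Subgroup.orderOf_coe, hwo]) hpq w.2.1 w.2.2 i.1
      (pairHom_eq_one e hw1 i.2)
  -- the common points and the moved points of the second block
  have : Fact ℓ.Prime := ⟨hℓ⟩
  have hI : 2 ∣ (blk Ω z p ∩ blk Ω z q).ncard := by
    have hmem : ∀ b, b ∈ blk Ω z p ∩ blk Ω z q ↔ u • b ∈ blk Ω z p ∩ blk Ω z q := fun b =>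
      and_congr (smul_blk_mem hup) (smul_blk_mem huq)
    set σ : Equiv.Perm (blk Ω z p ∩ blk Ω z q : Set Ω) := ((toPermHom G Ω) u).subtypePerm fun b => (hmem b).symm
    have hσ : σ ^ 2 ^ 1 = 1 := by
      ext b
      simp only [pow_one, pow_two, Equiv.Perm.coe_mul, Function.comp_apply, σ, Equiv.Perm.subtypePerm_apply,
        toPermHom_apply, MulAction.toPerm_apply, smul_smul, Equiv.Perm.coe_one, id_eq]
      rw [← pow_two, ← hu, pow_orderOf_eq_one, one_smul]
    rw [← Nat.card_coe_set_eq]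
    classical
    have := Fintype.ofFinite (blk Ω z p ∩ blk Ω z q : Set Ω)
    rw [Nat.card_eq_fintype_card]
    by_contra hnd
    have : Fact (Nat.Prime 2) := ⟨Nat.prime_two⟩
    obtain ⟨b, hb⟩ := Equiv.Perm.exists_fixed_point_of_prime (p := 2) (n := 1) hnd hσ
    exact hfree b (congrArg Subtype.val hb)
  have hJ : ℓ ∣ (blk Ω z q \ blk Ω z p).ncard := by
    have hmem : ∀ b, b ∈ blk Ω z q \ blk Ω z p ↔ (w : G) • b ∈ blk Ω z q \ blk Ω z p := fun b =>
      and_congr (smul_blk_mem w.2.2) (not_congr (smul_blk_mem w.2.1))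
    set σ : Equiv.Perm (blk Ω z q \ blk Ω z p : Set Ω) := ((toPermHom G Ω) (w : G)).subtypePerm fun b => (hmem b).symm
    have hσ : σ ^ ℓ ^ 1 = 1 := by
      have hwl : (w : G) ^ ℓ = 1 := by rw [← hwo, ← Subgroup.orderOf_coe, pow_orderOf_eq_one]
      have hit : ∀ (n : ℕ) (b : (blk Ω z q \ blk Ω z p : Set Ω)), (((σ ^ n) b : (blk Ω z q \ blk Ω z p : Set Ω)) : Ω) = (w : G) ^ n • (b : Ω) := by
        intro n
        induction n with
        | zero => intro b; simp
        | succ n ih => intro b; rw [pow_succ', Equiv.Perm.mul_apply, pow_succ', mul_smul, ← ih b]; rfl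
      refine Equiv.ext fun b => Subtype.ext ?_
      rw [pow_one, hit, hwl, one_smul]; rfl
    rw [← Nat.card_coe_set_eq]
    classical
    have := Fintype.ofFinite (blk Ω z q \ blk Ω z p : Set Ω)
    rw [Nat.card_eq_fintype_card]
    by_contra hnd
    obtain ⟨b, hb⟩ := Equiv.Perm.exists_fixed_point_of_prime (p := ℓ) (n := 1) hnd hσ
    exact b.2.2 (hfix.subset (congrArg Subtype.val hb : (w : G) • (b : Ω) = b))
  have hsum := Set.ncard_inter_add_ncard_sdiff_eq_ncard (blk Ω z q) (blk Ω z p) (Set.toFinite _)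
  rw [h.ncard_blk q, Set.inter_comm] at hsum
  have hpos : 0 < (blk Ω z q \ blk Ω z p).ncard := by
    rw [Set.ncard_pos]
    by_contra hemp
    rw [Set.not_nonempty_iff_eq_empty, Set.sdiff_eq_empty] at hemp
    exact hpq (blk_injective (Set.eq_of_subset_of_ncard_le hemp
      (by rw [h.ncard_blk p, h.ncard_blk q])).symm)
  have hcard : (blk Ω z q \ blk Ω z p).ncard = 2 ∨ (blk Ω z q \ blk Ω z p).ncard = 4 := by
    obtain ⟨k, hk⟩ := hI; omega
  obtain ⟨m, hm⟩ := hodd
  have h4 : ℓ ∣ 4 := by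
    rcases hcard with h4 | h4 <;> rw [h4] at hJ
    · exact hJ.trans (by norm_num)
    · exact hJ
  have := Nat.le_of_dvd (by norm_num) h4
  have hl1 := hℓ.two_le
  interval_cases ℓ <;> omega

/-! ### Counting -/

omit h

/-- The involutions with four fixed points at a coset. -/
def atPoint (p : G ⧸ blockStab Ω z) : Set G := {x | Four Ω x ∧ x • p = p}

theorem card_atPoint (p q : G ⧸ blockStab Ω z) :
    (atPoint (Ω := Ω) p).ncard = (atPoint q).ncard := by
  obtain ⟨g, hg⟩ := MulAction.exists_smul_eq G p q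
  refine Set.ncard_congr (fun x _ => g * x * g⁻¹) (fun x hx => ⟨hx.1.conj g, ?_⟩)
    (fun a b _ _ e => mul_left_cancel (mul_right_cancel e)) fun y hy => ⟨g⁻¹ * y * g, ⟨?_, ?_⟩, by group⟩
  · rw [← hg, smul_smul, inv_mul_cancel_right, mul_smul, hx.2]
  · simpa using hy.1.conj g⁻¹
  · rw [mul_smul, hg, mul_smul, hy.2, ← hg, inv_smul_smul]

include h

/-- Double counting of the pairs interchanged by a conjugation-closed family. -/
theorem Confined.double_count [Fintype G] [Fintype (G ⧸ blockStab Ω z)] [DecidableEq G]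
    [DecidableEq (G ⧸ blockStab Ω z)] (X : Finset G) (hX : ∀ x ∈ X, Four Ω x)
    (F : Finset (G ⧸ blockStab Ω z)) (hF : ∀ x ∈ X, ∀ p ∈ F, x • p ∈ F)
    (hex : ∀ x ∈ X, ∃ p ∈ F, x • p = p) :
    ∑ r ∈ F.offDiag, (X.filter fun x => x • r.1 = r.2).card = X.card * (F.card - 1) := by
  have h1 : ∀ x ∈ X, (F.filter fun p => x • p ≠ p).card = F.card - 1 := fun x hx => by
    obtain ⟨p0, hp0, hfp⟩ := hex x hx
    rw [← Finset.card_erase_of_mem hp0]
    refine congrArg Finset.card (Finset.ext fun p => ?_)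
    simp only [Finset.mem_filter, Finset.mem_erase]
    exact ⟨fun ⟨hp, hne⟩ => ⟨fun e => hne (e ▸ hfp), hp⟩,
      fun ⟨hne, hp⟩ => ⟨hp, fun e => hne (h.unique (hX x hx) e hfp)⟩⟩
  have h2 : ∑ x ∈ X, (F.filter fun p => x • p ≠ p).card = X.card * (F.card - 1) :=
    (Finset.sum_congr rfl h1).trans (by rw [Finset.sum_const, smul_eq_mul])
  rw [← h2]
  simp only [Finset.card_filter]
  rw [Finset.sum_comm]
  refine Finset.sum_congr rfl fun x hx => ?_
  rw [← Finset.card_filter, ← Finset.card_filter]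
  refine Finset.card_bij (fun r _ => r.1) (fun r hr => ?_) (fun a ha b hb e => ?_) fun p hp => ?_
  · simp only [Finset.mem_filter, Finset.mem_offDiag] at hr ⊢
    exact ⟨hr.1.1, fun e => hr.1.2.2 (e.symm.trans hr.2)⟩
  · simp only [Finset.mem_filter] at ha hb
    exact Prod.ext e (by rw [← ha.2, ← hb.2, e])
  · simp only [Finset.mem_filter] at hp
    exact ⟨(p, x • p), by simp [Finset.mem_offDiag, hp.1, hF x hx p hp.1, Ne.symm hp.2], rfl⟩

end

section

variable {G : Type*} [Group G] [Finite G] [IsSimpleGroup G] {Ω : Type*} [MulAction G Ω] [Finite Ω]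

/-- Confined four-fixing involutions: the setwise stabiliser is strongly embedded. -/
theorem Confined.stronglyEmbedded {S : Sylow 2 G} {z : G} (h : Confined S z Ω) (hna : ¬ IsMulCommutative G)
    (hK : blockStab Ω z ≠ ⊤) : Cfsg.IsStronglyEmbedded (blockStab Ω z) := by
  classical
  have : Fintype G := Fintype.ofFinite G
  have : Fintype (G ⧸ blockStab Ω z) := Fintype.ofFinite _
  set p₀ : G ⧸ blockStab Ω z := ((1 : G) : G ⧸ blockStab Ω z) with hp₀
  have : DecidableEq (G ⧸ blockStab Ω z) := Classical.decEq _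
  have hb₀ : blk Ω z p₀ = fixedBy Ω z := by rw [hp₀, blk_mk, one_smul]
  -- at least three involutions at a point
  have hthree : 3 ≤ (atPoint (Ω := Ω) p₀).ncard := by
    by_cases hw : ∃ w ∈ S, Four Ω w ∧ w ≠ z
    · obtain ⟨w, hwS, hw, hne⟩ := hw
      have hc : z * w = w * z := (h.cen w hwS).symm
      obtain ⟨h4, hf⟩ := h.mul_four h.four hw (Ne.symm hne) hc
      have hsub : ({z, w, z * w} : Set G) ⊆ atPoint p₀ := by
        have hfw : fixedBy Ω w = fixedBy Ω z := h.conf w hwS hw
        rintro x (rfl | rfl | rfl)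
        · exact ⟨h.four, (h.smul_eq_iff h.four).mpr hb₀.symm⟩
        · exact ⟨hw, (h.smul_eq_iff hw).mpr (hfw.trans hb₀.symm)⟩
        · exact ⟨h4, (h.smul_eq_iff h4).mpr (hf.trans hb₀.symm)⟩
      refine le_trans (le_of_eq ?_) (Set.ncard_le_ncard hsub (Set.toFinite _))
      refine (Set.ncard_eq_three.mpr ⟨z, w, z * w, Ne.symm hne, ?_, ?_, rfl⟩).symm
      · exact fun e => hw.ne_one (mul_left_cancel (a := z) (by rw [mul_one]; exact e.symm))
      · exact fun e => h.four.ne_one (mul_right_cancel (b := w) (by rw [one_mul]; exact e.symm))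
    · push_neg at hw
      obtain ⟨N, hNn, hNodd, hN⟩ := Cfsg.Agent.S0215.result S z h.four.1 h.memS (fun g hg =>
        hw _ hg (h.four.conj g))
      exfalso
      rcases hNn.eq_bot_or_eq_top with rfl | rfl
      · have hzc : z ∈ center G := mem_center_iff.mpr fun g => by
          have h1 := hN g
          rw [mem_bot, mul_inv_eq_one, mul_inv_eq_iff_eq_mul] at h1
          exact h1.symm
        rcases (center G).normal_of_characteristic.eq_bot_or_eq_top with hc | hc
        · rw [hc, mem_bot] at hzc; exact h.four.ne_one hzc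
        · exact hna ⟨⟨fun a b => (mem_center_iff.mp (hc ▸ mem_top b : b ∈ center G) a)⟩⟩
      · rw [card_top, ← Nat.not_even_iff_odd] at hNodd
        exact hNodd (even_iff_two_dvd.mpr (h.four.1 ▸ orderOf_dvd_natCard z))
  set m := Fintype.card (G ⧸ blockStab Ω z) with hm
  have hm1 : 2 ≤ m := by
    rw [hm, ← Nat.card_eq_fintype_card]
    exact one_lt_index_of_ne_top hK
  set i := (atPoint (Ω := Ω) p₀).ncard with hi
  set X : Finset G := Finset.univ.filter fun x => Four Ω x with hX
  have hXmem : ∀ x, x ∈ X ↔ Four Ω x := fun x => by simp [hX]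
  have hXcard : X.card = m * i := by
    have : X = (Finset.univ : Finset (G ⧸ blockStab Ω z)).biUnion fun p => (atPoint (Ω := Ω) p).toFinset := by
      ext x
      simp only [hXmem, Finset.mem_biUnion, Finset.mem_univ, true_and, Set.mem_toFinset]
      exact ⟨fun hx => (h.exists_fixed hx).imp fun p hp => ⟨hx, hp⟩, fun ⟨p, hp⟩ => hp.1⟩
    rw [this, Finset.card_biUnion fun p _ q _ hpq => Finset.disjoint_left.mpr fun x hx hx' => by
      rw [Set.mem_toFinset] at hx hx'; exact hpq (h.unique hx.1 hx.2 hx'.2)]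
    have : ∀ p ∈ (Finset.univ : Finset (G ⧸ blockStab Ω z)), (atPoint (Ω := Ω) p).toFinset.card = i := fun p _ => by
      rw [← Set.ncard_eq_toFinset_card', hi]; exact card_atPoint p p₀
    rw [Finset.sum_congr rfl this, Finset.sum_const, smul_eq_mul, Finset.card_univ, ← hm]
  have hswap : ∀ p q : G ⧸ blockStab Ω z, (X.filter fun x => x • p = q).card = (swappers (Ω := Ω) p q).ncard := fun p q => by
    rw [← Set.ncard_coe_finset]
    exact congrArg _ (Set.ext fun x => by simp [hXmem, swappers])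
  have hcount := h.double_count X (fun x hx => (hXmem x).mp hx) Finset.univ (fun _ _ _ _ => Finset.mem_univ _)
    (fun x hx => (h.exists_fixed ((hXmem x).mp hx)).imp fun p hp => ⟨Finset.mem_univ p, hp⟩)
  rw [hXcard, Finset.card_univ, ← hm] at hcount
  have hle : ∀ r ∈ (Finset.univ : Finset (G ⧸ blockStab Ω z)).offDiag,
      (X.filter fun x => x • r.1 = r.2).card ≤ 3 := fun r hr => by
    rw [hswap]; exact h.swappers_le (Finset.mem_offDiag.mp hr).2.2
  have hD : ((Finset.univ : Finset (G ⧸ blockStab Ω z)).offDiag).card = m * (m - 1) := by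
    rw [Finset.offDiag_card, Finset.card_univ, ← hm, Nat.mul_sub_one]
  have hsum3 : ∑ _r ∈ (Finset.univ : Finset (G ⧸ blockStab Ω z)).offDiag, 3 = 3 * (m * (m - 1)) := by
    rw [Finset.sum_const, smul_eq_mul, hD, mul_comm]
  have hi3 : i = 3 := by
    have h1 := Finset.sum_le_sum hle
    rw [hcount, hsum3] at h1
    have hpos : 0 < m * (m - 1) := Nat.mul_pos (by omega) (by omega)
    have : i * (m * (m - 1)) ≤ 3 * (m * (m - 1)) := by rwa [← mul_assoc, mul_comm i m]
    exact le_antisymm (Nat.le_of_mul_le_mul_right this hpos) hthree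
  have hall : ∀ p q : G ⧸ blockStab Ω z, p ≠ q → (swappers (Ω := Ω) p q).ncard = 3 := fun p q hpq => by
    have h1 : ∀ r ∈ (Finset.univ : Finset (G ⧸ blockStab Ω z)).offDiag,
        (X.filter fun x => x • r.1 = r.2).card = 3 := (Finset.sum_eq_sum_iff_of_le hle).mp (by
      rw [hcount, hsum3, hi3]; ring)
    rw [← hswap]
    exact h1 (p, q) (by simp [Finset.mem_offDiag, hpq])
  -- a free involution fixing two points centralises the three involutions at each of them
  have hcentral : ∀ u : G, orderOf u = 2 → ∀ p q : G ⧸ blockStab Ω z, p ≠ q → u • p = p → u • q = q →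
      ∀ x ∈ atPoint (Ω := Ω) p, u * x = x * u := by
    intro u hu p q hpq hup huq x hx
    obtain ⟨e⟩ := h.equivBlk p
    obtain ⟨d, hd1, hd3⟩ := h.three_element e hpq (hall p q hpq)
    set u₀ : pairStab p q := ⟨u, hup, huq⟩ with hu₀
    obtain ⟨f1, f2, f3⟩ := h.pair_fpf e hpq (u := u₀) hu
    have hrel : u₀ * (d * u₀ * d⁻¹) = d * (d * u₀ * d⁻¹) * d⁻¹ := by
      apply h.pairHom_injective e hpq hu hup huq
      simp only [map_mul, map_inv]
      exact four_group_fin _ f1 f2 f3 _ hd1 hd3
    have hmemθ : ∀ (g : pairStab p q) (y : G), (g : G) * y * (g : G)⁻¹ ∈ atPoint (Ω := Ω) p ↔ y ∈ atPoint (Ω := Ω) p := by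
      intro g y
      have hg : (g : G) • p = p := g.2.1
      have hg' : (g : G)⁻¹ • p = p := inv_smul_eq_iff.mpr hg.symm
      constructor
      · rintro ⟨h1, h2⟩
        refine ⟨?_, ?_⟩
        · have h3 := h1.conj (g : G)⁻¹
          rwa [show (g : G)⁻¹ * ((g : G) * y * (g : G)⁻¹) * (g : G)⁻¹⁻¹ = y by group] at h3
        · rw [mul_smul, mul_smul, hg'] at h2
          have h3 := congrArg ((g : G)⁻¹ • ·) h2
          simp only [inv_smul_smul, hg'] at h3
          exact h3
      · rintro ⟨h1, h2⟩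
        exact ⟨h1.conj _, by rw [mul_smul, mul_smul, hg', h2, hg]⟩
    let θ : pairStab p q →* Equiv.Perm (atPoint (Ω := Ω) p) :=
      { toFun := fun g => Equiv.Perm.subtypePerm (MulAut.conj (g : G)).toEquiv fun y => hmemθ g y
        map_one' := by ext y; simp
        map_mul' := fun a b => Equiv.ext fun y => Subtype.ext (show ((a * b : pairStab p q) : G) * y * ((a * b : pairStab p q) : G)⁻¹ = (a : G) * ((b : G) * y * (b : G)⁻¹) * (a : G)⁻¹ by rw [Subgroup.coe_mul, mul_inv_rev]; simp only [mul_assoc]) }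
    have hθsq : θ u₀ * θ u₀ = 1 := by
      rw [← map_mul, show u₀ * u₀ = 1 from Subtype.ext (by
        show u * u = 1
        rw [← pow_two, ← hu]; exact pow_orderOf_eq_one u), map_one]
    have hsign : Equiv.Perm.sign (θ u₀) = 1 := by
      have h1 := congrArg (fun g => Equiv.Perm.sign (θ g)) hrel
      simp only [map_mul, map_inv] at h1
      generalize Equiv.Perm.sign (θ u₀) = s at h1 ⊢
      generalize Equiv.Perm.sign (θ d) = t at h1
      rcases Int.units_eq_one_or s with rfl | rfl <;> rcases Int.units_eq_one_or t with rfl | rfl <;>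
        simp_all
    have hone : θ u₀ = 1 := by
      have hmem : θ u₀ ∈ alternatingGroup (atPoint (Ω := Ω) p) := Equiv.Perm.mem_alternatingGroup.mpr hsign
      have hc : Fintype.card (atPoint (Ω := Ω) p) = 3 := by
        rw [← Nat.card_eq_fintype_card, Nat.card_coe_set_eq, card_atPoint p p₀, ← hi, hi3]
      have : Nontrivial (atPoint (Ω := Ω) p) := Fintype.one_lt_card_iff_nontrivial.mp (by omega)
      have hA : Fintype.card (alternatingGroup (atPoint (Ω := Ω) p)) = 3 := by
        have := two_mul_card_alternatingGroup (α := atPoint (Ω := Ω) p)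
        rw [Fintype.card_perm, hc] at this
        rw [show Nat.factorial 3 = 6 from rfl] at this
        omega
      have h1 : orderOf (θ u₀) ∣ 2 := orderOf_dvd_of_pow_eq_one (by rw [pow_two, hθsq])
      have h2 : orderOf (θ u₀) ∣ 3 := by
        have := orderOf_dvd_card (x := (⟨θ u₀, hmem⟩ : alternatingGroup (atPoint (Ω := Ω) p)))
        rwa [hA, ← Subgroup.orderOf_coe] at this
      exact orderOf_eq_one_iff.mp (Nat.eq_one_of_dvd_coprimes (by norm_num) h1 h2)
    have h1 := congrArg (fun σ : Equiv.Perm (atPoint (Ω := Ω) p) => ((σ ⟨x, hx⟩ : atPoint (Ω := Ω) p) : G)) hone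
    have h2 : u * x * u⁻¹ = x := by simpa [θ, u₀] using h1
    exact mul_inv_eq_iff_eq_mul.mp h2
  have hunique : ∀ u : G, orderOf u = 2 → ∀ p q : G ⧸ blockStab Ω z, u • p = p → u • q = q → p = q := by
    intro u hu p q hup huq
    by_contra hpq
    set F : Finset (G ⧸ blockStab Ω z) := Finset.univ.filter fun r => u • r = r with hF
    set XC : Finset G := X.filter fun x => u * x = x * u with hXC
    have hc2 : 2 ≤ F.card := Finset.one_lt_card.mpr ⟨p, by simp [hF, hup], q, by simp [hF, huq], hpq⟩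
    have hclosed : ∀ x ∈ XC, ∀ r ∈ F, x • r ∈ F := fun x hx r hr => by
      simp only [hF, hXC, Finset.mem_filter, Finset.mem_univ, true_and] at hx hr ⊢
      rw [smul_smul, hx.2, mul_smul, hr]
    have hex : ∀ x ∈ XC, ∃ r ∈ F, x • r = r := fun x hx => by
      simp only [hXC, Finset.mem_filter] at hx
      obtain ⟨r, hr⟩ := h.exists_fixed ((hXmem x).mp hx.1)
      refine ⟨r, ?_, hr⟩
      simp only [hF, Finset.mem_filter, Finset.mem_univ, true_and]
      exact h.unique ((hXmem x).mp hx.1) (by rw [smul_smul, ← hx.2, mul_smul, hr]) hr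
    have hcnt := h.double_count XC (fun x hx => (hXmem x).mp (Finset.mem_filter.mp hx).1) F hclosed hex
    have hle2 : ∀ r ∈ F.offDiag, (XC.filter fun x => x • r.1 = r.2).card ≤ 2 := fun r hr => by
      simp only [Finset.mem_offDiag, hF, Finset.mem_filter, Finset.mem_univ, true_and] at hr
      refine le_trans (le_of_eq ?_) (h.commuting_swappers_le hr.2.2 hu hr.1 hr.2.1)
      rw [Set.ncard_eq_toFinset_card']
      exact congrArg _ (Finset.ext fun x => by simp [hXC, hXmem, swappers, and_assoc, and_comm, and_left_comm])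
    have hXCcard : 3 * F.card ≤ XC.card := by
      have hsub : F.biUnion (fun r => (atPoint (Ω := Ω) r).toFinset) ⊆ XC := by
        intro x hx
        simp only [Finset.mem_biUnion, Set.mem_toFinset, hF, Finset.mem_filter, Finset.mem_univ, true_and] at hx
        obtain ⟨r, hr, hx⟩ := hx
        obtain ⟨s, hs, hrs⟩ : ∃ s, u • s = s ∧ r ≠ s := by
          by_cases hrp : r = p
          · exact ⟨q, huq, hrp ▸ hpq⟩
          · exact ⟨p, hup, hrp⟩
        simp only [hXC, Finset.mem_filter, hXmem]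
        exact ⟨hx.1, hcentral u hu r s hrs hr hs x hx⟩
      refine le_trans (le_of_eq ?_) (Finset.card_le_card hsub)
      rw [Finset.card_biUnion fun a _ b _ hab => Finset.disjoint_left.mpr fun x hx hx' => by
        rw [Set.mem_toFinset] at hx hx'; exact hab (h.unique hx.1 hx.2 hx'.2)]
      have : ∀ r ∈ F, (atPoint (Ω := Ω) r).toFinset.card = 3 := fun r _ => by
        rw [← Set.ncard_eq_toFinset_card', card_atPoint r p₀, ← hi, hi3]
      rw [Finset.sum_congr rfl this, Finset.sum_const, smul_eq_mul, mul_comm]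
    have h1 := Finset.sum_le_sum hle2
    rw [hcnt, Finset.sum_const, smul_eq_mul, Finset.offDiag_card, ← Nat.mul_sub_one] at h1
    have h2 : 3 * (F.card * (F.card - 1)) ≤ 2 * (F.card * (F.card - 1)) :=
      le_trans (by rw [← mul_assoc]; exact Nat.mul_le_mul_right _ hXCcard) (h1.trans_eq (mul_comm _ _))
    have hpos : 0 < F.card * (F.card - 1) := Nat.mul_pos (by omega) (by omega)
    omega
  refine ⟨hK, even_iff_two_dvd.mpr (h.four.1 ▸ ?_), fun g hg => ?_⟩
  · have hz : z ∈ blockStab Ω z := h.sylow_le h.memS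
    rw [← Subgroup.orderOf_mk z hz]
    exact orderOf_dvd_natCard _
  · rw [← Nat.not_even_iff_odd]
    intro hev
    have : Fact (Nat.Prime 2) := ⟨Nat.prime_two⟩
    obtain ⟨⟨t, htK, htg⟩, ht⟩ := exists_prime_orderOf_dvd_card' 2 (even_iff_two_dvd.mp hev)
    rw [← Subgroup.orderOf_coe] at ht
    obtain ⟨k, hk, rfl⟩ := htg
    have h1 := hunique _ ht p₀ (g : G ⧸ blockStab Ω z) (by
      rw [hp₀, MulAction.Quotient.smul_mk, QuotientGroup.eq]
      simpa [MulAut.conj_apply, mul_inv_rev, mul_assoc] using (blockStab Ω z).inv_mem htK) (by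
      rw [MulAction.Quotient.smul_mk, QuotientGroup.eq]
      simpa [MulAut.conj_apply, mul_inv_rev, mul_assoc] using (blockStab Ω z).inv_mem hk)
    rw [hp₀, QuotientGroup.eq] at h1
    exact hg (by simpa using h1)

end

end Cfsg.Agent.FixityFour
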