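import Cfsg.Agent.Lib.FixityFour.Basic
/-!
# An element of order three with a Sylow centralizer of order nine (helper20)

In a non-abelian simple group with Sylow 3-subgroup `P` of order at least 27, an element `x` of order three
of `P` with `|C_P(x)| = 9` and `27 ∤ |C_G(x)|` is real.  Proof: the classes of the conjugates of `x` in `P`
are cosets of `P'`, so they define a set `C` of at most four points of `P/P' ≅ 3²` with no inverse pairs, and
the transfer of `x` is the product of `C` to a power prime to three, which is not trivial.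
-/

set_option autoImplicit false

namespace Cfsg.Agent.FixityFour

open Subgroup MulAction
open scoped commutatorElement

theorem fibers_card_le {P : Type*} [Group P] [Finite P] {α : Type*} (K : Subgroup P) (T : Set α) (hT : T.Finite)
    (f : P → α) (hfT : ∀ u, f u ∈ T) (hf : ∀ u v, f u = f v → u⁻¹ * v ∈ K) :
    Nat.card P ≤ T.ncard * Nat.card K := by
  classical
  have : Finite T := hT.to_subtype
  let rep : T → P := fun t => if h : ∃ u : P, f u = t then h.choose else 1
  have hrep : ∀ u : P, f (rep ⟨f u, hfT u⟩) = f u := fun u => by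
    have h : ∃ v : P, f v = ((⟨f u, hfT u⟩ : T) : α) := ⟨u, rfl⟩
    simp only [rep, dif_pos h]
    exact h.choose_spec
  rw [← Nat.card_coe_set_eq, ← Nat.card_prod]
  refine Nat.card_le_card_of_injective (fun u : P => ((⟨f u, hfT u⟩ : T),
    (⟨(rep ⟨f u, hfT u⟩)⁻¹ * u, hf _ u (hrep u)⟩ : K))) fun a b e => ?_
  simp only [Prod.mk.injEq, Subtype.mk.injEq] at e
  obtain ⟨e1, e2⟩ := e
  have : (⟨f a, hfT a⟩ : T) = ⟨f b, hfT b⟩ := Subtype.ext e1
  rw [this] at e2
  exact mul_left_cancel e2

/-- A finite `p`-group generated by one element and the commutator subgroup is commutative. -/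
theorem comm_of_sup_commutator {p : ℕ} [Fact p.Prime] {P : Type*} [Group P] [Finite P] (hP : IsPGroup p P)
    {y : P} (hy : zpowers y ⊔ commutator P = ⊤) : ∀ a b : P, a * b = b * a := by
  have := hP.isNilpotent
  suffices h : zpowers y = ⊤ by
    intro a b
    obtain ⟨i, rfl⟩ := mem_zpowers_iff.mp (h ▸ mem_top a : a ∈ zpowers y)
    obtain ⟨j, rfl⟩ := mem_zpowers_iff.mp (h ▸ mem_top b : b ∈ zpowers y)
    exact ((Commute.refl y).zpow_zpow i j).eq
  by_contra hne
  obtain ⟨M, hM, hyM⟩ := (eq_top_or_exists_le_coatom (zpowers y)).resolve_left hne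
  have : M.Normal := (Group.normalizerCondition_of_isNilpotent (G := P)).normal_of_coatom M hM
  have hcomm : commutator P ≤ M := by
    have hc : ∀ a b : P ⧸ M, a * b = b * a := by
      intro a b
      by_cases ha : a = 1
      · rw [ha, one_mul, mul_one]
      have htop : zpowers a = ⊤ := by
        have hlt : M < (zpowers a).comap (QuotientGroup.mk' M) := by
          refine lt_of_le_of_ne (fun m hm => ?_) fun e => ha ?_
          · rw [mem_comap, show QuotientGroup.mk' M m = 1 from (QuotientGroup.eq_one_iff m).mpr hm]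
            exact one_mem _
          · obtain ⟨m, rfl⟩ := QuotientGroup.mk'_surjective M a
            have hm : m ∈ (zpowers (QuotientGroup.mk' M m)).comap (QuotientGroup.mk' M) := mem_zpowers _
            rw [← e] at hm
            exact (QuotientGroup.eq_one_iff m).mpr hm
        have h1 := hM.2 _ hlt
        rw [← map_comap_eq_self_of_surjective (QuotientGroup.mk'_surjective M) (zpowers a), h1,
          Subgroup.map_top_of_surjective _ (QuotientGroup.mk'_surjective M)]
      obtain ⟨i, rfl⟩ := mem_zpowers_iff.mp (htop ▸ mem_top b : b ∈ zpowers a)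
      exact (Commute.self_zpow a i).eq
    rw [commutator_def, commutator_le]
    intro a _ b _
    refine (QuotientGroup.eq_one_iff _).mp ?_
    show QuotientGroup.mk' M ⁅a, b⁆ = 1
    rw [map_commutatorElement, commutatorElement_eq_one_iff_commute]
    exact hc _ _
  exact hM.1 (top_le_iff.mp (hy ▸ sup_le hyM hcomm))

theorem perfect_of_simple {G : Type*} [Group G] [IsSimpleGroup G] (hna : ¬ IsMulCommutative G) :
    commutator G = ⊤ :=
  (inferInstance : (commutator G).Normal).eq_bot_or_eq_top.resolve_left fun h => hna ⟨⟨fun a b => by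
    have : ⁅a, b⁆ ∈ commutator G := commutator_mem_commutator (mem_top a) (mem_top b)
    rw [h, mem_bot, commutatorElement_eq_one_iff_commute] at this
    exact this⟩⟩

theorem transfer_eq_one {G : Type*} [Group G] [Finite G] [IsSimpleGroup G] (hna : ¬ IsMulCommutative G)
    {H : Subgroup G} {A : Type*} [CommGroup A] (φ : H →* A) (g : G) : MonoidHom.transfer φ g = 1 :=
  Abelianization.commutator_subset_ker (MonoidHom.transfer φ) (perfect_of_simple hna ▸ mem_top g)

/-- A set of at most four elements of a group of exponent three and order nine without inverse pairs, of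
size prime to three, has a non-trivial product. -/
theorem prod_ne_one {Q : Type*} [CommGroup Q] [Finite Q] [DecidableEq Q] (h9 : Nat.card Q ≤ 9)
    (h3 : ∀ q : Q, q ^ 3 = 1) {C : Finset Q} (hinv : ∀ c ∈ C, c⁻¹ ∉ C) (hc : ¬ 3 ∣ C.card) :
    ∏ c ∈ C, c ≠ 1 := by
  classical
  have : Fintype Q := Fintype.ofFinite Q
  rw [Nat.card_eq_fintype_card] at h9
  have h1C : (1 : Q) ∉ C := fun h => hinv 1 h (by rwa [inv_one])
  have hsum : 2 * C.card + 1 ≤ 9 := by
    have hdis : Disjoint C (C.image (·⁻¹)) := Finset.disjoint_left.mpr fun c hc hc' => by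
      obtain ⟨d, hd, rfl⟩ := Finset.mem_image.mp hc'
      exact hinv d hd hc
    have h1 : ((1 : Q) : Q) ∉ C ∪ C.image (·⁻¹) := by
      simp only [Finset.mem_union, Finset.mem_image, inv_eq_one, exists_eq_right, or_self]
      exact h1C
    have h2 := Finset.card_le_univ (insert (1 : Q) (C ∪ C.image (·⁻¹)))
    rw [Finset.card_insert_of_notMem h1, Finset.card_union_of_disjoint hdis,
      Finset.card_image_of_injective _ inv_injective] at h2
    omega
  intro hp
  have hcard : C.card = 1 ∨ C.card = 2 ∨ C.card = 4 := by omega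
  rcases hcard with h | h | h
  · obtain ⟨c, rfl⟩ := Finset.card_eq_one.mp h
    rw [Finset.prod_singleton] at hp
    exact h1C (by simp [hp])
  · obtain ⟨c, d, hne, rfl⟩ := Finset.card_eq_two.mp h
    rw [Finset.prod_pair hne] at hp
    exact hinv c (by simp) (by simp [eq_inv_of_mul_eq_one_right hp])
  · obtain ⟨a, b, c, d, hab, hac, had, hbc, hbd, hcd, rfl⟩ := Finset.card_eq_four.mp h
    rw [Finset.prod_insert (by simp [hab, hac, had]), Finset.prod_insert (by simp [hbc, hbd]),
      Finset.prod_pair hcd, ← mul_assoc, ← mul_assoc] at hp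
    have ha1 : a ≠ 1 := fun e => h1C (by simp [e])
    have hia : ∀ x ∈ ({a, b, c, d} : Finset Q), x ≠ a⁻¹ := fun x hx e => hinv a (by simp) (e ▸ hx)
    -- every element is `a ^ i * b ^ j`
    have hsurj : ∀ q : Q, ∃ i j : Fin 3, a ^ (i : ℕ) * b ^ (j : ℕ) = q := by
      have hz : ∀ i : Fin 3, ∀ j : Fin 3, a ^ (i : ℕ) = a ^ (j : ℕ) → i = j := by
        intro i j e
        have ho : orderOf a = 3 := orderOf_eq_prime (h3 a) ha1
        exact Fin.ext (pow_injOn_Iio_orderOf (by simp [ho]) (by simp [ho]) e)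
      have hinj : Function.Injective (fun p : Fin 3 × Fin 3 => a ^ (p.1 : ℕ) * b ^ (p.2 : ℕ)) := by
        rintro ⟨i, j⟩ ⟨k, l⟩ e
        have e' : a ^ (i : ℕ) * b ^ (j : ℕ) = a ^ (k : ℕ) * b ^ (l : ℕ) := e
        by_cases hjl : j = l
        · subst hjl; exact Prod.ext (hz i k (mul_right_cancel e')) rfl
        exfalso
        have hbz : b ∈ zpowers a := by
          have h1 : b ^ ((j : ℤ) - (l : ℤ)) ∈ zpowers a := by
            have h4 : b ^ ((j : ℤ) - (l : ℤ)) = (a ^ (i : ℕ))⁻¹ * a ^ (k : ℕ) := by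
              rw [zpow_sub, zpow_natCast, zpow_natCast]
              calc b ^ (j : ℕ) * (b ^ (l : ℕ))⁻¹
                  = (a ^ (i : ℕ))⁻¹ * (a ^ (i : ℕ) * b ^ (j : ℕ)) * (b ^ (l : ℕ))⁻¹ := by group
                _ = (a ^ (i : ℕ))⁻¹ * (a ^ (k : ℕ) * b ^ (l : ℕ)) * (b ^ (l : ℕ))⁻¹ := by rw [e']
                _ = _ := by group
            rw [h4]
            exact mul_mem (inv_mem (pow_mem (mem_zpowers a) _)) (pow_mem (mem_zpowers a) _)
          have hb3 : b ^ (3 : ℤ) = 1 := by exact_mod_cast h3 b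
          have hd : (j : ℤ) - l = 1 ∨ (j : ℤ) - l = -1 ∨ (j : ℤ) - l = 2 ∨ (j : ℤ) - l = -2 := by
            have := Fin.val_ne_of_ne hjl
            omega
          rcases hd with e1 | e1 | e1 | e1 <;> rw [e1] at h1
          · simpa using h1
          · simpa using h1
          · have := inv_mem h1
            rwa [show (b ^ (2 : ℤ))⁻¹ = b by
              rw [inv_eq_iff_mul_eq_one, ← zpow_add_one]; exact hb3] at this
          · rw [zpow_neg] at h1
            rwa [show (b ^ (2 : ℤ))⁻¹ = b by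
              rw [inv_eq_iff_mul_eq_one, ← zpow_add_one]; exact hb3] at h1
        obtain ⟨n, hn, hb⟩ : ∃ n : ℕ, n < 3 ∧ a ^ n = b := by
          obtain ⟨n, hn⟩ := (mem_powers_iff_mem_zpowers).mpr hbz
          exact ⟨n % 3, Nat.mod_lt _ (by norm_num), (pow_eq_pow_mod n (h3 a)).symm.trans hn⟩
        interval_cases n
        · exact h1C (by simp [← hb])
        · exact hab (by simpa using hb)
        · exact hia b (by simp) (by rw [← hb]; exact eq_inv_of_mul_eq_one_left (by rw [← pow_succ]; exact h3 a))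
      have hbij := (Fintype.bijective_iff_injective_and_card _).mpr ⟨hinj, le_antisymm
        (Fintype.card_le_of_injective _ hinj) (h9.trans_eq (by simp))⟩
      intro q
      obtain ⟨⟨i, j⟩, hij⟩ := hbij.2 q
      exact ⟨i, j, hij⟩
    have hib : b⁻¹ ∉ ({a, b, c, d} : Finset Q) := hinv b (by simp)
    obtain ⟨i, j, hijc⟩ := hsurj c
    have e3a := h3 a
    have e3b := h3 b
    have hd : d = (a * b * c)⁻¹ := eq_inv_of_mul_eq_one_right hp
    have ha2 : a ^ 2 = a⁻¹ := eq_inv_of_mul_eq_one_left (by rw [← pow_succ]; exact e3a)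
    have hb2 : b ^ 2 = b⁻¹ := eq_inv_of_mul_eq_one_left (by rw [← pow_succ]; exact e3b)
    fin_cases i <;> fin_cases j <;> simp only [pow_zero, pow_one, one_mul, mul_one, ha2, hb2] at hijc <;>
      subst hijc
    · exact h1C (by simp)
    · exact hbc rfl
    · exact hib (by simp)
    · exact hac rfl
    · refine hcd ?_
      rw [hd, eq_comm, inv_eq_iff_mul_eq_one]
      calc a * b * (a * b) * (a * b) = a ^ 3 * b ^ 3 := by simp only [pow_succ, pow_zero, one_mul]; ac_rfl
        _ = 1 := by rw [e3a, e3b, one_mul]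
    · refine had ?_
      rw [hd, eq_comm, inv_eq_iff_mul_eq_one]
      calc a * b * (a * b⁻¹) * a = a ^ 3 * (b * b⁻¹) := by simp only [pow_succ, pow_zero, one_mul]; ac_rfl
        _ = 1 := by rw [e3a, mul_inv_cancel, one_mul]
    · exact hia a⁻¹ (by simp) rfl
    · refine hbd ?_
      rw [hd, eq_comm, inv_eq_iff_mul_eq_one]
      calc a * b * (a⁻¹ * b) * b = a * a⁻¹ * b ^ 3 := by simp only [pow_succ, pow_zero, one_mul]; ac_rfl
        _ = 1 := by rw [e3b, mul_inv_cancel, one_mul]
    · refine h1C ?_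
      have : d = 1 := by
        rw [hd, inv_eq_one]
        calc a * b * (a⁻¹ * b⁻¹) = a * a⁻¹ * (b * b⁻¹) := by ac_rfl
          _ = 1 := by rw [mul_inv_cancel, mul_inv_cancel, one_mul]
      simp [← this]

theorem false_of_small_centralizer {G : Type*} [Group G] [Finite G] [IsSimpleGroup G]
    (hna : ¬ IsMulCommutative G) (P : Sylow 3 G) {x : G} (hxP : x ∈ P) (hx : orderOf x = 3)
    (hC : Nat.card ↥((P : Subgroup G) ⊓ centralizer ({x} : Set G)) = 9)
    (hCG : ¬ 27 ∣ Nat.card (centralizer ({x} : Set G)))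
    (hreal : ∀ g : G, g * x * g⁻¹ ≠ x⁻¹) (h27 : 27 ≤ Nat.card P) : False := by
  classical
  have h3f : Fact (Nat.Prime 3) := ⟨Nat.prime_three⟩
  have : Fintype G := Fintype.ofFinite G
  set P₀ : Subgroup G := (P : Subgroup G) with hP₀
  have hP : IsPGroup 3 P₀ := P.2
  let π : P₀ →* Abelianization P₀ := Abelianization.of
  have hπs : Function.Surjective π := QuotientGroup.mk'_surjective _
  have hker : ∀ u : P₀, π u = 1 ↔ u ∈ commutator P₀ := fun u => QuotientGroup.eq_one_iff u
  -- centralizers in `P` of conjugates of `x`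
  have hCy : ∀ g : G, Nat.card ↥(P₀ ⊓ centralizer ({g⁻¹ * x * g} : Set G)) ≤ 9 := by
    intro g
    set U := P₀ ⊓ centralizer ({g⁻¹ * x * g} : Set G)
    obtain ⟨k, hk⟩ := (hP.to_le (inf_le_left : U ≤ P₀)).exists_card_eq
    have hmap : U.map (MulAut.conj g).toMonoidHom ≤ centralizer ({x} : Set G) := by
      rintro _ ⟨u, hu, rfl⟩
      rw [mem_centralizer_singleton_iff]
      have h1 := mem_centralizer_singleton_iff.mp hu.2
      show g * u * g⁻¹ * x = x * (g * u * g⁻¹)
      calc g * u * g⁻¹ * x = g * (u * (g⁻¹ * x * g)) * g⁻¹ := by group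
        _ = g * (g⁻¹ * x * g * u) * g⁻¹ := by rw [h1]
        _ = x * (g * u * g⁻¹) := by group
    have h1 := card_dvd_of_le hmap
    rw [card_map_of_injective (MulEquiv.injective _), hk] at h1
    rw [hk]
    by_contra hlt
    have : 3 ≤ k := by
      by_contra hk3
      have := Nat.pow_le_pow_right (show 1 ≤ 3 by norm_num) (show k ≤ 2 by omega)
      omega
    exact hCG ((pow_dvd_pow 3 this).trans h1)
  -- classes are cosets of the commutator subgroup
  have hclass : ∀ g : G, ∀ hy : g⁻¹ * x * g ∈ P₀,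
      Nat.card (Abelianization P₀) ≤ 9 ∧ (Nat.card (Abelianization P₀) = 9 → ∀ v : P₀, π v = π ⟨_, hy⟩ →
        ∃ u : P₀, u * ⟨_, hy⟩ * u⁻¹ = v) := by
    intro g hy
    set y : P₀ := ⟨g⁻¹ * x * g, hy⟩
    set T : Set P₀ := Set.range (fun u : P₀ => u * y * u⁻¹) with hT
    have h1 := fibers_card_le (centralizer ({y} : Set P₀)) T (Set.toFinite _) (fun u => u * y * u⁻¹)
      (fun u => ⟨u, rfl⟩) fun u v e => by
        rw [mem_centralizer_singleton_iff]
        calc u⁻¹ * v * y = u⁻¹ * (v * y * v⁻¹) * v := by group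
          _ = u⁻¹ * (u * y * u⁻¹) * v := by rw [e]
          _ = y * (u⁻¹ * v) := by group
    have h2 : Nat.card (centralizer ({y} : Set P₀)) ≤ 9 := by
      refine le_trans (le_of_eq ?_) (hCy g)
      rw [← card_map_of_injective P₀.subtype_injective]
      refine congrArg (fun H : Subgroup G => Nat.card H) (Subgroup.ext fun u => ?_)
      simp only [Subgroup.mem_map, mem_centralizer_singleton_iff, Subgroup.coe_subtype, Subgroup.mem_inf]
      constructor
      · rintro ⟨v, hv, rfl⟩
        exact ⟨v.2, congrArg Subtype.val hv⟩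
      · rintro ⟨hu, hu'⟩
        exact ⟨⟨u, hu⟩, Subtype.ext hu', rfl⟩
    set D : Set P₀ := {v | π v = π y} with hD
    have hTD : T ⊆ D := by
      rintro _ ⟨u, rfl⟩
      show π (u * y * u⁻¹) = π y
      rw [map_mul, map_mul, map_inv, mul_inv_eq_iff_eq_mul, mul_comm]
    have hDcard : D.ncard = Nat.card (commutator P₀) := by
      rw [← Nat.card_coe_set_eq]
      exact Nat.card_congr
        { toFun := fun v => ⟨y⁻¹ * v.1, (hker _).mp (by rw [map_mul, map_inv, show π v.1 = π y from v.2, inv_mul_cancel])⟩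
          invFun := fun w => ⟨y * w.1, by show π (y * w.1) = π y; rw [map_mul, (hker _).mpr w.2, mul_one]⟩
          left_inv := fun v => Subtype.ext (mul_inv_cancel_left _ _)
          right_inv := fun w => Subtype.ext (inv_mul_cancel_left _ _) }
    have hidx := (commutator P₀).card_mul_index
    rw [index_eq_card] at hidx
    have hQ : Nat.card (P₀ ⧸ commutator P₀) = Nat.card (Abelianization P₀) := rfl
    rw [hQ] at hidx
    have h3 : T.ncard ≤ Nat.card (commutator P₀) := hDcard ▸ Set.ncard_le_ncard hTD (Set.toFinite _)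
    have h4 : Nat.card P₀ ≤ Nat.card (commutator P₀) * 9 := h1.trans (Nat.mul_le_mul h3 h2)
    refine ⟨Nat.le_of_mul_le_mul_left (by rw [hidx]; exact h4) Nat.card_pos, fun h9 v hv => ?_⟩
    rw [h9] at hidx
    have h5 : Nat.card (commutator P₀) ≤ T.ncard := by
      have := h1.trans (Nat.mul_le_mul_left _ h2)
      rw [← hidx] at this
      exact Nat.le_of_mul_le_mul_right this (by norm_num)
    have hTeq := Set.eq_of_subset_of_ncard_le hTD (by rw [hDcard]; exact h5) (Set.toFinite _)
    exact hTeq.symm.subset hv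
  have hx1 : (1 : G)⁻¹ * x * 1 ∈ P₀ := by rw [inv_one, one_mul, mul_one]; exact hxP
  have hQ9 : Nat.card (Abelianization P₀) = 9 := by
    refine le_antisymm (hclass 1 hx1).1 ?_
    by_contra hlt
    obtain ⟨k, hk⟩ := (hP.of_surjective π hπs).exists_card_eq
    have hk1 : k ≤ 1 := by
      by_contra h2
      have := Nat.pow_le_pow_right (show 1 ≤ 3 by norm_num) (show 2 ≤ k by omega)
      omega
    obtain ⟨q, hq⟩ : ∃ q : Abelianization P₀, zpowers q = ⊤ := by
      rcases Nat.le_one_iff_eq_zero_or_eq_one.mp hk1 with rfl | rfl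
      · refine ⟨1, (Subgroup.card_eq_iff_eq_top _).mp ?_⟩
        rw [Nat.card_zpowers, orderOf_one, hk, pow_zero]
      · rw [pow_one] at hk
        have : IsCyclic (Abelianization P₀) := isCyclic_of_prime_card hk
        obtain ⟨q, hq⟩ := IsCyclic.exists_generator (α := Abelianization P₀)
        exact ⟨q, eq_top_iff.mpr fun u _ => hq u⟩
    obtain ⟨y, rfl⟩ := hπs q
    have hsup : zpowers y ⊔ commutator P₀ = ⊤ := by
      rw [eq_top_iff]
      intro u _
      obtain ⟨i, hi⟩ := mem_zpowers_iff.mp (hq ▸ mem_top (π u) : π u ∈ zpowers (π y))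
      have : (y ^ i)⁻¹ * u ∈ commutator P₀ := (hker _).mp (by rw [map_mul, map_inv, map_zpow, hi, inv_mul_cancel])
      have h2 := mul_mem (mem_sup_left (zpow_mem (mem_zpowers y) i) : y ^ i ∈ zpowers y ⊔ commutator P₀)
        (mem_sup_right this)
      rwa [mul_inv_cancel_left] at h2
    have hab := comm_of_sup_commutator hP hsup
    have hle : P₀ ≤ centralizer ({x} : Set G) := fun u hu =>
      mem_centralizer_singleton_iff.mpr (congrArg Subtype.val (hab ⟨u, hu⟩ ⟨x, hxP⟩))
    rw [inf_eq_left.mpr hle] at hC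
    omega
  have hQ3 : ∀ q : Abelianization P₀, q ^ 3 = 1 := by
    intro q
    by_contra hq3
    -- otherwise the quotient is cyclic and `P` abelian
    obtain ⟨k, hk⟩ := IsPGroup.iff_orderOf.mp (hP.of_surjective π hπs) q
    have hk2 : 2 ≤ k := by
      by_contra h2
      refine hq3 (orderOf_dvd_iff_pow_eq_one.mp ?_)
      rw [hk]
      exact (pow_dvd_pow 3 (show k ≤ 1 by omega)).trans (by norm_num)
    have htop : zpowers q = ⊤ := eq_top_of_le_card _ (by
      rw [Nat.card_zpowers, hk, hQ9]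
      calc 9 = 3 ^ 2 := by norm_num
        _ ≤ 3 ^ k := Nat.pow_le_pow_right (by norm_num) hk2)
    obtain ⟨y, rfl⟩ := hπs q
    have hsup : zpowers y ⊔ commutator P₀ = ⊤ := by
      rw [eq_top_iff]
      intro u _
      obtain ⟨i, hi⟩ := mem_zpowers_iff.mp (htop ▸ mem_top (π u) : π u ∈ zpowers (π y))
      have : (y ^ i)⁻¹ * u ∈ commutator P₀ := (hker _).mp (by rw [map_mul, map_inv, map_zpow, hi, inv_mul_cancel])
      have h2 := mul_mem (mem_sup_left (zpow_mem (mem_zpowers y) i) : y ^ i ∈ zpowers y ⊔ commutator P₀)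
        (mem_sup_right this)
      rwa [mul_inv_cancel_left] at h2
    have hab := comm_of_sup_commutator hP hsup
    have hle : P₀ ≤ centralizer ({x} : Set G) := fun u hu =>
      mem_centralizer_singleton_iff.mpr (congrArg Subtype.val (hab ⟨u, hu⟩ ⟨x, hxP⟩))
    rw [inf_eq_left.mpr hle] at hC
    omega
  -- the fixed cosets and their values
  have : Fintype (G ⧸ P₀) := Fintype.ofFinite _
  let val : G ⧸ P₀ → Abelianization P₀ := fun q => if hq : q.out⁻¹ * x * q.out ∈ P₀ then π ⟨_, hq⟩ else 1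
  set F : Finset (G ⧸ P₀) := Finset.univ.filter fun q => x • q = q with hF
  have hfixmem : ∀ q : G ⧸ P₀, x • q = q ↔ q.out⁻¹ * x * q.out ∈ P₀ := fun q => by
    conv_lhs => rw [← q.out_eq]
    rw [MulAction.Quotient.smul_mk, eq_comm, QuotientGroup.eq, smul_eq_mul, mul_assoc]
  have hvmk : ∀ g : G, ∀ hg : g⁻¹ * x * g ∈ P₀, val (g : G ⧸ P₀) = π ⟨_, hg⟩ := by
    intro g hg
    obtain ⟨p, hp⟩ := QuotientGroup.mk_out_eq_mul P₀ g
    have hq : ((g : G ⧸ P₀).out)⁻¹ * x * (g : G ⧸ P₀).out ∈ P₀ := by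
      rw [hp, mul_inv_rev, show (p : G)⁻¹ * g⁻¹ * x * (g * p) = (p : G)⁻¹ * (g⁻¹ * x * g) * p by group]
      exact mul_mem (mul_mem (inv_mem p.2) hg) p.2
    simp only [val, dif_pos hq]
    have e : (⟨_, hq⟩ : P₀) = p⁻¹ * ⟨_, hg⟩ * p := Subtype.ext (by
      show ((g : G ⧸ P₀).out)⁻¹ * x * (g : G ⧸ P₀).out = (p : G)⁻¹ * (g⁻¹ * x * g) * p
      rw [hp]; group)
    rw [e, map_mul, map_mul, map_inv, mul_right_comm, inv_mul_cancel, one_mul]
  set C : Finset (Abelianization P₀) := F.image val with hCdef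
  set Cx := centralizer ({x} : Set G)
  set m := Nat.card Cx / 9
  have h9dvd : 9 ∣ Nat.card Cx := by
    rw [← hC]; exact card_dvd_of_le inf_le_right
  have hm3 : ¬ 3 ∣ m := fun h => hCG (by
    obtain ⟨t, ht⟩ := h
    exact ⟨t, by rw [← Nat.mul_div_cancel' h9dvd]; change 9 * m = _; rw [ht]; ring⟩)
  have hfiber : ∀ c ∈ C, (F.filter fun q => val q = c).card = m := by
    intro c hc
    obtain ⟨q₀, hq₀, rfl⟩ := Finset.mem_image.mp hc
    rw [hF, Finset.mem_filter] at hq₀
    obtain ⟨g₀, rfl⟩ := QuotientGroup.mk_surjective q₀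
    have hy₀ : g₀⁻¹ * x * g₀ ∈ P₀ := by
      have h := hq₀.2
      rw [MulAction.Quotient.smul_mk, eq_comm, QuotientGroup.eq, smul_eq_mul, ← mul_assoc] at h
      exact h
    set U := P₀ ⊓ centralizer ({g₀⁻¹ * x * g₀} : Set G)
    have horb : ∀ q : G ⧸ P₀, q ∈ F.filter (fun q => val q = val (g₀ : G ⧸ P₀)) ↔
        q ∈ MulAction.orbit Cx (g₀ : G ⧸ P₀) := by
      intro q
      obtain ⟨g, rfl⟩ := QuotientGroup.mk_surjective q
      constructor
      · intro hq
        rw [Finset.mem_filter, hF, Finset.mem_filter] at hq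
        have hy : g⁻¹ * x * g ∈ P₀ := by
          have h := hq.1.2
          rw [MulAction.Quotient.smul_mk, eq_comm, QuotientGroup.eq, smul_eq_mul, ← mul_assoc] at h
          exact h
        have hv := hq.2
        rw [hvmk g hy, hvmk g₀ hy₀] at hv
        obtain ⟨u, hu⟩ := (hclass g₀ hy₀).2 hQ9 _ hv
        have hu' : (u : G) * (g₀⁻¹ * x * g₀) * (u : G)⁻¹ = g⁻¹ * x * g := congrArg Subtype.val hu
        refine ⟨⟨g * u * g₀⁻¹, mem_centralizer_singleton_iff.mpr ?_⟩, ?_⟩
        · calc g * (u : G) * g₀⁻¹ * x = g * ((u : G) * (g₀⁻¹ * x * g₀) * (u : G)⁻¹) * u * g₀⁻¹ := by group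
            _ = g * (g⁻¹ * x * g) * u * g₀⁻¹ := by rw [hu']
            _ = x * (g * u * g₀⁻¹) := by group
        · show ((g * u * g₀⁻¹ * g₀ : G) : G ⧸ P₀) = g
          rw [inv_mul_cancel_right]
          exact QuotientGroup.mk_mul_of_mem g u.2
      · rintro ⟨⟨h, hh⟩, hq⟩
        have hq' : ((h * g₀ : G) : G ⧸ P₀) = g := hq
        have hh' := mem_centralizer_singleton_iff.mp hh
        have e : (h * g₀)⁻¹ * x * (h * g₀) = g₀⁻¹ * x * g₀ := by
          rw [mul_inv_rev, show g₀⁻¹ * h⁻¹ * x * (h * g₀) = g₀⁻¹ * h⁻¹ * (x * h) * g₀ by group, ← hh']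
          group
        have hy : (h * g₀)⁻¹ * x * (h * g₀) ∈ P₀ := e ▸ hy₀
        rw [← hq', Finset.mem_filter, hF, Finset.mem_filter]
        refine ⟨⟨Finset.mem_univ _, ?_⟩, ?_⟩
        · rw [MulAction.Quotient.smul_mk, eq_comm, QuotientGroup.eq, smul_eq_mul, ← mul_assoc]; exact hy
        · rw [hvmk _ hy, hvmk g₀ hy₀]
          congr 1
          exact Subtype.ext e
    have hstab : Nat.card (MulAction.stabilizer Cx (g₀ : G ⧸ P₀)) = Nat.card U := by
      refine Nat.card_congr
        { toFun := fun h => ⟨g₀⁻¹ * (h : Cx) * g₀, ?_⟩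
          invFun := fun u => ⟨⟨g₀ * u * g₀⁻¹, ?_⟩, ?_⟩
          left_inv := fun h => Subtype.ext (Subtype.ext (by simp [mul_assoc]))
          right_inv := fun u => Subtype.ext (by simp [mul_assoc]) }
      · refine Subgroup.mem_inf.mpr ⟨?_, mem_centralizer_singleton_iff.mpr ?_⟩
        · have h1 : (((h : Cx) : G) * g₀ : G) = ((g₀ : G) : G ⧸ P₀) := h.2
          have h2 := QuotientGroup.eq.mp h1.symm
          rwa [← mul_assoc] at h2
        · have h1 := mem_centralizer_singleton_iff.mp (h : Cx).2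
          calc g₀⁻¹ * ((h : Cx) : G) * g₀ * (g₀⁻¹ * x * g₀) = g₀⁻¹ * (((h : Cx) : G) * x) * g₀ := by group
            _ = g₀⁻¹ * x * g₀ * (g₀⁻¹ * ((h : Cx) : G) * g₀) := by rw [h1]; group
      · refine mem_centralizer_singleton_iff.mpr ?_
        have h1 := mem_centralizer_singleton_iff.mp u.2.2
        calc g₀ * (u : G) * g₀⁻¹ * x = g₀ * ((u : G) * (g₀⁻¹ * x * g₀)) * g₀⁻¹ := by group
          _ = x * (g₀ * u * g₀⁻¹) := by rw [h1]; group
      · show ((g₀ * (u : G) * g₀⁻¹ * g₀ : G) : G ⧸ P₀) = (g₀ : G)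
        rw [inv_mul_cancel_right]
        exact QuotientGroup.mk_mul_of_mem g₀ u.2.1
    have hU : Nat.card U = 9 := by
      refine le_antisymm (hCy g₀) ?_
      have hrng := fibers_card_le (centralizer ({(⟨_, hy₀⟩ : P₀)} : Set P₀))
        {v : P₀ | π v = π ⟨_, hy₀⟩} (Set.toFinite _) (fun u => u * ⟨_, hy₀⟩ * u⁻¹) (fun u => by
          show π (u * ⟨_, hy₀⟩ * u⁻¹) = _
          rw [map_mul, map_mul, map_inv, mul_inv_eq_iff_eq_mul, mul_comm]) fun u v e => by
          rw [mem_centralizer_singleton_iff]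
          calc u⁻¹ * v * ⟨_, hy₀⟩ = u⁻¹ * (v * ⟨_, hy₀⟩ * v⁻¹) * v := by group
            _ = u⁻¹ * (u * ⟨_, hy₀⟩ * u⁻¹) * v := by rw [e]
            _ = ⟨_, hy₀⟩ * (u⁻¹ * v) := by group
      have hc1 : {v : P₀ | π v = π ⟨_, hy₀⟩}.ncard = Nat.card (commutator P₀) := by
        rw [← Nat.card_coe_set_eq]
        exact Nat.card_congr
          { toFun := fun v => ⟨(⟨_, hy₀⟩ : P₀)⁻¹ * v.1, (hker _).mp (by
              rw [map_mul, map_inv, show π v.1 = π ⟨_, hy₀⟩ from v.2, inv_mul_cancel])⟩
            invFun := fun w => ⟨⟨_, hy₀⟩ * w.1, by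
              show π (⟨_, hy₀⟩ * w.1) = π ⟨_, hy₀⟩
              rw [map_mul, (hker _).mpr w.2, mul_one]⟩
            left_inv := fun v => Subtype.ext (mul_inv_cancel_left _ _)
            right_inv := fun w => Subtype.ext (inv_mul_cancel_left _ _) }
      have hidx : Nat.card (commutator P₀) * Nat.card (Abelianization P₀) = Nat.card P₀ := by
        rw [← (commutator P₀).card_mul_index, index_eq_card]; rfl
      have hc2 : Nat.card (centralizer ({(⟨_, hy₀⟩ : P₀)} : Set P₀)) ≤ Nat.card U := by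
        refine Nat.card_le_card_of_injective (fun u => (⟨((u : P₀) : G), ?_⟩ : U)) fun a b e => ?_
        · exact Subgroup.mem_inf.mpr ⟨(u : P₀).2, mem_centralizer_singleton_iff.mpr
            (congrArg Subtype.val (mem_centralizer_singleton_iff.mp u.2))⟩
        · exact Subtype.ext (Subtype.ext (congrArg (Subtype.val : U → G) e))
      rw [hc1, ← hidx, hQ9] at hrng
      have h1 := hrng.trans (Nat.mul_le_mul_left _ hc2)
      exact Nat.le_of_mul_le_mul_left h1 Nat.card_pos
    have horbset : MulAction.orbit Cx (g₀ : G ⧸ P₀) =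
        ((F.filter (fun q => val q = val (g₀ : G ⧸ P₀)) : Finset _) : Set (G ⧸ P₀)) :=
      Set.ext fun q => (horb q).symm
    have h1 := MulAction.card_orbit_mul_card_stabilizer_eq_card_group Cx (g₀ : G ⧸ P₀)
    rw [← Nat.card_eq_fintype_card, ← Nat.card_eq_fintype_card, ← Nat.card_eq_fintype_card, hstab, hU,
      Nat.card_coe_set_eq, horbset, Set.ncard_coe_finset] at h1
    show _ = Nat.card Cx / 9
    rw [← h1, Nat.mul_div_cancel _ (by norm_num)]
  -- the transfer
  have hV := transfer_eq_one hna π x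
  have : Fintype (Quotient (orbitRel (zpowers x) (G ⧸ P₀))) := Fintype.ofFinite _
  rw [MonoidHom.transfer_eq_prod_quotient_orbitRel_zpowers_quot] at hV
  have hper : ∀ q : G ⧸ P₀, Function.minimalPeriod (x • ·) q = 1 ∨ Function.minimalPeriod (x • ·) q = 3 := by
    intro q
    refine (Nat.dvd_prime Nat.prime_three).mp (Function.IsPeriodicPt.minimalPeriod_dvd ?_)
    show (x • ·)^[3] q = q
    rw [smul_iterate]
    show x ^ 3 • q = q
    rw [← hx, pow_orderOf_eq_one, one_smul]
  have hfixout : ∀ q : G ⧸ P₀, x • q = q → (Quotient.mk'' q : Quotient (orbitRel (zpowers x) (G ⧸ P₀))).out = q := by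
    intro q hq
    set o : Quotient (orbitRel (zpowers x) (G ⧸ P₀)) := Quotient.mk'' q
    obtain ⟨⟨u, hu⟩, hux⟩ := orbitRel_apply.mp (Quotient.exact (Quotient.out_eq o))
    obtain ⟨n, rfl⟩ := mem_zpowers_iff.mp hu
    rw [← hux]
    show x ^ n • q = q
    exact mem_stabilizer_iff.mp ((stabilizer G q).zpow_mem (mem_stabilizer_iff.mpr hq) n)
  have hprodF : ∏ q ∈ F, val q = 1 := by
    rw [← hV, ← Finset.prod_filter_mul_prod_filter_not Finset.univ
      (fun o : Quotient (orbitRel (zpowers x) (G ⧸ P₀)) => x • o.out = o.out)]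
    refine ((congrArg₂ (· * ·) ?_ ?_).trans (mul_one _)).symm
    rotate_left
    · refine Finset.prod_eq_one fun o ho => ?_
      simp only [Finset.mem_filter, Finset.mem_univ, true_and] at ho
      have h3 : Function.minimalPeriod (x • ·) o.out = 3 := (hper _).resolve_left fun h1 =>
        ho (Function.minimalPeriod_eq_one_iff_isFixedPt.mp h1)
      have e : (⟨o.out.out⁻¹ * x ^ Function.minimalPeriod (x • ·) o.out * o.out.out,
          QuotientGroup.out_conj_pow_minimalPeriod_mem P₀ x o.out⟩ : P₀) = 1 := Subtype.ext (by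
        show o.out.out⁻¹ * x ^ Function.minimalPeriod (x • ·) o.out * o.out.out = 1
        rw [h3, ← hx, pow_orderOf_eq_one, mul_one, inv_mul_cancel])
      rw [e, map_one]
    · refine Eq.symm (Finset.prod_bij (fun q _ => Quotient.mk'' q) (fun q hq => ?_) (fun a ha b hb e => ?_)
        (fun o ho => ⟨o.out, ?_, Quotient.out_eq' o⟩) fun q hq => ?_)
      · simp only [hF, Finset.mem_filter, Finset.mem_univ, true_and] at hq ⊢
        rw [hfixout q hq]; exact hq
      · simp only [hF, Finset.mem_filter, Finset.mem_univ, true_and] at ha hb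
        rw [← hfixout a ha, ← hfixout b hb]; exact congrArg _ e
      · simp only [hF, Finset.mem_filter, Finset.mem_univ, true_and] at ho ⊢
        exact ho
      · simp only [hF, Finset.mem_filter, Finset.mem_univ, true_and] at hq
        have ho := hfixout q hq
        set o : Quotient (orbitRel (zpowers x) (G ⧸ P₀)) := Quotient.mk'' q
        have hmem := (hfixmem q).mp hq
        simp only [val, dif_pos hmem]
        congr 1
        refine Subtype.ext ?_
        have h1 : Function.minimalPeriod (x • ·) o.out = 1 := by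
          rw [Function.minimalPeriod_eq_one_iff_isFixedPt, ho]; exact hq
        show q.out⁻¹ * x * q.out = o.out.out⁻¹ * x ^ Function.minimalPeriod (x • ·) o.out * o.out.out
        rw [h1, pow_one, ho]
  have hcard : F.card = C.card * m := by
    rw [Finset.card_eq_sum_card_fiberwise (f := val) (t := C) (fun q hq => Finset.mem_image_of_mem val hq),
      Finset.sum_congr rfl hfiber, Finset.sum_const, smul_eq_mul]
  have hprodC : (∏ c ∈ C, c) ^ m = 1 := by
    rw [← Finset.prod_pow, ← hprodF, ← Finset.prod_fiberwise_of_maps_to (g := val) (t := C)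
      (fun q hq => Finset.mem_image_of_mem val hq)]
    refine Finset.prod_congr rfl fun c hc => ?_
    rw [Finset.prod_congr rfl (fun q hq => (Finset.mem_filter.mp hq).2), Finset.prod_const, hfiber c hc]
  have hC3 : ¬ 3 ∣ C.card := by
    intro h
    have hz : IsPGroup 3 (zpowers x) := IsPGroup.of_card (n := 1) (by rw [Nat.card_zpowers, hx, pow_one])
    have h1 := hz.card_modEq_card_fixedPoints (G ⧸ P₀)
    have h2 : Nat.card (fixedPoints (zpowers x) (G ⧸ P₀)) = F.card := by
      rw [← Set.ncard_coe_finset, Nat.card_coe_set_eq]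
      congr 1
      ext q
      simp only [hF, MulAction.mem_fixedPoints, Finset.coe_filter, Finset.mem_univ, true_and, Set.mem_setOf_eq]
      refine ⟨fun h => h ⟨x, mem_zpowers x⟩, fun h u => ?_⟩
      obtain ⟨i, hi⟩ := mem_zpowers_iff.mp u.2
      show (u : G) • q = q
      rw [← hi]
      exact mem_stabilizer_iff.mp ((stabilizer G q).zpow_mem (mem_stabilizer_iff.mpr h) i)
    rw [h2, hcard, ← index_eq_card] at h1
    refine P.not_dvd_index ((Nat.modEq_zero_iff_dvd).mp (h1.trans ?_))
    exact (Nat.modEq_zero_iff_dvd).mpr (h.mul_right m)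
  have hinv : ∀ c ∈ C, c⁻¹ ∉ C := by
    intro c hc hc'
    obtain ⟨q, hq, rfl⟩ := Finset.mem_image.mp hc
    obtain ⟨r, hr, hr'⟩ := Finset.mem_image.mp hc'
    simp only [hF, Finset.mem_filter, Finset.mem_univ, true_and] at hq hr
    have hq' := (hfixmem q).mp hq
    have hr'' := (hfixmem r).mp hr
    simp only [val, dif_pos hq', dif_pos hr''] at hr'
    rw [← map_inv] at hr'
    obtain ⟨u, hu⟩ := (hclass r.out hr'').2 hQ9 _ hr'.symm
    have hu' : (u : G) * (r.out⁻¹ * x * r.out) * (u : G)⁻¹ = (q.out⁻¹ * x * q.out)⁻¹ := congrArg Subtype.val hu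
    refine hreal (q.out * u * r.out⁻¹) ?_
    calc q.out * (u : G) * r.out⁻¹ * x * (q.out * u * r.out⁻¹)⁻¹
        = q.out * ((u : G) * (r.out⁻¹ * x * r.out) * (u : G)⁻¹) * q.out⁻¹ := by group
      _ = q.out * (q.out⁻¹ * x * q.out)⁻¹ * q.out⁻¹ := by rw [hu']
      _ = x⁻¹ := by group
  have hp : ∏ c ∈ C, c = 1 :=
    orderOf_eq_one_iff.mp (Nat.eq_one_of_dvd_coprimes
      ((Nat.prime_three.coprime_iff_not_dvd).mpr hm3)
      (orderOf_dvd_of_pow_eq_one (hQ3 _)) (orderOf_dvd_of_pow_eq_one hprodC))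
  exact prod_ne_one hQ9.le hQ3 hinv hC3 hp

end Cfsg.Agent.FixityFour
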