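import Cfsg.Agent.Lib.FixityFour.OddThree
import Cfsg.Agent.Lib.Fixity.TwoGroup
import Cfsg.Prelude.Def_Involutions
/-!
# Fixity four: parity of fixed points, and involutions fixing at most three points (helper20)

All permutations are even in a non-abelian simple group, so the fixed point numbers of involutions are
congruent to the degree modulo four. When this number is at most three, either a setwise stabiliser is
strongly embedded or a Sylow 2-subgroup is dihedral or quasidihedral.
-/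

set_option autoImplicit false

namespace Cfsg.Agent.FixityFour

open Subgroup MulAction
open scoped Pointwise

variable {G : Type*} [Group G] {Ω : Type*} [MulAction G Ω] [Finite Ω]

/-- A non-identity element fixing four points forces more than four points. -/
theorem four_lt_degree [FaithfulSMul G Ω] {g : G} (hg : g ≠ 1) (h4 : Nat.card (fixedBy Ω g) = 4) :
    4 < Nat.card Ω := by
  by_contra hle
  refine hg (FaithfulSMul.eq_of_smul_eq_smul (α := Ω) fun b => ?_)
  rw [one_smul]
  have h1 : fixedBy Ω g = Set.univ := Set.eq_of_subset_of_ncard_le (Set.subset_univ _)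
    (by rw [Set.ncard_univ, ← Nat.card_coe_set_eq, h4]; omega) (Set.toFinite _)
  exact (h1.symm ▸ Set.mem_univ b : b ∈ fixedBy Ω g)

/-- The fixed point numbers of involutions are congruent to the degree modulo four. -/
theorem involution_fix_mod [IsSimpleGroup G] [FaithfulSMul G Ω] (hna : ¬ IsMulCommutative G) {t : G}
    (ht : orderOf t = 2) : (fixedBy Ω t).ncard % 4 = Nat.card Ω % 4 := by
  classical
  have : Fintype Ω := Fintype.ofFinite Ω
  set π := toPermHom G Ω with hπ
  -- every permutation is even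
  have hsign : Equiv.Perm.sign (π t) = 1 := by
    rcases (Equiv.Perm.sign.comp π).normal_ker.eq_bot_or_eq_top with h | h
    · exfalso
      refine hna ⟨⟨fun a b => (MonoidHom.ker_eq_bot_iff _).mp h ?_⟩⟩
      rw [map_mul, map_mul, mul_comm]
    · exact MonoidHom.mem_ker.mp (show t ∈ (Equiv.Perm.sign.comp π).ker from h ▸ mem_top t)
  have ho : orderOf (π t) = 2 := by
    rw [orderOf_injective π MulAction.toPerm_injective t, ht]
  obtain ⟨j, hj⟩ := Equiv.Perm.cycleType_prime_order (σ := π t) (by rw [ho]; exact Nat.prime_two)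
  have hsum := Equiv.Perm.sum_cycleType (π t)
  rw [ho] at hj
  rw [hj, Multiset.sum_replicate, smul_eq_mul] at hsum
  have hsupp : (π t).support = (Finset.univ.filter fun c : Ω => t • c = c)ᶜ := by
    ext c
    simp [π]
  have hfix : (fixedBy Ω t).ncard = (Finset.univ.filter fun c : Ω => t • c = c).card := by
    rw [← Set.ncard_coe_finset]
    congr 1
    ext c
    simp
  rw [hsupp, Finset.card_compl, ← hfix] at hsum
  rw [Equiv.Perm.sign_of_cycleType, hj, Multiset.sum_replicate, Multiset.card_replicate, smul_eq_mul] at hsign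
  rcases Nat.even_or_odd ((j + 1) * 2 + (j + 1)) with ⟨m, hm⟩ | hodd
  · rw [← Nat.card_eq_fintype_card] at hsum
    omega
  · rw [hodd.neg_one_pow] at hsign
    exact absurd hsign (by decide)

variable [Finite G]

/-- A central involution in a non-trivial Sylow 2-subgroup. -/
theorem exists_central_involution (S : Sylow 2 G) (h2 : 2 ∣ Nat.card G) :
    ∃ z ∈ S, orderOf z = 2 ∧ ∀ s ∈ S, s * z = z * s := by
  have : Fact (Nat.Prime 2) := ⟨Nat.prime_two⟩
  have : Nontrivial (S : Subgroup G) := by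
    rw [← Finite.one_lt_card_iff_nontrivial]
    exact Nat.le_of_dvd Nat.card_pos (S.dvd_card_of_dvd_card h2)
  have := S.2.center_nontrivial
  obtain ⟨⟨⟨c, hcS⟩, hcc⟩, hc1⟩ := exists_ne (1 : center (S : Subgroup G))
  obtain ⟨k, hk⟩ := IsPGroup.iff_orderOf.mp S.2 ⟨c, hcS⟩
  rw [← Subgroup.orderOf_coe] at hk
  have hk0 : k ≠ 0 := fun e => hc1 (Subtype.ext (Subtype.ext (orderOf_eq_one_iff.mp (by rw [hk, e, pow_zero]))))
  obtain ⟨z, hz, hzo⟩ := exists_involution_zpowers (d := c) (hk ▸ dvd_pow_self 2 hk0) (isOfFinOrder_of_finite c)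
  refine ⟨z, zpowers_le.mpr hcS hz, hzo, fun s hs => ?_⟩
  obtain ⟨i, rfl⟩ := mem_zpowers_iff.mp hz
  exact ((show Commute s c from congrArg Subtype.val (mem_center_iff.mp hcc ⟨s, hs⟩)).zpow_right i).eq

/-- If all involutions of `S` fix the same proper non-empty set, its stabiliser is strongly embedded. -/
theorem strongTwo [IsPretransitive G Ω] (S : Sylow 2 G) {T : Set Ω} (hT : T.Nonempty)
    (hlt : T.ncard < Nat.card Ω) (hST : ∀ s ∈ S, s • T = T) {z : G} (hzS : z ∈ S) (hzo : orderOf z = 2)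
    (hall : ∀ y ∈ S, orderOf y = 2 → fixedBy Ω y = T) : Cfsg.IsStronglyEmbedded (stabilizer G T) := by
  have hp2 : Fact (Nat.Prime 2) := ⟨Nat.prime_two⟩
  set K := stabilizer G T with hK
  have hSK : (S : Subgroup G) ≤ K := fun s hs => hST s hs
  have hfixK : ∀ y : G, y ∈ K → orderOf y = 2 → fixedBy Ω y = T := by
    intro y hy hyo
    have hp : IsPGroup 2 (zpowers (⟨y, hy⟩ : K)) := IsPGroup.of_card (n := 1) (by
      rw [Nat.card_zpowers, ← Subgroup.orderOf_coe, pow_one]; exact hyo)
    obtain ⟨Q, hQ⟩ := hp.exists_le_sylow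
    obtain ⟨k, hk⟩ := MulAction.exists_smul_eq K Q (S.subtype hSK)
    have hm : (k : G) * y * (k : G)⁻¹ ∈ S := by
      have h1 : k * ⟨y, hy⟩ * k⁻¹ ∈ ((k • Q : Sylow 2 K) : Subgroup K) := by
        rw [Sylow.coe_subgroup_smul]
        exact Subgroup.smul_mem_pointwise_smul _ (MulAut.conj k) _ (hQ (mem_zpowers _))
      rw [hk] at h1
      exact h1
    have h1 := hall _ hm ((orderOf_conj _ _).trans hyo)
    rw [fixedBy_conj, smul_eq_iff_eq_inv_smul] at h1
    rw [h1]
    exact mem_stabilizer_iff.mp (K.inv_mem k.2)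
  refine ⟨stable_proper hT hlt, ?_, fun g hg => ?_⟩
  · rw [even_iff_two_dvd, ← hzo]
    exact K.orderOf_dvd_natCard (hSK hzS)
  · rw [Nat.odd_iff, ← Nat.not_even_iff, even_iff_two_dvd]
    intro hd
    obtain ⟨⟨y, hyK, hyg⟩, hy⟩ := exists_prime_orderOf_dvd_card' 2 hd
    rw [← Subgroup.orderOf_coe] at hy
    obtain ⟨u, hu, rfl⟩ := hyg
    have h1 : fixedBy Ω (g * u * g⁻¹) = T := hfixK _ hyK hy
    have h2 : orderOf (g * u * g⁻¹) = 2 := hy
    rw [orderOf_conj] at h2
    rw [fixedBy_conj, hfixK u hu h2] at h1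
    exact hg h1

/-- A 2-subgroup stabilising at most three points has image of order at most two. -/
theorem card_le_two_mul (U : Subgroup G) (hU : IsPGroup 2 U) {T : Set Ω} (hT : T.ncard ≤ 3)
    (hst : ∀ u ∈ U, u • T = T) :
    Nat.card U ≤ 2 * Nat.card (U ⊓ fixingSubgroup G T : Subgroup G) := by
  classical
  have : Fact (Nat.Prime 2) := ⟨Nat.prime_two⟩
  let ρ : U →* Equiv.Perm T :=
    { toFun := fun u => ((toPermHom G Ω) (u : G)).subtypePerm fun b => by
        show (u : G) • b ∈ T ↔ b ∈ T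
        conv_lhs => rw [← hst u u.2]
        exact Set.smul_mem_smul_set_iff
      map_one' := by ext b; simp
      map_mul' := fun a b => Equiv.ext fun c => Subtype.ext
        (show ((a * b : U) : G) • (c : Ω) = (a : G) • (b : G) • (c : Ω) by rw [Subgroup.coe_mul, mul_smul]) }
  have hval : ∀ (u : U) (b : T), ((ρ u b : T) : Ω) = (u : G) • (b : Ω) := fun u b => rfl
  have hker : ∀ u : U, ρ u = 1 → (u : G) ∈ U ⊓ fixingSubgroup G T := fun u hu =>
    Subgroup.mem_inf.mpr ⟨u.2, (mem_fixingSubgroup_iff G).mpr fun b hb => by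
      rw [← hval u ⟨b, hb⟩, hu]; rfl⟩
  have h1 := ρ.ker.card_mul_index
  rw [index_ker] at h1
  have h8 : Nat.card ρ.range ≤ 2 := by
    obtain ⟨k, hk⟩ := (hU.of_surjective ρ.rangeRestrict ρ.rangeRestrict_surjective).exists_card_eq
    have hd := card_subgroup_dvd_card ρ.range
    rw [Nat.card_perm, Nat.card_coe_set_eq, hk] at hd
    have hd' := hd.trans (Nat.factorial_dvd_factorial hT)
    rw [show Nat.factorial 3 = 2 ^ 1 * 3 from rfl] at hd'
    rw [hk]
    exact Nat.le_of_dvd (by norm_num)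
      ((Nat.Coprime.pow_left k (by norm_num : Nat.Coprime 2 3)).dvd_of_dvd_mul_right hd')
  have h2 : Nat.card ρ.ker ≤ Nat.card (U ⊓ fixingSubgroup G T : Subgroup G) := by
    refine Nat.card_le_card_of_injective
      (fun u : ρ.ker => (⟨(u : U), hker u u.2⟩ : (U ⊓ fixingSubgroup G T : Subgroup G))) fun a b e => ?_
    exact Subtype.ext (Subtype.ext (congrArg (Subtype.val : (U ⊓ fixingSubgroup G T : Subgroup G) → G) e))
  rw [← h1, mul_comm 2]
  exact Nat.mul_le_mul h2 h8

/-- Two commuting involutions exhaust a group of order four: it is the four group. -/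
theorem dihedral_of_card_four {X : Type*} [Group X] [Finite X] (h4 : Nat.card X ≤ 4) (hX : IsPGroup 2 X)
    {z x : X} (hz : orderOf z = 2) (hx : orderOf x = 2) (hne : x ≠ z) (hc : x * z = z * x) :
    Nonempty (X ≃* DihedralGroup 2) := by
  classical
  have hz2 : z * z = 1 := by rw [← pow_two, ← hz]; exact pow_orderOf_eq_one z
  have hx2 : x * x = 1 := by rw [← pow_two, ← hx]; exact pow_orderOf_eq_one x
  have hz1 : z ≠ 1 := fun e => by rw [e, orderOf_one] at hz; omega
  have hx1 : x ≠ 1 := fun e => by rw [e, orderOf_one] at hx; omega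
  have hxz1 : x * z ≠ 1 := fun e => hne (mul_right_cancel (e.trans hz2.symm))
  have hxzx : x * z ≠ x := fun e => hz1 (mul_left_cancel (e.trans (mul_one x).symm))
  have hxzz : x * z ≠ z := fun e => hx1 (mul_right_cancel (e.trans (one_mul z).symm))
  have hset : ({1, z, x, x * z} : Set X).ncard = 4 :=
    Set.ncard_eq_four.mpr ⟨1, z, x, x * z, hz1.symm, hx1.symm, hxz1.symm, hne.symm, hxzz.symm, hxzx.symm, rfl⟩
  have hall : ({1, z, x, x * z} : Set X) = Set.univ := Set.eq_of_subset_of_ncard_le (Set.subset_univ _)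
    (by rw [Set.ncard_univ, hset]; exact h4) (Set.toFinite _)
  have hcard : Nat.card X = 4 := by rw [← Set.ncard_univ, ← hall, hset]
  have hsq : ∀ s : X, s * s = 1 := by
    intro s
    have hs : s ∈ ({1, z, x, x * z} : Set X) := hall ▸ Set.mem_univ s
    rcases hs with rfl | rfl | rfl | rfl
    · exact one_mul 1
    · exact hz2
    · exact hx2
    · calc x * z * (x * z) = x * (z * x) * z := by simp only [mul_assoc]
        _ = x * x * (z * z) := by rw [← hc]; simp only [mul_assoc]
        _ = 1 := by rw [hx2, hz2, one_mul]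
  have : Nontrivial X := ⟨⟨z, 1, hz1⟩⟩
  have : IsKleinFour X :=
    ⟨hcard, (Monoid.exponent_eq_prime_iff Nat.prime_two).mpr fun s hs => orderOf_eq_two (hsq s) hs⟩
  exact IsKleinFour.nonempty_mulEquiv

/-- Involutions fixing between one and three points. -/
theorem small_fix [IsPretransitive G Ω] (hn : 4 < Nat.card Ω) (S : Sylow 2 G) {f : ℕ} (hf1 : 1 ≤ f)
    (hf3 : f ≤ 3) (h2 : 2 ∣ Nat.card G) (hall : ∀ y : G, orderOf y = 2 → (fixedBy Ω y).ncard = f) :
    (∃ H : Subgroup G, Cfsg.IsStronglyEmbedded H) ∨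
      ((∃ n : ℕ, Nonempty ((S : Subgroup G) ≃* DihedralGroup n)) ∨ Cfsg.IsQuasiDihedral (S : Subgroup G)) := by
  have hp2 : Fact (Nat.Prime 2) := ⟨Nat.prime_two⟩
  obtain ⟨z, hzS, hzo, hzc⟩ := exists_central_involution S h2
  set Δ := fixedBy Ω z with hΔ
  have hΔf : Δ.ncard = f := hall z hzo
  have hST : ∀ s ∈ S, s • Δ = Δ := fun s hs => stable_of_commute (hzc s hs)
  by_cases hA : ∀ y ∈ S, orderOf y = 2 → fixedBy Ω y = Δ
  · exact Or.inl ⟨_, strongTwo S (Set.nonempty_of_ncard_ne_zero (by omega)) (by omega) hST hzS hzo hA⟩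
  push_neg at hA
  obtain ⟨x, hxS, hxo, hxΔ⟩ := hA
  refine Or.inr ?_
  have hzx : x ≠ z := fun e => hxΔ (by rw [e])
  obtain ⟨b, hb, hbΔ⟩ : ∃ b ∈ fixedBy Ω x, b ∉ Δ := by
    by_contra hn'
    push_neg at hn'
    exact hxΔ (Set.eq_of_subset_of_ncard_le hn' (by rw [hall x hxo, hΔf]) (Set.toFinite _))
  set U := (S : Subgroup G) ⊓ centralizer ({x} : Set G)
  have hW : Nat.card (U ⊓ fixingSubgroup G Δ : Subgroup G) ≤ 3 := by
    refine (card_le_orbit_three (U ⊓ fixingSubgroup G Δ) b (fixedBy Ω x)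
      (fun u hu => smul_mem_fixedBy_of_commute (mem_centralizer_singleton_iff.mp hu.1.2) hb)
      (fun u hu hub => ?_)).trans (by rw [hall x hxo]; exact hf3)
    by_contra hu1
    obtain ⟨k, hk⟩ := IsPGroup.iff_orderOf.mp S.2 ⟨u, hu.1.1⟩
    rw [← Subgroup.orderOf_coe] at hk
    have hk0 : k ≠ 0 := fun e => hu1 (orderOf_eq_one_iff.mp (by rw [hk, e, pow_zero]))
    obtain ⟨y, hy, hyo⟩ := exists_involution_zpowers (d := u) (hk ▸ dvd_pow_self 2 hk0) (isOfFinOrder_of_finite u)
    have hsub : Δ ⊆ fixedBy Ω y := fun c hc =>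
      smul_eq_of_mem_zpowers hy ((mem_fixingSubgroup_iff G).mp hu.2 c hc)
    have h1 : fixedBy Ω y = Δ :=
      (Set.eq_of_subset_of_ncard_le hsub (by rw [hall y hyo, hΔf]) (Set.toFinite _)).symm
    exact hbΔ (h1 ▸ smul_eq_of_mem_zpowers hy hub : b ∈ Δ)
  have hW2 : Nat.card (U ⊓ fixingSubgroup G Δ : Subgroup G) ≤ 2 := by
    obtain ⟨k, hk⟩ := (S.2.to_le (inf_le_left.trans inf_le_left : U ⊓ fixingSubgroup G Δ ≤ (S : Subgroup G))).exists_card_eq
    rw [hk] at hW ⊢
    rcases k with _ | _ | k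
    · norm_num
    · norm_num
    · have : 2 ^ 2 ≤ 2 ^ (k + 1 + 1) := Nat.pow_le_pow_right (by norm_num) (by omega)
      omega
  have hU4 : Nat.card U ≤ 4 := by
    have := card_le_two_mul U (S.2.to_le inf_le_left) (T := Δ) (by omega) fun u hu => hST u hu.1
    omega
  by_cases h8 : 8 ≤ Nat.card (S : Subgroup G)
  · refine Cfsg.Agent.Fixity.dihedral_or_quasiDihedral S.2 (u := ⟨x, hxS⟩) h8
      (by rw [← Subgroup.orderOf_coe]; exact hxo) (le_trans ?_ hU4)
    refine Nat.card_le_card_of_injective (fun c : centralizer ({(⟨x, hxS⟩ : (S : Subgroup G))} : Set (S : Subgroup G)) =>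
      (⟨((c : (S : Subgroup G)) : G), Subgroup.mem_inf.mpr ⟨(c : (S : Subgroup G)).2, mem_centralizer_singleton_iff.mpr
        (congrArg Subtype.val (mem_centralizer_singleton_iff.mp c.2))⟩⟩ : U)) fun a c e => ?_
    exact Subtype.ext (Subtype.ext (congrArg (Subtype.val : U → G) e))
  · have h4 : Nat.card (S : Subgroup G) ≤ 4 := by
      obtain ⟨k, hk⟩ := S.2.exists_card_eq
      rw [hk] at h8 ⊢
      have hk2 : k ≤ 2 := by
        by_contra hk2
        exact h8 (by simpa using Nat.pow_le_pow_right (show 1 ≤ 2 by norm_num) (show 3 ≤ k by omega))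
      simpa using Nat.pow_le_pow_right (show 1 ≤ 2 by norm_num) hk2
    exact Or.inl ⟨2, dihedral_of_card_four h4 S.2 (z := ⟨z, hzS⟩) (x := ⟨x, hxS⟩)
      (by rw [← Subgroup.orderOf_coe]; exact hzo) (by rw [← Subgroup.orderOf_coe]; exact hxo)
      (fun e => hzx (congrArg Subtype.val e)) (Subtype.ext (hzc x hxS))⟩

end Cfsg.Agent.FixityFour
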